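import Mathlib

/-!
# Groups that are the union of the conjugates of two proper subgroups
-/

set_option autoImplicit false

namespace Cfsg.Lib.Cover

universe u v

/-- The group is the union of the conjugates of two proper subgroups. -/
def TwoCover (G : Type u) [Group G] : Prop :=
  ∃ H K : Subgroup G, H ≠ ⊤ ∧ K ≠ ⊤ ∧ ∀ g : G, ∃ x : G, x * g * x⁻¹ ∈ H ∨ x * g * x⁻¹ ∈ K

theorem map_mk_ne_top {G : Type u} [Group G] {N H : Subgroup G} [N.Normal] (hN : N ≤ H) (hH : H ≠ ⊤) :
    H.map (QuotientGroup.mk' N) ≠ ⊤ := by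
  intro h
  apply hH
  have := congrArg (Subgroup.comap (QuotientGroup.mk' N)) h
  rwa [Subgroup.comap_map_eq, QuotientGroup.ker_mk', sup_eq_left.2 hN, Subgroup.comap_top] at this

/-- A cover by subgroups containing a normal subgroup gives one of the quotient. -/
theorem twoCover_quot {G : Type u} [Group G] {N : Subgroup G} [N.Normal] {H K : Subgroup G}
    (hN : N ≤ H) (hN' : N ≤ K) (hH : H ≠ ⊤) (hK : K ≠ ⊤)
    (h : ∀ g : G, ∃ x : G, x * g * x⁻¹ ∈ H ∨ x * g * x⁻¹ ∈ K) : TwoCover (G ⧸ N) := by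
  refine ⟨H.map (QuotientGroup.mk' N), K.map (QuotientGroup.mk' N), map_mk_ne_top hN hH, map_mk_ne_top hN' hK,
    fun g => ?_⟩
  obtain ⟨g, rfl⟩ := QuotientGroup.mk'_surjective N g
  obtain ⟨x, hx⟩ := h g
  refine ⟨QuotientGroup.mk' N x, ?_⟩
  rw [← map_inv, ← map_mul, ← map_mul]
  exact hx.imp (fun hx => Subgroup.mem_map_of_mem _ hx) (fun hx => Subgroup.mem_map_of_mem _ hx)

/-- If every element fixes a point and there are at most two orbits, two stabilisers cover. -/
theorem cover_of_orbits {G : Type u} {X : Type v} [Group G] [MulAction G X] (a b : X)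
    (g : G) (c : X) (hc : g • c = c) (horb : ∃ x : G, x • c = a ∨ x • c = b) :
    ∃ x : G, x * g * x⁻¹ ∈ MulAction.stabilizer G a ∨ x * g * x⁻¹ ∈ MulAction.stabilizer G b := by
  obtain ⟨x, hx⟩ := horb
  refine ⟨x, ?_⟩
  have key : ∀ d, x • c = d → x * g * x⁻¹ ∈ MulAction.stabilizer G d := by
    rintro d rfl
    rw [MulAction.mem_stabilizer_iff, mul_smul, mul_smul, inv_smul_smul, hc]
  exact hx.imp (key a) (key b)

end Cfsg.Lib.Cover
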