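import Cfsg.Agent.Lib.Cover.Basic

/-!
# Endomorphisms killed by an irreducible polynomial
-/

set_option autoImplicit false

namespace Cfsg.Lib.Cover

open Polynomial Module

variable {F : Type*} [Field F] {V : Type*} [AddCommGroup V] [Module F V]

/-- The field algebra of an endomorphism killed by an irreducible polynomial. -/
noncomputable def rho {p : F[X]} (g : Module.End F V) (h : aeval g p = 0) : AdjoinRoot p →ₐ[F] Module.End F V :=
  Ideal.Quotient.liftₐ (Ideal.span {p}) (aeval g) fun a ha => by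
    obtain ⟨b, rfl⟩ := Ideal.mem_span_singleton.1 ha
    rw [map_mul, h, zero_mul]

theorem rho_mk {p : F[X]} (g : Module.End F V) (h : aeval g p = 0) (a : F[X]) :
    rho g h (AdjoinRoot.mk p a) = aeval g a := rfl

theorem rho_root {p : F[X]} (g : Module.End F V) (h : aeval g p = 0) : rho g h (AdjoinRoot.root p) = g := by
  rw [← AdjoinRoot.mk_X, rho_mk, aeval_X]

theorem rho_apply_injective {p : F[X]} (hp : Irreducible p) (g : Module.End F V) (h : aeval g p = 0)
    {v : V} (hv : v ≠ 0) : Function.Injective fun k => rho g h k v := by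
  haveI : Fact (Irreducible p) := ⟨hp⟩
  intro a b hab
  by_contra hne
  apply hv
  have h1 : rho g h (a - b) v = 0 := by
    rw [map_sub, LinearMap.sub_apply, sub_eq_zero]
    exact hab
  have h2 : rho g h ((a - b)⁻¹ * (a - b)) v = 0 := by
    rw [map_mul, Module.End.mul_apply, h1, map_zero]
  rwa [inv_mul_cancel₀ (sub_ne_zero.2 hne), map_one] at h2

/-- The orbit map of a vector, onto the space when the dimension is the degree. -/
theorem rho_apply_bijective [FiniteDimensional F V] {p : F[X]} (hp : Irreducible p) (g : Module.End F V)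
    (h : aeval g p = 0) (hd : finrank F V = p.natDegree) {v : V} (hv : v ≠ 0) :
    Function.Bijective fun k => rho g h k v := by
  let e : AdjoinRoot p →ₗ[F] V := (LinearMap.applyₗ v).comp (rho g h).toLinearMap
  have he : Function.Injective e := rho_apply_injective hp g h hv
  haveI : Module.Finite F (AdjoinRoot p) := (AdjoinRoot.powerBasis hp.ne_zero).finite
  refine ⟨he, (LinearMap.injective_iff_surjective_of_finrank_eq_finrank ?_).1 he⟩
  rw [hd, (AdjoinRoot.powerBasis hp.ne_zero).finrank, AdjoinRoot.powerBasis_dim]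

theorem aeval_restrict (g : Module.End F V) {W : Submodule F V} (hW : ∀ x ∈ W, g x ∈ W) (a : F[X]) (x : W) :
    ((aeval (g.restrict hW) a x : W) : V) = aeval g a (x : V) := by
  induction a using Polynomial.induction_on generalizing x with
  | C c => simp
  | add a b ha hb => simp [ha, hb]
  | monomial k c hk =>
    rw [pow_succ, ← mul_assoc, map_mul (aeval (g.restrict hW)) (C c * X ^ k) X, map_mul (aeval g) (C c * X ^ k) X,
      Module.End.mul_apply, Module.End.mul_apply, hk, aeval_X, aeval_X]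
    rfl

theorem exists_minimal_invariant [FiniteDimensional F V] (g : Module.End F V) {U : Submodule F V} (hU0 : U ≠ ⊥)
    (hU : ∀ x ∈ U, g x ∈ U) : ∃ X : Submodule F V, X ≤ U ∧ X ≠ ⊥ ∧ (∀ x ∈ X, g x ∈ X) ∧
      ∀ Y : Submodule F V, Y ≤ X → Y ≠ ⊥ → (∀ x ∈ Y, g x ∈ Y) → Y = X := by
  classical
  have hex : ∃ d, ∃ X : Submodule F V, X ≤ U ∧ X ≠ ⊥ ∧ (∀ x ∈ X, g x ∈ X) ∧ finrank F X = d :=
    ⟨_, U, le_rfl, hU0, hU, rfl⟩
  obtain ⟨X, h1, h2, h3, h4⟩ := Nat.find_spec hex
  refine ⟨X, h1, h2, h3, fun Y hY hY0 hYi => Submodule.eq_of_le_of_finrank_le hY ?_⟩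
  rw [h4]
  exact Nat.find_min' hex ⟨Y, hY.trans h1, hY0, hYi, rfl⟩

theorem exists_eigvec_of_finrank_one [FiniteDimensional F V] (g : Module.End F V) {W : Submodule F V}
    (hW : ∀ x ∈ W, g x ∈ W) (h1 : finrank F W = 1) : ∃ v ∈ W, v ≠ 0 ∧ ∃ μ : F, g v = μ • v := by
  obtain ⟨v, hv0, hv⟩ := finrank_eq_one_iff'.1 h1
  obtain ⟨c, hc⟩ := hv ⟨g v, hW _ v.2⟩
  exact ⟨v, v.2, fun h => hv0 (Subtype.ext h), c, (congrArg Subtype.val hc).symm⟩

/-- A minimal invariant subspace carries an irreducible polynomial of degree its dimension. -/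
theorem exists_irreducible_of_minimal [FiniteDimensional F V] (g : Module.End F V) {W : Submodule F V}
    (hW0 : W ≠ ⊥) (hW : ∀ x ∈ W, g x ∈ W)
    (hmin : ∀ Y : Submodule F V, Y ≤ W → Y ≠ ⊥ → (∀ x ∈ Y, g x ∈ Y) → Y = W) :
    ∃ p : F[X], p.Monic ∧ Irreducible p ∧ p.natDegree = finrank F W ∧ ∀ x ∈ W, aeval g p x = 0 := by
  haveI : Nontrivial W := (Submodule.nontrivial_iff_ne_bot).2 hW0
  set gW := g.restrict hW
  have hint : IsIntegral F gW := IsIntegral.of_finite F gW
  obtain ⟨p, hpm, hp, hdvd⟩ := Polynomial.exists_monic_irreducible_factor (minpoly F gW)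
    (minpoly.not_isUnit F gW)
  have hker : ∃ x : W, x ≠ 0 ∧ aeval gW p x = 0 := by
    by_contra hc
    push Not at hc
    obtain ⟨r, hr⟩ := hdvd
    have hinj : Function.Injective (aeval gW p) := (injective_iff_map_eq_zero _).2 fun x hx => by
      by_contra h
      exact hc x h hx
    have hr0 : r ≠ 0 := fun h => minpoly.ne_zero hint (by rw [hr, h, mul_zero])
    have h0 : aeval gW r = 0 := LinearMap.ext fun x => hinj (by
      rw [← Module.End.mul_apply, ← map_mul, ← hr, minpoly.aeval, LinearMap.zero_apply,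
        map_zero])
    have h1 := natDegree_le_of_dvd (minpoly.dvd F gW h0) hr0
    rw [hr, natDegree_mul hp.ne_zero hr0] at h1
    have := hp.natDegree_pos
    omega
  obtain ⟨v, hv0, hv⟩ := hker
  let Y : Submodule F V := (LinearMap.ker (aeval gW p)).map W.subtype
  have hY : Y = W := by
    refine hmin Y (Submodule.map_subtype_le W _) ?_ ?_
    · intro h
      have : (v : V) ∈ Y := ⟨v, hv, rfl⟩
      rw [h, Submodule.mem_bot] at this
      exact hv0 (Subtype.ext this)
    · rintro _ ⟨x, hx, rfl⟩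
      refine ⟨gW x, ?_, rfl⟩
      rw [SetLike.mem_coe, LinearMap.mem_ker] at hx ⊢
      have hc := congrArg (aeval gW) (mul_comm p (X : F[X]))
      rw [map_mul, map_mul, aeval_X] at hc
      rw [← Module.End.mul_apply, hc, Module.End.mul_apply, hx, map_zero]
  have hp0 : ∀ x : W, aeval gW p x = 0 := fun x => by
    have : (x : V) ∈ Y := by rw [hY]; exact x.2
    obtain ⟨y, hy, e⟩ := this
    rw [← (Subtype.ext e : y = x)]
    exact hy
  refine ⟨p, hpm, hp, ?_, fun x hx => by
    rw [← aeval_restrict g hW p ⟨x, hx⟩, hp0]; rfl⟩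
  have hp0' : aeval gW p = 0 := LinearMap.ext hp0
  let e : AdjoinRoot p →ₗ[F] W := (LinearMap.applyₗ v).comp (rho gW hp0').toLinearMap
  have he : Function.Injective e := rho_apply_injective hp gW hp0' hv0
  have hsurj : (LinearMap.range e).map W.subtype = W := by
    refine hmin _ (Submodule.map_subtype_le W _) ?_ ?_
    · intro h
      have : (v : V) ∈ (LinearMap.range e).map W.subtype := ⟨v, ⟨1, by simp [e]⟩, rfl⟩
      rw [h, Submodule.mem_bot] at this
      exact hv0 (Subtype.ext this)
    · rintro _ ⟨_, ⟨k, rfl⟩, rfl⟩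
      refine ⟨e (AdjoinRoot.root p * k), ⟨_, rfl⟩, ?_⟩
      show ((rho gW hp0' (AdjoinRoot.root p * k) v : W) : V) = g ((rho gW hp0' k v : W) : V)
      rw [map_mul, rho_root, Module.End.mul_apply]
      rfl
  have h1 := LinearMap.finrank_range_of_inj he
  rw [← hsurj, Submodule.finrank_map_subtype_eq, h1, (AdjoinRoot.powerBasis hp.ne_zero).finrank,
    AdjoinRoot.powerBasis_dim]

end Cfsg.Lib.Cover
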