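import Cfsg.Agent.Lib.Cover.Basic
import Cfsg.Agent.Lib.Linear.SympQuadForms
import Cfsg.Agent.Lib.Linear.OrthInvolutionStd

/-!
# `PSp_{2m}(q)`, `q` even, is the union of the conjugates of two orthogonal groups

Every isometry of the alternating form fixes a quadratic form with that polar form, and there are two
orbits of these forms.
-/

set_option autoImplicit false

namespace Cfsg.Lib.Cover

open Cfsg.Lib.Linear Cfsg.Lib.Linear.Orth
open scoped Matrix

variable {F : Type} [Field F] [Fintype F] [CharP F 2] {m : ℕ}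

/-- The isometries of the standard alternating form fixing `Φ`. -/
def fixQ (Φ : (Fin m ⊕ Fin m → F) → F) : Subgroup (Matrix.symplecticGroup (Fin m) F) where
  carrier := {A | ∀ v, Φ (A.1 *ᵥ v) = Φ v}
  one_mem' v := by simp
  mul_mem' := by
    intro a b (ha : ∀ v, Φ (a.1 *ᵥ v) = Φ v) (hb : ∀ v, Φ (b.1 *ᵥ v) = Φ v) v
    rw [Submonoid.coe_mul, ← Matrix.mulVec_mulVec, ha, hb]
  inv_mem' := by
    intro a (ha : ∀ v, Φ (a.1 *ᵥ v) = Φ v) v
    conv_rhs => rw [← Matrix.one_mulVec v, ← Submonoid.coe_one, ← mul_inv_cancel a, Submonoid.coe_mul,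
      ← Matrix.mulVec_mulVec, ha]

theorem mem_fixQ {Φ : (Fin m ⊕ Fin m → F) → F} {A : Matrix.symplecticGroup (Fin m) F} :
    A ∈ fixQ Φ ↔ ∀ v, Φ (A.1 *ᵥ v) = Φ v := Iff.rfl

theorem center_le_fixQ {Φ : (Fin m ⊕ Fin m → F) → F} :
    Subgroup.center (Matrix.symplecticGroup (Fin m) F) ≤ fixQ Φ := by
  intro A hA
  have h : Symp.spEquiv A ∈ Subgroup.center _ := Subgroup.mem_center_iff.2 fun g => by
    obtain ⟨g, rfl⟩ := Symp.spEquiv.surjective g
    rw [← map_mul, ← map_mul, Subgroup.mem_center_iff.1 hA g]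
  obtain ⟨a, ha, hv⟩ :=
    (Symp.mem_center_iff_smul (Symp.spB_nondegenerate m F) (Symp.spB_isAlt m F) _).1 h
  have ha1 : a = 1 := sq_injective_two (CharTwo.two_eq_zero) (by rw [one_pow, sq, ha])
  intro v
  rw [← Symp.spEquiv_apply, hv, ha1, one_smul]

/-- Every isometry fixes a translate of the standard form. -/
theorem exists_fixed {Q : (Fin m ⊕ Fin m → F) → F} (C : Space Q (Symp.spB m F))
    (A : Matrix.symplecticGroup (Fin m) F) : ∃ c, A ∈ fixQ (tr Q (Symp.spB m F) c) := by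
  have h2 : (2 : F) = 0 := CharTwo.two_eq_zero
  have hB := (Symp.mem_symplecticGroup_iff A.1).1 A.2
  have CA : Space (fun v => Q (A.1 *ᵥ v)) (Symp.spB m F) := ⟨fun c v => by
      simp only [Matrix.mulVec_smul, C.smul], fun u v => by
      simp only [QuadraticMap.polar, Matrix.mulVec_add]
      exact (C.polar _ _).trans (hB u v), C.nondeg⟩
  obtain ⟨a, ha⟩ := exists_tr C h2 CA
  let D : (Fin m ⊕ Fin m → F) →ₗ[F] (Fin m ⊕ Fin m → F) := Matrix.mulVecLin (A.1 - 1)
  have hker : ∀ v, D v = 0 → Symp.spB m F a v = 0 := fun v hv => by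
    have hv' : A.1 *ᵥ v = v := by
      simpa [D, Matrix.sub_mulVec, sub_eq_zero] using hv
    have := congrFun ha v
    simp only [tr, hv'] at this
    exact pow_eq_zero_iff two_ne_zero |>.1 (add_eq_left.1 this)
  obtain ⟨ψ, hψ⟩ : ∃ ψ : (Fin m ⊕ Fin m → F) →ₗ[F] F, ψ.comp D = Symp.spB m F a := by
    have : Symp.spB m F a ∈ (LinearMap.ker D).dualAnnihilator :=
      (Submodule.mem_dualAnnihilator _).2 fun v hv => hker v (LinearMap.mem_ker.1 hv)
    rw [← LinearMap.range_dualMap_eq_dualAnnihilator_ker] at this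
    exact this
  refine ⟨((Symp.spB m F).toDual (Symp.spB_nondegenerate m F)).symm ψ, fun v => ?_⟩
  have hc : ∀ w, Symp.spB m F (((Symp.spB m F).toDual (Symp.spB_nondegenerate m F)).symm ψ) w = ψ w :=
    fun w => LinearMap.BilinForm.apply_toDual_symm_apply ψ w
  simp only [tr, hc]
  have h1 := congrFun ha v
  simp only [tr] at h1
  have h3 : ψ (A.1 *ᵥ v) = Symp.spB m F a v + ψ v := by
    rw [← hψ]
    simp [D, Matrix.sub_mulVec]
  rw [← h1, h3]
  linear_combination (Symp.spB m F a v ^ 2 + Symp.spB m F a v * ψ v) * h2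

theorem inJ_add {s t : F} (hs : ¬ InJ s) (ht : ¬ InJ t) : InJ (s + t) := by
  have h2 : (2 : F) = 0 := CharTwo.two_eq_zero
  rw [← mem_range_asHom h2] at hs ht ⊢
  have hidx : (asHom (F := F) h2).range.index = 2 := by
    have h1 := (asHom (F := F) h2).range.card_mul_index
    have h3 := two_card_J (F := F) h2
    have h4 : 0 < Nat.card (asHom (F := F) h2).range := Nat.card_pos
    nlinarith
  exact (AddSubgroup.add_mem_iff_of_index_two hidx).2 (iff_of_false hs ht)

theorem exists_not_inJ : ∃ t : F, ¬ InJ t := by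
  by_contra h
  push Not at h
  have h2 : (2 : F) = 0 := CharTwo.two_eq_zero
  have h3 := two_card_J (F := F) h2
  have : (asHom (F := F) h2).range = ⊤ := eq_top_iff.2 fun t _ => h t
  rw [this, AddSubgroup.card_top] at h3
  have : 0 < Nat.card F := Nat.card_pos
  omega

theorem fixQ_ne_top {Φ : (Fin m ⊕ Fin m → F) → F} (C : Space Φ (Symp.spB m F)) {a : Fin m ⊕ Fin m → F}
    (ha : a ≠ 0) (hJ : InJ (Φ a)) : fixQ Φ ≠ ⊤ := by
  intro h
  have h2 : (2 : F) = 0 := CharTwo.two_eq_zero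
  obtain ⟨g, hg, hgQ⟩ := exists_trans C h2 hJ
  let A : Matrix.symplecticGroup (Fin m) F := ⟨g.val, (Symp.mem_symplecticGroup_iff _).2 hg⟩
  have hA : A ∈ fixQ Φ := by rw [h]; exact Subgroup.mem_top A
  refine ha (tr_injective C h2 (b := 0) (funext fun v => ?_))
  rw [tr_zero, ← hgQ v]
  exact hA v

theorem twoCover_PSp_even (hm : 2 ≤ m) : TwoCover (Cfsg.PSp m F) := by
  classical
  have h2 : (2 : F) = 0 := CharTwo.two_eq_zero
  have C := OrthInvol.plus_space (F := F) m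
  obtain ⟨t, ht⟩ := exists_not_inJ (F := F)
  set i0 : Fin m := ⟨0, by omega⟩
  set i1 : Fin m := ⟨1, by omega⟩
  have hi : i0 ≠ i1 := by simp [i0, i1]
  set a0 : Fin m ⊕ Fin m → F := Pi.single (.inl i0) 1 + Pi.single (.inr i0) t with ha0
  have hQa0 : Cfsg.quadFormPlus m F a0 = t := by
    simp [Cfsg.quadFormPlus, ha0, Pi.single_apply]
  set s : Fin m ⊕ Fin m → F := Pi.single (.inl i1) 1 with hs
  have hs0 : s ≠ 0 := by simp [hs]
  have hQs : Cfsg.quadFormPlus m F s = 0 := by simp [Cfsg.quadFormPlus, hs, Pi.single_apply]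
  have hBs : Symp.spB m F a0 s = 0 := by
    rw [← C.polar, QuadraticMap.polar, hQa0, hQs]
    have : Cfsg.quadFormPlus m F (a0 + s) = t := by
      simp [Cfsg.quadFormPlus, ha0, hs, Pi.single_apply, add_mul, Finset.sum_add_distrib, hi.symm, hi]
    rw [this]; ring
  have C0 := tr_space C h2 a0
  refine twoCover_quot (H := fixQ (Cfsg.quadFormPlus m F))
    (K := fixQ (tr (Cfsg.quadFormPlus m F) (Symp.spB m F) a0)) center_le_fixQ center_le_fixQ
    (fixQ_ne_top C hs0 ⟨0, by rw [hQs]; ring⟩)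
    (fixQ_ne_top C0 hs0 ⟨0, by simp [tr, hQs, hBs]⟩) fun A => ?_
  obtain ⟨c, hc⟩ := exists_fixed C A
  suffices key : ∀ (Φ : (Fin m ⊕ Fin m → F) → F), Space Φ (Symp.spB m F) → ∀ d, InJ (Φ d) →
      tr Φ (Symp.spB m F) d = tr (Cfsg.quadFormPlus m F) (Symp.spB m F) c → ∃ x, x * A * x⁻¹ ∈ fixQ Φ by
    by_cases hJ : InJ (Cfsg.quadFormPlus m F c)
    · obtain ⟨x, hx⟩ := key _ C c hJ rfl
      exact ⟨x, Or.inl hx⟩
    · have hJ' : InJ (tr (Cfsg.quadFormPlus m F) (Symp.spB m F) a0 (a0 + c)) := by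
        obtain ⟨u, hu⟩ := inJ_add ht hJ
        refine ⟨u + Symp.spB m F a0 c, ?_⟩
        simp only [tr, C.add, map_add, C.self, hQa0]
        linear_combination hu + (u * Symp.spB m F a0 c - 2 * t ^ 2 - 2 * t * Symp.spB m F a0 c) * h2
      obtain ⟨x, hx⟩ := key _ C0 (a0 + c) hJ' (by
        rw [tr_tr h2]
        congr 1
        funext i
        simp only [Pi.add_apply]
        linear_combination a0 i * h2)
      exact ⟨x, Or.inr hx⟩
  intro Φ CΦ d hd he
  obtain ⟨g, hg, hgQ⟩ := exists_trans CΦ h2 hd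
  let x : Matrix.symplecticGroup (Fin m) F := ⟨g.val, (Symp.mem_symplecticGroup_iff _).2 hg⟩
  refine ⟨x, fun v => ?_⟩
  have e : ∀ w, Φ (x.1 *ᵥ w) = tr (Cfsg.quadFormPlus m F) (Symp.spB m F) c w := fun w => by rw [← he]; exact hgQ w
  have hinv : x.1 *ᵥ ((x⁻¹ : Matrix.symplecticGroup (Fin m) F).1 *ᵥ v) = v := by
    rw [Matrix.mulVec_mulVec, ← Submonoid.coe_mul, mul_inv_cancel, Submonoid.coe_one, Matrix.one_mulVec]
  rw [Submonoid.coe_mul, Submonoid.coe_mul, ← Matrix.mulVec_mulVec, ← Matrix.mulVec_mulVec, e,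
    mem_fixQ.1 hc, ← e, hinv]

end Cfsg.Lib.Cover
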