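import Cfsg.Agent.Lib.Cover.G2Maps
import Cfsg.Agent.Lib.Cover.PSpEven

/-!
# `G_2(2^a)` is the union of the conjugates of two proper subgroups

Every automorphism fixes an element of trace one modulo the scalars, and those elements form two orbits,
told apart by the class of the norm modulo `c^2 + c`.
-/

set_option autoImplicit false

namespace Cfsg.Lib.Cover.G2C

open Cfsg.Lie
open scoped Matrix MatrixGroups

variable {F : Type} [Field F] [CharP F 2]

theorem two0 : (2 : F) = 0 := CharTwo.two_eq_zero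

set_option maxHeartbeats 4000000 in
theorem ph_mul (v : Fin 3 → F) (x y : Fin 8 → F) : ph v (zornMul x y) = zornMul (ph v x) (ph v y) := by
  funext i
  fin_cases i <;> simp [ph, mkO, zornMul, dot3, cross3, CharTwo.sub_eq_add] <;> ring_nf <;>
    simp [CharTwo.two_eq_zero, show (4 : F) = 0 by linear_combination 2 * two0 (F := F)]

set_option maxHeartbeats 1000000 in
theorem ph_ph (v : Fin 3 → F) (x : Fin 8 → F) : ph v (ph v x) = x := by
  funext i
  fin_cases i <;> simp [ph, mkO, dot3, cross3, CharTwo.sub_eq_add] <;> ring_nf <;>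
    simp [CharTwo.two_eq_zero, show (4 : F) = 0 by linear_combination 2 * two0 (F := F)]

theorem exists_ph (v : Fin 3 → F) : ∃ g : G2 F, ∀ x, (g : GL (Fin 8) F).val *ᵥ x = ph v x :=
  exists_elem (ph v) (fun x hx => by rw [← ph_ph v x, hx, map_zero]) (ph_mul v)

theorem ph_apply (v : Fin 3 → F) (α : F) (a b : Fin 3 → F) (β : F) :
    ph v (mkO α a b β) = mkO (α + dot3 b v) ((α + β + dot3 b v) • v + a) (b + cross3 v a) (β + dot3 b v) := by
  show mkO (mkO α a b β 0 + dot3 (zB F (mkO α a b β)) v) _ _ _ = _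
  rw [zA_mkO, zB_mkO]
  rfl

theorem slm_apply (M : Matrix (Fin 3) (Fin 3) F) (α : F) (a b : Fin 3 → F) (β : F) :
    slm M (mkO α a b β) = mkO α (M.adjugateᵀ *ᵥ a) (M *ᵥ b) β := by
  show mkO (mkO α a b β 0) _ _ (mkO α a b β 7) = _
  rw [zA_mkO, zB_mkO]
  rfl

theorem swp_apply (α : F) (a b : Fin 3 → F) (β : F) : swp (mkO α a b β) = mkO β b a α := by
  show mkO (mkO α a b β 7) _ _ (mkO α a b β 0) = _
  rw [zA_mkO, zB_mkO]
  rfl

/-- The first unit vector. -/
def e0 : Fin 3 → F := ![1, 0, 0]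

/-- The representative of trace one and norm `N`. -/
def yN (N : F) : Fin 8 → F := mkO 1 ![N, 0, 0] e0 0

theorem tr8_mkO (α : F) (a b : Fin 3 → F) (β : F) : tr8 (mkO α a b β) = α + β := rfl

theorem nm8_mkO (α : F) (a b : Fin 3 → F) (β : F) : nm8 (mkO α a b β) = α * β + dot3 a b := by
  show α * β + dot3 (zA F (mkO α a b β)) (zB F (mkO α a b β)) = _
  rw [zA_mkO, zB_mkO]

/-- The relation of lying in one orbit. -/
def Rel (x y : Fin 8 → F) : Prop := ∃ g : G2 F, (g : GL (Fin 8) F).val *ᵥ x = y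

theorem Rel.trans {x y z : Fin 8 → F} (h : Rel x y) (h' : Rel y z) : Rel x z := by
  obtain ⟨g, hg⟩ := h
  obtain ⟨g', hg'⟩ := h'
  exact ⟨g' * g, by rw [Subgroup.coe_mul, Units.val_mul, ← Matrix.mulVec_mulVec, hg, hg']⟩

theorem exists_SL_e0 {b : Fin 3 → F} (hb : b ≠ 0) : ∃ M : SL(3, F), M.1 *ᵥ b = e0 := by
  obtain ⟨g, c, hg⟩ := exists_SL_line b e0 hb (fun h => one_ne_zero (α := F) (congrFun h 0))
  have hc : c ≠ 0 := fun h => Cfsg.Lib.Linear.AutPSL.mulVec_ne_zero g hb (by rw [hg, h, zero_smul])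
  let D : SL(3, F) := ⟨!![c⁻¹, 0, 0; 0, c, 0; 0, 0, 1], by simp [Matrix.det_fin_three, hc]⟩
  refine ⟨D * g, ?_⟩
  rw [Matrix.SpecialLinearGroup.coe_mul, ← Matrix.mulVec_mulVec, hg, Matrix.mulVec_smul]
  funext i
  fin_cases i <;> simp [D, e0, Matrix.mulVec, dotProduct, Fin.sum_univ_three, hc]

theorem rel_slm (M : SL(3, F)) (α : F) (a b : Fin 3 → F) (β : F) :
    Rel (mkO α a b β) (mkO α (M.1.adjugateᵀ *ᵥ a) (M.1 *ᵥ b) β) := by
  obtain ⟨g, hg⟩ := exists_slm M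
  exact ⟨g, by rw [hg, slm_apply]⟩

theorem rel_ph (v : Fin 3 → F) (α : F) (a b : Fin 3 → F) (β : F) :
    Rel (mkO α a b β)
      (mkO (α + dot3 b v) ((α + β + dot3 b v) • v + a) (b + cross3 v a) (β + dot3 b v)) := by
  obtain ⟨g, hg⟩ := exists_ph v
  exact ⟨g, by rw [hg, ph_apply]⟩

theorem exists_b_ne_zero (α : F) (a b : Fin 3 → F) (β : F) (h1 : α + β = 1) :
    ∃ α' a' b' β', Rel (mkO α a b β) (mkO α' a' b' β') ∧ b' ≠ 0 ∧ α' + β' = 1 := by
  by_cases hb : b ≠ 0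
  · exact ⟨α, a, b, β, ⟨1, by simp⟩, hb, h1⟩
  rw [not_not] at hb
  subst hb
  by_cases ha : a = 0
  · subst ha
    obtain ⟨g, hg⟩ := exists_ph (F := F) e0
    obtain ⟨g', hg'⟩ := exists_swp (F := F) two0
    refine ⟨β, 0, e0, α, ⟨g' * g, ?_⟩, fun h => one_ne_zero (α := F) (congrFun h 0), by rw [add_comm]; exact h1⟩
    rw [Subgroup.coe_mul, Units.val_mul, ← Matrix.mulVec_mulVec, hg, hg', ph_apply, swp_apply]
    simp [dot3, cross3, h1]
    funext i
    fin_cases i <;> rfl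
  obtain ⟨v, hv⟩ : ∃ v : Fin 3 → F, cross3 v a ≠ 0 := by
    by_contra h
    push Not at h
    refine ha (funext fun i => ?_)
    have ha1 := congrFun (h ![1, 0, 0]) 2
    have ha2 := congrFun (h ![1, 0, 0]) 1
    have ha0 := congrFun (h ![0, 1, 0]) 2
    simp [cross3] at ha0 ha1 ha2
    fin_cases i <;> simp [ha0, ha1, ha2]
  refine ⟨_, _, _, _, rel_ph v α a 0 β, by rwa [zero_add], ?_⟩
  linear_combination h1 + dot3 0 v * two0 (F := F)

theorem rel_yN {x : Fin 8 → F} (hx : tr8 x = 1) : ∃ N, Rel x (yN N) := by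
  have h2 := two0 (F := F)
  obtain ⟨α, a, b, β, hr, hb, h1⟩ := exists_b_ne_zero (x 0) (zA F x) (zB F x) (x 7) hx
  rw [mkO_self] at hr
  obtain ⟨M, hM⟩ := exists_SL_e0 hb
  have hr1 := hr.trans (rel_slm M α a b β)
  rw [hM] at hr1
  -- the first scalar becomes one
  set a1 := M.1.adjugateᵀ *ᵥ a
  have hd : dot3 e0 ![α + 1, 0, 0] = α + 1 := by simp [dot3, e0]
  have hr2 := hr1.trans (rel_ph ![α + 1, 0, 0] α a1 e0 β)
  rw [hd, show α + (α + 1) = 1 by linear_combination α * h2, show β + (α + 1) = 0 by linear_combination h1 + h2] at hr2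
  have hb2 : e0 + cross3 ![α + 1, 0, 0] a1 ≠ 0 := fun h => by simpa [e0, cross3] using congrFun h 0
  set a2 := (α + β + (α + 1)) • ![α + 1, 0, 0] + a1
  obtain ⟨M', hM'⟩ := exists_SL_e0 hb2
  have hr3 := hr2.trans (rel_slm M' 1 a2 _ 0)
  rw [hM'] at hr3
  set a3 := M'.1.adjugateᵀ *ᵥ a2
  by_cases hN : a3 0 = 0
  · have hr4 := hr3.trans (rel_ph a3 1 a3 e0 0)
    have hd3 : dot3 e0 a3 = 0 := by simp [dot3, e0, hN]
    have hcr : cross3 a3 a3 = 0 := by funext i; fin_cases i <;> simp [cross3] <;> ring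
    rw [hd3, hcr, add_zero, add_zero, add_zero, add_zero, one_smul, CharTwo.add_self_eq_zero] at hr4
    refine ⟨0, ?_⟩
    have h0 : (![0, 0, 0] : Fin 3 → F) = 0 := by funext i; fin_cases i <;> rfl
    rw [yN, h0]
    exact hr4
  · let M'' : SL(3, F) := ⟨!![1, a3 1 / a3 0, a3 2 / a3 0; 0, 1, 0; 0, 0, 1], by simp [Matrix.det_fin_three]⟩
    have hr4 := hr3.trans (rel_slm M'' 1 a3 e0 0)
    have ha : M''.1.adjugateᵀ *ᵥ a3 = ![a3 0, 0, 0] := by
      funext i
      fin_cases i <;>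
        simp [M'', Matrix.adjugate_fin_three, Matrix.mulVec, dotProduct, Fin.sum_univ_three] <;>
        field_simp <;> ring_nf <;> simp [h2]
    have hb4 : M''.1 *ᵥ e0 = e0 := by
      funext i
      fin_cases i <;> simp [M'', e0, Matrix.mulVec, dotProduct, Fin.sum_univ_three]
    rw [ha, hb4] at hr4
    exact ⟨a3 0, hr4⟩

/-- The polar of the norm. -/
def pol8 (x y : Fin 8 → F) : F :=
  x 0 * y 7 + x 7 * y 0 + x 1 * y 4 + x 2 * y 5 + x 3 * y 6 + x 4 * y 1 + x 5 * y 2 + x 6 * y 3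

theorem nm8_add (x y : Fin 8 → F) : nm8 (x + y) = nm8 x + nm8 y + pol8 x y := by
  simp [nm8, pol8, dot3]; ring

theorem nm8_smul (c : F) (x : Fin 8 → F) : nm8 (c • x) = c ^ 2 * nm8 x := by
  simp [nm8, dot3]; ring

theorem nm8_oneO : nm8 (oneO : Fin 8 → F) = 1 := by simp [nm8, oneO, mkO, dot3]

theorem tr8_oneO : tr8 (oneO : Fin 8 → F) = 0 := by
  simp [tr8, oneO, mkO, CharTwo.add_self_eq_zero]

theorem oneO_ne_zero : (oneO : Fin 8 → F) ≠ 0 := fun h => one_ne_zero (α := F) (congrFun h 0)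

theorem nm8_invariant (g : G2 F) (x : Fin 8 → F) : nm8 ((g : GL (Fin 8) F).val *ᵥ x) = nm8 x := by
  set y := (g : GL (Fin 8) F).val *ᵥ x with hy
  have h := congrArg (fun z => (g : GL (Fin 8) F).val *ᵥ z) (sq_eq two0 x)
  simp only [mulVec_mul_g, Matrix.mulVec_add, Matrix.mulVec_smul, fix_oneO, ← hy, sq_eq two0 y] at h
  by_cases hc : ∃ c : F, y = c • oneO
  · obtain ⟨c, hc⟩ := hc
    have hx : x = c • oneO := by
      rw [← inv_mulVec_g g x, ← hy, hc, Matrix.mulVec_smul, fix_oneO]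
    rw [hc, hx]
  · have h' : (tr8 y - tr8 x) • y = (nm8 x - nm8 y) • oneO := by
      rw [sub_smul, sub_smul, sub_eq_sub_iff_add_eq_add]
      rw [h]; abel
    have ht : tr8 y - tr8 x = 0 := by
      by_contra ht
      exact hc ⟨(tr8 y - tr8 x)⁻¹ * (nm8 x - nm8 y), by rw [mul_smul, ← h', smul_smul, inv_mul_cancel₀ ht, one_smul]⟩
    rw [ht, zero_smul] at h'
    exact (sub_eq_zero.1 ((smul_eq_zero.1 h'.symm).resolve_right oneO_ne_zero)).symm

theorem pol8_invariant (g : G2 F) (x y : Fin 8 → F) :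
    pol8 ((g : GL (Fin 8) F).val *ᵥ x) ((g : GL (Fin 8) F).val *ᵥ y) = pol8 x y := by
  have h := nm8_invariant g (x + y)
  rw [Matrix.mulVec_add, nm8_add, nm8_add, nm8_invariant, nm8_invariant] at h
  linear_combination h

/-- The trace functional. -/
def trL : (Fin 8 → F) →ₗ[F] F where
  toFun := tr8
  map_add' x y := by simp [tr8]; ring
  map_smul' c x := by simp [tr8]; ring

theorem exists_fixed_point (g : G2 F) :
    ∃ x, tr8 x = 1 ∧ ∃ c : F, (g : GL (Fin 8) F).val *ᵥ x - x = c • oneO := by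
  let E : (Fin 8 → F) →ₗ[F] (Fin 8 → F) ⧸ (F ∙ (oneO : Fin 8 → F)) :=
    (F ∙ oneO).mkQ.comp (Matrix.mulVecLin (g : GL (Fin 8) F).val - LinearMap.id)
  by_cases hker : ∀ x, E x = 0 → tr8 x = 0
  · exfalso
    obtain ⟨ψ, hψ⟩ : ∃ ψ : ((Fin 8 → F) ⧸ (F ∙ (oneO : Fin 8 → F))) →ₗ[F] F, ψ.comp E = trL := by
      have : (trL : (Fin 8 → F) →ₗ[F] F) ∈ (LinearMap.ker E).dualAnnihilator :=
        (Submodule.mem_dualAnnihilator _).2 fun v hv => hker v (LinearMap.mem_ker.1 hv)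
      rw [← LinearMap.range_dualMap_eq_dualAnnihilator_ker] at this
      exact this
    set χ : (Fin 8 → F) →ₗ[F] F := ψ.comp (F ∙ oneO).mkQ with hχ
    have hχ1 : χ oneO = 0 := by
      rw [hχ, LinearMap.comp_apply, Submodule.mkQ_apply,
        (Submodule.Quotient.mk_eq_zero _).2 (Submodule.mem_span_singleton_self _), map_zero]
    have htr : ∀ x, tr8 x = χ ((g : GL (Fin 8) F).val *ᵥ x) - χ x := fun x => by
      rw [← map_sub]
      exact (LinearMap.congr_fun hψ x).symm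
    let e : Fin 8 → Fin 8 → F := fun i => Pi.single i 1
    set u : Fin 8 → F := ![χ (e 7), χ (e 4), χ (e 5), χ (e 6), χ (e 1), χ (e 2), χ (e 3), χ (e 0)] with hu
    have hχu : ∀ y, χ y = pol8 u y := fun y => by
      conv_lhs => rw [pi_eq_sum_univ' y, map_sum]
      simp [Fin.sum_univ_eight, hu, pol8, e]
      ring
    have hpol1 : ∀ y, pol8 (oneO : Fin 8 → F) y = tr8 y := fun y => by
      simp [pol8, oneO, mkO, tr8]; ring
    have hu0 : tr8 u = 0 := by
      rw [← hχ1, hχu, ← hpol1]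
      simp [pol8, oneO, mkO]
      ring
    set u' := ((g⁻¹ : G2 F) : GL (Fin 8) F).val *ᵥ u with hu'
    have key : ∀ x, pol8 (oneO : Fin 8 → F) x = pol8 u' x - pol8 u x := fun x => by
      rw [hpol1, htr, hχu, hχu, ← pol8_invariant g u' x, hu', mulVec_inv_g]
    have heq : u' = u + oneO := funext fun i => by
      have := key (e (![7, 4, 5, 6, 1, 2, 3, 0] i))
      fin_cases i <;> simp [pol8, e, oneO, mkO] at this ⊢ <;> linear_combination -this
    have hN := nm8_invariant g⁻¹ u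
    rw [← hu', heq, nm8_add, nm8_oneO] at hN
    have hp : pol8 u (oneO : Fin 8 → F) = 0 := by rw [← hu0, ← hpol1]; simp [pol8, oneO, mkO]; ring
    rw [hp] at hN
    exact one_ne_zero (α := F) (by linear_combination hN)
  · push Not at hker
    obtain ⟨x, hx, hx1⟩ := hker
    refine ⟨(tr8 x)⁻¹ • x, ?_, ?_⟩
    · show (tr8 x)⁻¹ * x 0 + (tr8 x)⁻¹ * x 7 = 1
      rw [← mul_add]
      exact inv_mul_cancel₀ hx1
    · obtain ⟨c, hc⟩ := Submodule.mem_span_singleton.1 ((Submodule.Quotient.mk_eq_zero _).1 hx)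
      refine ⟨(tr8 x)⁻¹ * c, ?_⟩
      rw [Matrix.mulVec_smul, ← smul_sub, mul_smul, hc]
      rfl

/-- The stabiliser of an element modulo the scalars. -/
def stab8 (x0 : Fin 8 → F) : Subgroup (G2 F) where
  carrier := {g | ∃ c : F, (g : GL (Fin 8) F).val *ᵥ x0 = x0 + c • oneO}
  one_mem' := ⟨0, by simp⟩
  mul_mem' := by
    rintro g h ⟨c, hc⟩ ⟨d, hd⟩
    refine ⟨c + d, ?_⟩
    rw [Subgroup.coe_mul, Units.val_mul, ← Matrix.mulVec_mulVec, hd, Matrix.mulVec_add, hc, Matrix.mulVec_smul,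
      fix_oneO, add_smul, add_assoc]
  inv_mem' := by
    rintro g ⟨c, hc⟩
    refine ⟨-c, ?_⟩
    have h := congrArg (fun z => ((g⁻¹ : G2 F) : GL (Fin 8) F).val *ᵥ z) hc
    simp only [inv_mulVec_g, Matrix.mulVec_add, Matrix.mulVec_smul, fix_oneO] at h
    rw [neg_smul, ← sub_eq_add_neg, eq_sub_iff_add_eq]
    exact h.symm

theorem stab8_yN_ne_top (N : F) : stab8 (yN N) ≠ ⊤ := by
  intro h
  obtain ⟨g, hg⟩ := exists_ph (F := F) ![0, 1, 0]
  obtain ⟨c, hc⟩ : g ∈ stab8 (yN N) := by rw [h]; exact Subgroup.mem_top g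
  rw [hg, yN, ph_apply] at hc
  have h2' := congrFun hc 2
  simp [mkO, oneO, dot3, e0] at h2'

theorem exists_not_as [Finite F] : ∃ s : F, ∀ c : F, c ^ 2 + c ≠ s := by
  by_contra h
  push Not at h
  have hinj := (Finite.injective_iff_surjective (f := fun c : F => c ^ 2 + c)).2 h
  have : (fun c : F => c ^ 2 + c) 0 = (fun c : F => c ^ 2 + c) 1 := by
    simp [CharTwo.add_self_eq_zero]
  exact zero_ne_one (hinj this)

theorem twoCover_G2 [Fintype F] : TwoCover (G2 F) := by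
  have h2 := two0 (F := F)
  obtain ⟨s, hs⟩ := exists_not_as (F := F)
  refine ⟨stab8 (yN 0), stab8 (yN s), stab8_yN_ne_top 0, stab8_yN_ne_top s, fun g => ?_⟩
  obtain ⟨x, hx1, c, hc⟩ := exists_fixed_point g
  have hs' : ∀ t : F, (∃ u : F, u ^ 2 + u = t) ∨ ∃ u : F, u ^ 2 + u + s = t := by
    intro t
    haveI : Fact (Nat.Prime 2) := ⟨Nat.prime_two⟩
    by_cases ht : Cfsg.Lib.Linear.Orth.InJ t
    · exact Or.inl ht
    · obtain ⟨u, hu⟩ := inJ_add ht (show ¬ Cfsg.Lib.Linear.Orth.InJ s from fun ⟨u, hu⟩ => hs u hu)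
      exact Or.inr ⟨u, by linear_combination hu + s * h2⟩
  -- normalise the representative
  obtain ⟨y, hy1, hyg, hyN⟩ : ∃ y, tr8 y = 1 ∧ (g : GL (Fin 8) F).val *ᵥ y - y = c • oneO ∧
      (nm8 y = 0 ∨ nm8 y = s) := by
    have hnm : ∀ u : F, nm8 (x + u • oneO) = nm8 x + (u ^ 2 + u) := fun u => by
      rw [nm8_add, nm8_smul, nm8_oneO]
      have : pol8 x (u • oneO) = u * tr8 x := by simp [pol8, oneO, mkO, tr8]; ring
      rw [this, hx1]
      ring
    have htr : ∀ u : F, tr8 (x + u • oneO) = 1 := fun u => by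
      show x 0 + u * oneO 0 + (x 7 + u * oneO 7) = 1
      have hx' : x 0 + x 7 = 1 := hx1
      simp [oneO, mkO]
      linear_combination hx' + u * h2
    have hgu : ∀ u : F, (g : GL (Fin 8) F).val *ᵥ (x + u • oneO) - (x + u • oneO) = c • oneO := fun u => by
      rw [Matrix.mulVec_add, Matrix.mulVec_smul, fix_oneO, add_sub_add_right_eq_sub, hc]
    rcases hs' (nm8 x) with ⟨u, hu⟩ | ⟨u, hu⟩
    · exact ⟨_, htr u, hgu u, Or.inl (by rw [hnm, hu, CharTwo.add_self_eq_zero])⟩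
    · exact ⟨_, htr u, hgu u, Or.inr (by rw [hnm, ← hu]; linear_combination (u ^ 2 + u) * h2)⟩
  obtain ⟨N, k, hk⟩ := rel_yN hy1
  have hN : nm8 y = N := by
    rw [← nm8_invariant k y, hk, yN, nm8_mkO]
    simp [dot3, e0]
  have key : k * g * k⁻¹ ∈ stab8 (yN N) := by
    refine ⟨c, ?_⟩
    rw [Subgroup.coe_mul, Subgroup.coe_mul, Units.val_mul, Units.val_mul, ← Matrix.mulVec_mulVec,
      ← Matrix.mulVec_mulVec, ← hk, inv_mulVec_g, sub_eq_iff_eq_add'.1 hyg, Matrix.mulVec_add, Matrix.mulVec_smul,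
      fix_oneO]
  refine ⟨k, hyN.imp (fun h => ?_) (fun h => ?_)⟩ <;> rw [hN] at h <;> subst h <;> exact key

end Cfsg.Lib.Cover.G2C
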