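import Cfsg.Agent.Lib.Cover.Basic
import Cfsg.Agent.Lib.Linear.CentralizerDet
import Cfsg.Agent.Lib.Linear.AutPSL.Stab

/-!
# `PSL_n(q)` for `n ≤ 4` is the union of the conjugates of two proper subgroups

The stabiliser of a line, and the centraliser of a matrix `T` whose minimal polynomial is irreducible of
degree `r`, where `r = 2, 3, 2` for `n = 2, 3, 4`: a matrix without eigenvectors commutes with such a `T`.
-/

set_option autoImplicit false

namespace Cfsg.Lib.Cover

open Polynomial Cfsg.Lib Matrix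
open scoped MatrixGroups

universe u

variable {F : Type u} [Field F]

/-- There are monic irreducible polynomials of every positive degree over a finite field. -/
theorem exists_irreducible_natDegree [Finite F] (r : ℕ) [NeZero r] :
    ∃ f : F[X], f.Monic ∧ Irreducible f ∧ f.natDegree = r := by
  obtain ⟨p, hp⟩ := CharP.exists F
  haveI : Fact p.Prime := ⟨CharP.char_is_prime F p⟩
  obtain ⟨α, hα⟩ := Field.exists_primitive_element F (FiniteField.Extension F p r)
  refine ⟨minpoly F α, minpoly.monic (IsIntegral.of_finite F α), minpoly.irreducible (IsIntegral.of_finite F α), ?_⟩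
  rw [(Field.primitive_element_iff_minpoly_natDegree_eq F α).1 hα, FiniteField.finrank_extension]

theorem expand_card_pow [Fintype F] (f : F[X]) (k : ℕ) :
    expand F (Fintype.card F ^ k) f = f ^ (Fintype.card F ^ k) := by
  induction k with
  | zero => simp
  | succ k ih => rw [pow_succ', ← expand_expand, ih, map_pow, FiniteField.expand_card, ← pow_mul]

theorem aeval_pow_card_eq_zero [Fintype F] {A : Type*} [Semiring A] [Algebra F A] (f : F[X]) (y : A) {k m : ℕ}
    (h : aeval y f ^ m = 0) (hm : m ≤ Fintype.card F ^ k) : aeval (y ^ Fintype.card F ^ k) f = 0 := by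
  rw [← expand_aeval, expand_card_pow, map_pow, pow_eq_zero_of_le hm h]

/-- In `F[X]/(p ^ e)` every irreducible polynomial whose degree divides that of `p` has a root. -/
theorem exists_root_pow [Fintype F] {p f : F[X]} (hp : Irreducible p) (hf : Irreducible f) (e : ℕ)
    (hdvd : f.natDegree ∣ p.natDegree) : ∃ y : AdjoinRoot (p ^ e), aeval y f = 0 := by
  haveI : Fact (Irreducible p) := ⟨hp⟩
  haveI : Fact (Irreducible f) := ⟨hf⟩
  haveI : Module.Finite F (AdjoinRoot p) := (AdjoinRoot.powerBasis hp.ne_zero).finite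
  haveI : Finite (AdjoinRoot p) := Module.finite_of_finite F
  obtain ⟨φ⟩ := FiniteField.nonempty_algHom_of_finrank_dvd (F := F) (K := AdjoinRoot f) (L := AdjoinRoot p)
    (by rw [(AdjoinRoot.powerBasis hf.ne_zero).finrank, (AdjoinRoot.powerBasis hp.ne_zero).finrank,
      AdjoinRoot.powerBasis_dim, AdjoinRoot.powerBasis_dim]; exact hdvd)
  obtain ⟨y₀, hy₀⟩ := AdjoinRoot.mk_surjective (φ (AdjoinRoot.root f))
  have key : ∀ q : F[X], aeval (AdjoinRoot.mk q y₀) f = AdjoinRoot.mk q (f.comp y₀) := by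
    intro q
    rw [comp_eq_aeval, ← AdjoinRoot.coe_mkₐ, aeval_algHom_apply]
  have h0 : aeval (φ (AdjoinRoot.root f)) f = 0 := by
    rw [aeval_algHom_apply, AdjoinRoot.aeval_eq, AdjoinRoot.mk_self, map_zero]
  rw [← hy₀, key, AdjoinRoot.mk_eq_zero] at h0
  refine ⟨AdjoinRoot.mk (p ^ e) y₀ ^ Fintype.card F ^ e, aeval_pow_card_eq_zero f _ (m := e) ?_
    (Nat.lt_pow_self Fintype.one_lt_card).le⟩
  rw [key, ← map_pow, AdjoinRoot.mk_eq_zero]
  exact pow_dvd_pow_of_dvd h0 e

variable {n : ℕ}

/-- A matrix all of whose irreducible factors have degree a multiple of that of `f` commutes with a root of `f`. -/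
theorem exists_commute_root [Fintype F] {A : Matrix (Fin n) (Fin n) F} {ι : Type u} [Fintype ι] {p : ι → F[X]}
    {e : ι → ℕ} (hp : ∀ i, Irreducible (p i)) (hA : CanonicalForm.HasForm A fun i => p i ^ e i) {f : F[X]}
    (hf : Irreducible f) (hd : ∀ i, f.natDegree ∣ (p i).natDegree) :
    ∃ T : Matrix (Fin n) (Fin n) F, A * T = T * A ∧ aeval T f = 0 := by
  choose y hy using fun i => exists_root_pow (hp i) hf (e i) (hd i)
  obtain ⟨Ψ, hΨ⟩ := hA
  obtain ⟨L, hL⟩ : ∃ L : (Fin n → F) →ₗ[F] (Fin n → F), ∀ w i, Ψ (L w) i = y i * Ψ w i :=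
    ⟨Ψ.symm.toLinearMap ∘ₗ LinearMap.mulLeft F y ∘ₗ Ψ.toLinearMap, fun w i => by simp⟩
  refine ⟨LinearMap.toMatrix' L, ?_, ?_⟩
  · apply Matrix.toLin'.injective
    rw [Matrix.toLin'_mul, Matrix.toLin'_mul, Matrix.toLin'_toMatrix']
    refine LinearMap.ext fun w => Ψ.injective (funext fun i => ?_)
    rw [LinearMap.comp_apply, LinearMap.comp_apply, Matrix.toLin'_apply, hΨ, hL, hL, Matrix.toLin'_apply, hΨ,
      mul_left_comm]
  · have key : ∀ (g : F[X]) (w : Fin n → F) (i : ι),
        Ψ ((aeval (LinearMap.toMatrix' L) g).mulVec w) i = aeval (y i) g * Ψ w i := by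
      intro g
      induction g using Polynomial.induction_on with
      | C c =>
        intro w i
        rw [aeval_C, aeval_C, Algebra.algebraMap_eq_smul_one, Matrix.smul_mulVec, Matrix.one_mulVec, map_smul,
          Pi.smul_apply, Algebra.smul_def]
      | add g h hg hh =>
        intro w i
        rw [map_add, Matrix.add_mulVec, map_add, Pi.add_apply, hg, hh, map_add, add_mul]
      | monomial k c hk =>
        intro w i
        rw [pow_succ, ← mul_assoc, map_mul, aeval_X, ← Matrix.mulVec_mulVec, hk, LinearMap.toMatrix'_mulVec, hL,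
          map_mul (aeval (y i)) _ (X : F[X]), aeval_X]
        ring
    apply Matrix.toLin'.injective
    refine LinearMap.ext fun w => Ψ.injective (funext fun i => ?_)
    rw [Matrix.toLin'_apply, key, hy, zero_mul, map_zero, LinearMap.zero_apply, map_zero, Pi.zero_apply]

/-- The form of a root of an irreducible polynomial. -/
theorem form_of_root {f : F[X]} (hf : Irreducible f) (hm : f.Monic) {T : Matrix (Fin n) (Fin n) F}
    (hT : aeval T f = 0) : ∃ (ι : Type u) (_ : Fintype ι), CanonicalForm.HasForm T (fun _ : ι => f) ∧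
      Fintype.card ι * f.natDegree = n := by
  obtain ⟨ι, hι, p, e, hpm, hpi, he, hform⟩ := CanonicalForm.exists_form T
  have hdvd := (hform.aeval_eq_zero_iff f).1 hT
  have hpf : ∀ i, p i ^ e i = f := fun i => by
    have h1 : p i ∣ f := (dvd_pow_self _ (by have := he i; omega)).trans (hdvd i)
    have h2 : p i = f := eq_of_monic_of_associated (hpm i) hm ((hpi i).associated_of_dvd hf h1)
    have h3 := hdvd i
    rw [h2] at h3 ⊢
    have h4 := Polynomial.natDegree_le_of_dvd h3 hf.ne_zero
    rw [natDegree_pow] at h4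
    have : e i = 1 := le_antisymm (Nat.le_of_mul_le_mul_right (by omega) hf.natDegree_pos) (he i)
    rw [this, pow_one]
  have hform' : CanonicalForm.HasForm T (fun _ : ι => f) := by
    have : (fun i => p i ^ e i) = fun _ : ι => f := funext hpf
    rwa [this] at hform
  refine ⟨ι, hι, hform', ?_⟩
  have := hform'.sum_natDegree (fun _ => hm)
  simpa [Finset.sum_const, Finset.card_univ] using this

/-- Any two roots of an irreducible polynomial are conjugate under `SL`. -/
theorem exists_SL_conj [Fintype F] (hn : n ≠ 0) {f : F[X]} (hf : Irreducible f) (hm : f.Monic)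
    {T T' : Matrix (Fin n) (Fin n) F} (hT : aeval T f = 0) (hT' : aeval T' f = 0) :
    ∃ x : SL(n, F), x.1 * T = T' * x.1 := by
  obtain ⟨ι, hι, hA, hcA⟩ := form_of_root hf hm hT
  obtain ⟨κ, hκ, hB, hcB⟩ := form_of_root hf hm hT'
  have hc : Fintype.card ι = Fintype.card κ :=
    Nat.eq_of_mul_eq_mul_right hf.natDegree_pos (hcA.trans hcB.symm)
  have hconj : IsConj T T' := CanonicalForm.isConj_of_map_eq hA hB (by simp [Multiset.map_const', hc])
  obtain ⟨P, hP⟩ := hconj
  obtain ⟨i⟩ : Nonempty ι := Fintype.card_pos_iff.1 (Nat.pos_of_ne_zero fun h => hn (by rw [← hcA, h, zero_mul]))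
  have hA1 : CanonicalForm.HasForm T (fun _ : ι => f ^ 1) := by simpa using hA
  obtain ⟨x, hx, hdx⟩ := Cfsg.Lib.Linear.CentralizerDet.exists_det_pow (fun _ => ⟨hm, hf⟩) hA1 i
    (Matrix.GeneralLinearGroup.det P)⁻¹
  refine ⟨⟨P.val * x, ?_⟩, ?_⟩
  · rw [Matrix.det_mul, hdx, pow_one, ← Matrix.GeneralLinearGroup.val_det_apply, ← Units.val_mul, mul_inv_cancel,
      Units.val_one]
  · show P.val * x * T = T' * (P.val * x)
    rw [Matrix.mul_assoc, ← hx, ← Matrix.mul_assoc, ← Matrix.mul_assoc]
    exact congrArg (· * x) hP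

/-- The centraliser in `SL` of a matrix. -/
def centT (T : Matrix (Fin n) (Fin n) F) : Subgroup SL(n, F) where
  carrier := {g | g.1 * T = T * g.1}
  one_mem' := by simp
  mul_mem' := by
    intro a b (ha : a.1 * T = T * a.1) (hb : b.1 * T = T * b.1)
    show (a * b).1 * T = T * (a * b).1
    rw [Matrix.SpecialLinearGroup.coe_mul, Matrix.mul_assoc, hb, ← Matrix.mul_assoc, ha, Matrix.mul_assoc]
  inv_mem' := by
    intro a (ha : a.1 * T = T * a.1)
    show (a⁻¹).1 * T = T * (a⁻¹).1
    calc (a⁻¹).1 * T = (a⁻¹).1 * T * (a.1 * (a⁻¹).1) := by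
          rw [← Matrix.SpecialLinearGroup.coe_mul, mul_inv_cancel, Matrix.SpecialLinearGroup.coe_one, Matrix.mul_one]
      _ = (a⁻¹).1 * (a.1 * T) * (a⁻¹).1 := by rw [ha]; simp only [Matrix.mul_assoc]
      _ = T * (a⁻¹).1 := by
          rw [← Matrix.mul_assoc, ← Matrix.SpecialLinearGroup.coe_mul, inv_mul_cancel,
            Matrix.SpecialLinearGroup.coe_one, Matrix.one_mul]

theorem mem_centT {T : Matrix (Fin n) (Fin n) F} {g : SL(n, F)} : g ∈ centT T ↔ g.1 * T = T * g.1 := Iff.rfl

theorem center_le_centT (T : Matrix (Fin n) (Fin n) F) : Subgroup.center SL(n, F) ≤ centT T := fun g hg => by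
  obtain ⟨r, -, hr⟩ := Matrix.SpecialLinearGroup.mem_center_iff.1 hg
  rw [mem_centT, ← hr]
  exact (Matrix.scalar_commute r (fun x => Commute.all r x) T).eq

theorem centT_ne_top {f : F[X]} (hf : Irreducible f) (hf2 : 2 ≤ f.natDegree) (hn : n ≠ 0)
    {T : Matrix (Fin n) (Fin n) F} (hT : aeval T f = 0) : centT T ≠ ⊤ := by
  intro h
  haveI : NeZero n := ⟨hn⟩
  obtain ⟨c, hc⟩ := Matrix.mem_range_scalar_of_commute_transvectionStruct (M := T) fun t => by
    let u : SL(n, F) := ⟨t.toMatrix, t.det⟩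
    have : u ∈ centT T := by rw [h]; exact Subgroup.mem_top _
    exact this
  have hev : f.eval c = 0 := by
    have h1 : aeval T f = algebraMap F _ (f.eval c) := by
      rw [← hc, ← aeval_algebraMap_apply_eq_algebraMap_eval]
      rfl
    rw [hT] at h1
    exact (algebraMap F (Matrix (Fin n) (Fin n) F)).injective (by rw [← h1, map_zero])
  have h1 := Polynomial.degree_eq_one_of_irreducible_of_root hf hev
  rw [Polynomial.degree_eq_natDegree hf.ne_zero] at h1
  have : f.natDegree = 1 := by exact_mod_cast h1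
  omega

theorem exists_SL_line (v w : Fin n → F) (hv : v ≠ 0) (hw : w ≠ 0) :
    ∃ (g : SL(n, F)) (c : F), g.1 *ᵥ v = c • w := by
  by_cases h : v ∈ Submodule.span F {w - v}
  · obtain ⟨c, hc⟩ := Submodule.mem_span_singleton.1 h
    have hc0 : c ≠ 0 := fun h0 => hv (by rw [← hc, h0, zero_smul])
    have e : (1 + c) • v = c • w := by rw [add_smul, one_smul]; nth_rw 1 [← hc]; rw [← smul_add]; simp
    rcases eq_or_ne (1 + c) 0 with hd | hd
    · rw [hd, zero_smul] at e
      exact absurd ((smul_eq_zero.1 e.symm).resolve_left hc0) hw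
    · refine ⟨1, (1 + c)⁻¹ * c, ?_⟩
      rw [Matrix.SpecialLinearGroup.coe_one, Matrix.one_mulVec, mul_smul, ← e, smul_smul, inv_mul_cancel₀ hd,
        one_smul]
  · obtain ⟨g, hg⟩ := Cfsg.Lib.Linear.AutPSL.exists_move h
    exact ⟨g, 1, by rw [hg, one_smul]⟩

theorem St_ne_top (hn : 2 ≤ n) :
    Cfsg.Lib.Linear.AutPSL.St (Pi.single (⟨0, by omega⟩ : Fin n) (1 : F)) ≠ ⊤ := by
  intro h
  have hij : (⟨1, by omega⟩ : Fin n) ≠ ⟨0, by omega⟩ := fun h => by simp [Fin.ext_iff] at h
  have hu : Matrix.SpecialLinearGroup.transvection hij (1 : F) ∈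
      Cfsg.Lib.Linear.AutPSL.St (Pi.single (⟨0, by omega⟩ : Fin n) (1 : F)) := by
    rw [h]; exact Subgroup.mem_top _
  obtain ⟨c, hc⟩ := hu
  have := congrFun hc ⟨1, by omega⟩
  simp [Matrix.SpecialLinearGroup.transvection_coe, Matrix.transvection, Matrix.add_mulVec, hij] at this

/-- The cover of `SL_n` from a degree `r` dividing every factor degree of the matrices without eigenvector. -/
theorem twoCover_PSL [Fintype F] (r : ℕ) (hn : 2 ≤ n) (hr : 2 ≤ r) (hrn : r ∣ n)
    (hfac : ∀ (ι : Type u) [Fintype ι] (d e : ι → ℕ), (∀ i, 2 ≤ d i) → (∀ i, 1 ≤ e i) → ∑ i, e i * d i = n →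
      ∀ i, r ∣ d i) : TwoCover (Matrix.ProjectiveSpecialLinearGroup (Fin n) F) := by
  classical
  haveI : NeZero r := ⟨by omega⟩
  obtain ⟨f, hm, hf, hdeg⟩ := exists_irreducible_natDegree (F := F) r
  obtain ⟨T, hT⟩ : ∃ T : Matrix (Fin n) (Fin n) F, aeval T f = 0 := by
    obtain ⟨A, hA⟩ := CanonicalForm.exists_matrix (n := n) (fun _ : ULift.{u} (Fin (n / r)) => f) (fun _ => hm)
      (by simp [hdeg, Nat.div_mul_cancel hrn])
    exact ⟨A, (hA.aeval_eq_zero_iff f).2 fun _ => dvd_rfl⟩
  refine twoCover_quot (Cfsg.Lib.Linear.AutPSL.center_le_St _) (center_le_centT T) (St_ne_top hn)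
    (centT_ne_top hf (hdeg ▸ hr) (by omega) hT) fun g => ?_
  obtain ⟨ι, hι, p, e, hpm, hpi, he, hform⟩ := CanonicalForm.exists_form g.1
  by_cases h1 : ∃ i, (p i).natDegree = 1
  · obtain ⟨i, hi⟩ := h1
    obtain ⟨a, ha⟩ := Polynomial.exists_root_of_degree_eq_one
      (by rw [Polynomial.degree_eq_natDegree (hpi i).ne_zero, hi]; rfl)
    have hev : g.1.charpoly.eval a = 0 := by
      rw [hform.charpoly (fun i => (hpm i).pow _), Polynomial.eval_prod]
      refine Finset.prod_eq_zero (Finset.mem_univ i) ?_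
      rw [Polynomial.eval_pow, ha.eq_zero, zero_pow (by have := he i; omega)]
    rw [Matrix.eval_charpoly] at hev
    obtain ⟨v, hv, hgv⟩ := Matrix.exists_mulVec_eq_zero_iff.2 hev
    have hgv' : g.1 *ᵥ v = a • v := by
      rw [Matrix.sub_mulVec, sub_eq_zero, Matrix.scalar_apply] at hgv
      rw [← hgv]
      ext j
      simp [Matrix.mulVec_diagonal]
    obtain ⟨x, c, hx⟩ := exists_SL_line v (Pi.single (⟨0, by omega⟩ : Fin n) (1 : F)) hv (by simp)
    refine ⟨x, Or.inl ⟨a, ?_⟩⟩
    have hc : c ≠ 0 := fun h0 => Cfsg.Lib.Linear.AutPSL.mulVec_ne_zero x hv (by rw [hx, h0, zero_smul])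
    have hxi : (x⁻¹).1 *ᵥ Pi.single (⟨0, by omega⟩ : Fin n) (1 : F) = c⁻¹ • v := by
      rw [← Cfsg.Lib.Linear.AutPSL.inv_mulVec x v, hx, Matrix.mulVec_smul, smul_smul, inv_mul_cancel₀ hc, one_smul]
    rw [Matrix.SpecialLinearGroup.coe_mul, Matrix.SpecialLinearGroup.coe_mul, ← Matrix.mulVec_mulVec,
      ← Matrix.mulVec_mulVec, hxi, Matrix.mulVec_smul, Matrix.mulVec_smul, hgv', Matrix.mulVec_smul, hx,
      smul_smul, smul_smul, mul_comm c⁻¹, mul_assoc, inv_mul_cancel₀ hc, mul_one]
  · push Not at h1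
    have hd2 : ∀ i, 2 ≤ (p i).natDegree := fun i => by
      have := (hpi i).natDegree_pos
      have := h1 i
      omega
    have hsum : ∑ i, e i * (p i).natDegree = n := by
      have := hform.sum_natDegree (fun i => (hpm i).pow _)
      simpa [natDegree_pow] using this
    obtain ⟨S, hgS, hS⟩ := exists_commute_root hpi hform hf
      (fun i => hdeg ▸ hfac ι (fun i => (p i).natDegree) e hd2 he hsum i)
    obtain ⟨x, hx⟩ := exists_SL_conj (by omega) hf hm hS hT
    refine ⟨x, Or.inr ?_⟩
    rw [mem_centT, Matrix.SpecialLinearGroup.coe_mul, Matrix.SpecialLinearGroup.coe_mul]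
    have h2 : (x⁻¹).1 * T = S * (x⁻¹).1 := by
      calc (x⁻¹).1 * T = (x⁻¹).1 * T * (x.1 * (x⁻¹).1) := by
            rw [← Matrix.SpecialLinearGroup.coe_mul, mul_inv_cancel, Matrix.SpecialLinearGroup.coe_one,
              Matrix.mul_one]
        _ = (x⁻¹).1 * (x.1 * S) * (x⁻¹).1 := by rw [hx]; simp only [Matrix.mul_assoc]
        _ = S * (x⁻¹).1 := by
            rw [← Matrix.mul_assoc, ← Matrix.SpecialLinearGroup.coe_mul, inv_mul_cancel,
              Matrix.SpecialLinearGroup.coe_one, Matrix.one_mul]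
    rw [Matrix.mul_assoc, h2, ← Matrix.mul_assoc, Matrix.mul_assoc x.1, hgS, ← Matrix.mul_assoc, hx]
    simp only [Matrix.mul_assoc]

theorem twoCover_PSL_two [Fintype F] : TwoCover (Matrix.ProjectiveSpecialLinearGroup (Fin 2) F) := by
  refine twoCover_PSL 2 le_rfl le_rfl dvd_rfl fun ι _ d e hd he hs i => ?_
  have h := Finset.single_le_sum (f := fun i => e i * d i) (fun _ _ => Nat.zero_le _) (Finset.mem_univ i)
  have := hd i
  have := he i
  have : d i = 2 := by rw [hs] at h; nlinarith
  rw [this]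

theorem twoCover_PSL_three [Fintype F] : TwoCover (Matrix.ProjectiveSpecialLinearGroup (Fin 3) F) := by
  classical
  refine twoCover_PSL 3 (by norm_num) (by norm_num) dvd_rfl fun ι _ d e hd he hs i => ?_
  rw [← Finset.add_sum_erase _ _ (Finset.mem_univ i)] at hs
  rcases (Finset.univ.erase i).eq_empty_or_nonempty with h | ⟨j, hj⟩
  · rw [h, Finset.sum_empty, add_zero] at hs
    have := hd i
    have : d i ∣ 3 := Dvd.intro_left _ hs
    rcases (Nat.dvd_prime Nat.prime_three).1 this with h | h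
    · omega
    · rw [h]
  · have h := Finset.single_le_sum (f := fun i => e i * d i) (fun _ _ => Nat.zero_le _) hj
    have := hd i; have := he i; have := hd j; have := he j
    have : 2 ≤ e i * d i := by nlinarith
    have : 2 ≤ e j * d j := by nlinarith
    omega

theorem twoCover_PSL_four [Fintype F] : TwoCover (Matrix.ProjectiveSpecialLinearGroup (Fin 4) F) := by
  classical
  refine twoCover_PSL 2 (by norm_num) le_rfl (by norm_num) fun ι _ d e hd he hs i => ?_
  rw [← Finset.add_sum_erase _ _ (Finset.mem_univ i)] at hs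
  have := hd i; have := he i
  rcases (Finset.univ.erase i).eq_empty_or_nonempty with h | ⟨j, hj⟩
  · rw [h, Finset.sum_empty, add_zero] at hs
    have : d i ≤ 4 := by nlinarith
    interval_cases hdi : d i
    · norm_num
    · omega
    · norm_num
  · have h := Finset.single_le_sum (f := fun i => e i * d i) (fun _ _ => Nat.zero_le _) hj
    have := hd j; have := he j
    have : 2 ≤ e j * d j := by nlinarith
    have : d i = 2 := by nlinarith
    rw [this]

end Cfsg.Lib.Cover
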