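import Cfsg.Prelude.Def_G2
import Cfsg.Agent.Lib.Cover.PSL

/-!
# Automorphisms of the split octonions in characteristic two

`SL_3` acting on the two vectors, the exchange of the two Peirce spaces and the root automorphisms `ph v`;
together they are transitive on the elements of trace one and given norm.
-/

set_option autoImplicit false

namespace Cfsg.Lib.Cover.G2C

open Cfsg.Lie
open scoped Matrix MatrixGroups

variable {F : Type} [Field F]

/-- The element with scalars `α β` and vectors `a b`. -/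
def mkO (α : F) (a b : Fin 3 → F) (β : F) : Fin 8 → F := ![α, a 0, a 1, a 2, b 0, b 1, b 2, β]

/-- The trace. -/
def tr8 (x : Fin 8 → F) : F := x 0 + x 7

/-- The norm, in characteristic two. -/
def nm8 (x : Fin 8 → F) : F := x 0 * x 7 + dot3 (zA F x) (zB F x)

/-- The identity of the algebra. -/
def oneO : Fin 8 → F := mkO 1 0 0 1

theorem oneO_mul (x : Fin 8 → F) : zornMul oneO x = x := by
  funext i; fin_cases i <;> simp [oneO, mkO, zornMul, dot3, cross3]

theorem mul_oneO (x : Fin 8 → F) : zornMul x oneO = x := by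
  funext i; fin_cases i <;> simp [oneO, mkO, zornMul, dot3, cross3]

theorem sq_eq (h2 : (2 : F) = 0) (x : Fin 8 → F) : zornMul x x = tr8 x • x + nm8 x • oneO := by
  funext i
  fin_cases i <;> simp [oneO, mkO, zornMul, dot3, cross3, tr8, nm8]
  all_goals first
    | ring1
    | linear_combination (-(x 0 * x 7)) * h2
    | linear_combination (-(x 7 * x 0)) * h2

theorem mulVec_mul_g (g : G2 F) (x y : Fin 8 → F) :
    (g : GL (Fin 8) F).val *ᵥ zornMul x y =
      zornMul ((g : GL (Fin 8) F).val *ᵥ x) ((g : GL (Fin 8) F).val *ᵥ y) := g.2 x y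

theorem inv_mulVec_g (g : G2 F) (x : Fin 8 → F) :
    (((g⁻¹ : G2 F) : GL (Fin 8) F)).val *ᵥ ((g : GL (Fin 8) F).val *ᵥ x) = x := by
  rw [Matrix.mulVec_mulVec, ← Units.val_mul, ← Subgroup.coe_mul, inv_mul_cancel, Subgroup.coe_one, Units.val_one,
    Matrix.one_mulVec]

theorem mulVec_inv_g (g : G2 F) (x : Fin 8 → F) :
    (g : GL (Fin 8) F).val *ᵥ ((((g⁻¹ : G2 F) : GL (Fin 8) F)).val *ᵥ x) = x := by
  rw [Matrix.mulVec_mulVec, ← Units.val_mul, ← Subgroup.coe_mul, mul_inv_cancel, Subgroup.coe_one, Units.val_one,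
    Matrix.one_mulVec]

theorem fix_oneO (g : G2 F) : (g : GL (Fin 8) F).val *ᵥ oneO = oneO := by
  have h := mulVec_mul_g g oneO (((g⁻¹ : G2 F) : GL (Fin 8) F).val *ᵥ oneO)
  rw [oneO_mul, mulVec_inv_g, mul_oneO] at h
  exact h.symm

/-- An injective multiplicative linear map is an automorphism. -/
theorem exists_elem (L : (Fin 8 → F) →ₗ[F] (Fin 8 → F)) (hinj : ∀ x, L x = 0 → x = 0)
    (h : ∀ x y, L (zornMul x y) = zornMul (L x) (L y)) :
    ∃ g : G2 F, ∀ x, (g : GL (Fin 8) F).val *ᵥ x = L x := by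
  have hu : IsUnit (LinearMap.toMatrix' L) := by
    rw [← Matrix.mulVec_injective_iff_isUnit]
    intro a b hab
    refine sub_eq_zero.1 (hinj _ ?_)
    rw [map_sub, sub_eq_zero]
    simpa [LinearMap.toMatrix'_mulVec] using hab
  refine ⟨⟨hu.unit, fun x y => ?_⟩, fun x => ?_⟩
  · rw [Units.coeHom_apply, IsUnit.unit_spec, LinearMap.toMatrix'_mulVec, LinearMap.toMatrix'_mulVec,
      LinearMap.toMatrix'_mulVec, h]
  · show (hu.unit : Matrix (Fin 8) (Fin 8) F) *ᵥ x = L x
    rw [IsUnit.unit_spec, LinearMap.toMatrix'_mulVec]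

/-- The exchange of the Peirce spaces. -/
def swp : (Fin 8 → F) →ₗ[F] (Fin 8 → F) where
  toFun x := mkO (x 7) (zB F x) (zA F x) (x 0)
  map_add' x y := by funext i; fin_cases i <;> simp [mkO]
  map_smul' c x := by funext i; fin_cases i <;> simp [mkO]

theorem exists_swp (h2 : (2 : F) = 0) : ∃ g : G2 F, ∀ x, (g : GL (Fin 8) F).val *ᵥ x = swp x := by
  refine exists_elem swp (fun x hx => funext fun i => ?_) fun x y => funext fun i => ?_
  · have h0 := congrFun hx 0; have h1 := congrFun hx 1; have h2 := congrFun hx 2; have h3 := congrFun hx 3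
    have h4 := congrFun hx 4; have h5 := congrFun hx 5; have h6 := congrFun hx 6; have h7 := congrFun hx 7
    fin_cases i <;> simp_all [swp, mkO]
  · fin_cases i <;> simp [swp, mkO, zornMul, dot3, cross3]
    all_goals first
      | ring1
      | linear_combination (x 2 * y 3 - x 3 * y 2) * h2
      | linear_combination (x 3 * y 1 - x 1 * y 3) * h2
      | linear_combination (x 1 * y 2 - x 2 * y 1) * h2
      | linear_combination (x 3 * y 2 - x 2 * y 3) * h2
      | linear_combination (x 1 * y 3 - x 3 * y 1) * h2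
      | linear_combination (x 2 * y 1 - x 1 * y 2) * h2
      | linear_combination (x 5 * y 6 - x 6 * y 5) * h2
      | linear_combination (x 6 * y 4 - x 4 * y 6) * h2
      | linear_combination (x 4 * y 5 - x 5 * y 4) * h2
      | linear_combination (x 6 * y 5 - x 5 * y 6) * h2
      | linear_combination (x 4 * y 6 - x 6 * y 4) * h2
      | linear_combination (x 5 * y 4 - x 4 * y 5) * h2

/-- The action of `M ∈ SL_3`: `b ↦ M b`, `a ↦ adjugate(M)ᵀ a`. -/
def slm (M : Matrix (Fin 3) (Fin 3) F) : (Fin 8 → F) →ₗ[F] (Fin 8 → F) where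
  toFun x := mkO (x 0) (M.adjugateᵀ *ᵥ zA F x) (M *ᵥ zB F x) (x 7)
  map_add' x y := by
    funext i; fin_cases i <;> simp [mkO, Matrix.mulVec, dotProduct, Fin.sum_univ_three] <;> ring
  map_smul' c x := by
    funext i; fin_cases i <;> simp [mkO, Matrix.mulVec, dotProduct, Fin.sum_univ_three] <;> ring

theorem dot3_adj (M : Matrix (Fin 3) (Fin 3) F) (a d : Fin 3 → F) :
    dot3 (M.adjugateᵀ *ᵥ a) (M *ᵥ d) = M.det * dot3 a d := by
  simp [dot3, Matrix.adjugate_fin_three, Matrix.det_fin_three, Matrix.mulVec, dotProduct, Fin.sum_univ_three]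
  ring

theorem dot3_comm (a d : Fin 3 → F) : dot3 a d = dot3 d a := by
  simp only [dot3]; ring

theorem cross3_mul (M : Matrix (Fin 3) (Fin 3) F) (b d : Fin 3 → F) :
    cross3 (M *ᵥ b) (M *ᵥ d) = M.adjugateᵀ *ᵥ cross3 b d := by
  funext i
  fin_cases i <;>
    simp [cross3, Matrix.adjugate_fin_three, Matrix.mulVec, dotProduct, Fin.sum_univ_three] <;> ring

theorem cross3_adj (M : Matrix (Fin 3) (Fin 3) F) (a c : Fin 3 → F) :
    cross3 (M.adjugateᵀ *ᵥ a) (M.adjugateᵀ *ᵥ c) = M.det • (M *ᵥ cross3 a c) := by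
  funext i
  fin_cases i <;>
    simp [cross3, Matrix.adjugate_fin_three, Matrix.det_fin_three, Matrix.mulVec, dotProduct, Fin.sum_univ_three] <;>
    ring

theorem zA_mkO (α : F) (a b : Fin 3 → F) (β : F) : zA F (mkO α a b β) = a := by
  funext i; fin_cases i <;> rfl

theorem zB_mkO (α : F) (a b : Fin 3 → F) (β : F) : zB F (mkO α a b β) = b := by
  funext i; fin_cases i <;> rfl

theorem mkO_self (x : Fin 8 → F) : mkO (x 0) (zA F x) (zB F x) (x 7) = x := by
  funext i; fin_cases i <;> rfl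

theorem zornMul_mkO (α : F) (a b : Fin 3 → F) (β : F) (γ : F) (c d : Fin 3 → F) (δ : F) :
    zornMul (mkO α a b β) (mkO γ c d δ) =
      mkO (α * γ + dot3 a d) (α • c + δ • a - cross3 b d) (γ • b + β • d + cross3 a c) (dot3 b c + β * δ) := by
  funext i; fin_cases i <;> simp [zornMul, mkO, dot3, cross3]

theorem exists_slm (M : SL(3, F)) : ∃ g : G2 F, ∀ x, (g : GL (Fin 8) F).val *ᵥ x = slm M.1 x := by
  have hslm : ∀ α a b β, slm M.1 (mkO α a b β) = mkO α (M.1.adjugateᵀ *ᵥ a) (M.1 *ᵥ b) β := fun α a b β => by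
    show mkO (mkO α a b β 0) _ _ (mkO α a b β 7) = _
    rw [zA_mkO, zB_mkO]
    rfl
  refine exists_elem (slm M.1) (fun x hx => ?_) fun x y => ?_
  · have ha : M.1.adjugateᵀ *ᵥ zA F x = 0 := by
      rw [← zA_mkO (x 0) (M.1.adjugateᵀ *ᵥ zA F x) (M.1 *ᵥ zB F x) (x 7)]
      exact (congrArg (zA F) hx).trans (by funext i; fin_cases i <;> rfl)
    have hb : M.1 *ᵥ zB F x = 0 := by
      rw [← zB_mkO (x 0) (M.1.adjugateᵀ *ᵥ zA F x) (M.1 *ᵥ zB F x) (x 7)]
      exact (congrArg (zB F) hx).trans (by funext i; fin_cases i <;> rfl)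
    have hai : IsUnit M.1.adjugateᵀ.det := by
      rw [Matrix.det_transpose, Matrix.det_adjugate, M.2, one_pow]; exact isUnit_one
    have h1 : Function.Injective M.1.adjugateᵀ.mulVec :=
      Matrix.mulVec_injective_iff_isUnit.2 ((Matrix.isUnit_iff_isUnit_det _).2 hai)
    have h2 : Function.Injective M.1.mulVec :=
      Matrix.mulVec_injective_iff_isUnit.2 ((Matrix.isUnit_iff_isUnit_det _).2 (by rw [M.2]; exact isUnit_one))
    rw [← mkO_self x, h1 (ha.trans (Matrix.mulVec_zero _).symm), h2 (hb.trans (Matrix.mulVec_zero _).symm),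
      show x 0 = 0 from congrFun hx 0, show x 7 = 0 from congrFun hx 7]
    funext i; fin_cases i <;> rfl
  · rw [← mkO_self x, ← mkO_self y, zornMul_mkO, hslm, hslm, hslm, zornMul_mkO, dot3_adj, cross3_mul, cross3_adj,
      dot3_comm (M.1 *ᵥ _), dot3_adj, M.2, one_smul, one_mul, one_mul, dot3_comm (zA F y),
      Matrix.mulVec_sub, Matrix.mulVec_add, Matrix.mulVec_add, Matrix.mulVec_add, Matrix.mulVec_smul,
      Matrix.mulVec_smul, Matrix.mulVec_smul, Matrix.mulVec_smul]

/-- The root automorphisms. -/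
def ph (v : Fin 3 → F) : (Fin 8 → F) →ₗ[F] (Fin 8 → F) where
  toFun x := mkO (x 0 + dot3 (zB F x) v) ((x 0 + x 7 + dot3 (zB F x) v) • v + zA F x)
    (zB F x + cross3 v (zA F x)) (x 7 + dot3 (zB F x) v)
  map_add' x y := by funext i; fin_cases i <;> simp [mkO, dot3, cross3] <;> ring
  map_smul' c x := by funext i; fin_cases i <;> simp [mkO, dot3, cross3] <;> ring

end Cfsg.Lib.Cover.G2C
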