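import Cfsg.Agent.Lib.Cover.Unitary
import Cfsg.Agent.Lib.Linear.HermLines

/-!
# `PSU_4(q)` is the union of the conjugates of two proper subgroups

Every isometry fixes an anisotropic point or a totally isotropic line.
-/

set_option autoImplicit false

namespace Cfsg.Lib.Cover

open Polynomial Module Cfsg.Lib.Linear
open scoped Matrix

variable {F : Type} [Field F] [Fintype F] {q : ℕ} (hF : Fintype.card F = q ^ 2)

local notation "B₄" => Herm.hB hF 4

omit [Fintype F] in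
theorem span_pair_invariant {V : Type*} [AddCommGroup V] [Module F V] (g : Module.End F V) {v w : V}
    (hv : g v ∈ Submodule.span F {v, w}) (hw : g w ∈ Submodule.span F {v, w}) :
    ∀ x ∈ Submodule.span F {v, w}, g x ∈ Submodule.span F {v, w} := by
  intro x hx
  refine (Submodule.span_le (p := (Submodule.span F {v, w}).comap g)).2 ?_ hx
  rintro y (rfl | rfl) <;> assumption

theorem finrank_span_pair' {V : Type*} [AddCommGroup V] [Module F V] {v w : V}
    (h : ∀ a b : F, a • v + b • w = 0 → a = 0 ∧ b = 0) : finrank F (Submodule.span F {v, w}) = 2 := by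
  have hli : LinearIndependent F ![v, w] := LinearIndependent.pair_iff.2 h
  have := finrank_span_eq_card hli
  rwa [show Set.range ![v, w] = {v, w} by simp [Set.pair_comm], Fintype.card_fin] at this

theorem ti_of_pair {v w : Fin 4 → F} (hv : B₄ v v = 0) (hw : B₄ w w = 0) (hvw : B₄ v w = 0) :
    ∀ x ∈ Submodule.span F {v, w}, ∀ y ∈ Submodule.span F {v, w}, B₄ x y = 0 := by
  intro x hx y hy
  obtain ⟨a, b, rfl⟩ := Submodule.mem_span_pair.1 hx
  obtain ⟨c, d, rfl⟩ := Submodule.mem_span_pair.1 hy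
  have hwv := Herm.hB_symm_zero hF hvw
  simp [hv, hw, hvw, hwv]

/-- An anisotropic eigenvector or an invariant totally isotropic line. -/
theorem four_cases (g : Module.End F (Fin 4 → F)) (hg : ∀ x y, B₄ (g x) (g y) = B₄ x y) :
    (∃ v : Fin 4 → F, B₄ v v ≠ 0 ∧ ∃ l : F, g v = l • v) ∨
      ∃ W : Submodule F (Fin 4 → F), finrank F W = 2 ∧ (∀ x ∈ W, g x ∈ W) ∧
        ∀ x ∈ W, ∀ y ∈ W, B₄ x y = 0 := by
  classical
  have hndV : ∀ x, (∀ y, B₄ x y = 0) → x = 0 := (Herm.hB_nondegenerate hF 4).1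
  have hinj : Function.Injective g := (injective_iff_map_eq_zero _).2 fun x hx => hndV x fun y => by
    rw [← hg, hx, map_zero, LinearMap.zero_apply]
  have hperp : ∀ W : Submodule F (Fin 4 → F), (∀ x ∈ W, g x ∈ W) → ∀ x ∈ Herm.perp hF W, g x ∈ Herm.perp hF W := by
    intro W hW x hx y hy
    have hsurj : Function.Surjective (g.restrict hW) := LinearMap.injective_iff_surjective.1
      fun a b h => Subtype.ext (hinj (congrArg Subtype.val h))
    obtain ⟨z, hz⟩ := hsurj ⟨y, hy⟩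
    rw [show y = g z from (congrArg Subtype.val hz).symm, hg]
    exact hx _ z.2
  by_cases hev : ∃ v, v ≠ 0 ∧ ∃ l : F, g v = l • v
  swap
  · -- without eigenvectors
    right
    obtain ⟨W, -, hW0, hW, hmin⟩ := exists_minimal_invariant g (U := ⊤) top_ne_bot (fun x _ => Submodule.mem_top)
    have h1 : ∀ X : Submodule F (Fin 4 → F), (∀ x ∈ X, g x ∈ X) → finrank F X ≠ 1 := fun X hX h => by
      obtain ⟨v, -, hv0, hv⟩ := exists_eigvec_of_finrank_one g hX h
      exact hev ⟨v, hv0, hv⟩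
    have hpd := Herm.finrank_perp hF W
    have hWpos : 0 < finrank F W := Submodule.one_le_finrank_iff.2 hW0
    have hR : ∀ x ∈ W ⊓ Herm.perp hF W, g x ∈ W ⊓ Herm.perp hF W := fun x hx =>
      ⟨hW x hx.1, hperp W hW x hx.2⟩
    by_cases hR0 : W ⊓ Herm.perp hF W = ⊥
    · exfalso
      have hnd : ∀ x ∈ W, (∀ y ∈ W, B₄ x y = 0) → x = 0 := fun x hx h => by
        have hx' : x ∈ W ⊓ Herm.perp hF W := ⟨hx, fun y hy => Herm.hB_symm_zero hF (h y hy)⟩
        rwa [hR0, Submodule.mem_bot] at hx'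
      obtain ⟨p, -, -, -, -, -, hodd⟩ := minimal_nondeg hF g hW0 hW (fun x _ y _ => hg x y) hnd hmin
      obtain ⟨k, hk⟩ := hodd
      have := h1 W hW
      have := h1 _ (hperp W hW)
      omega
    · have hle : W ≤ Herm.perp hF W := inf_eq_left.1 (hmin _ inf_le_left hR0 hR)
      have := Submodule.finrank_mono hle
      have := h1 W hW
      exact ⟨W, by omega, hW, fun x hx y hy => hle hy x hx⟩
  obtain ⟨v, hv0, l, hl⟩ := hev
  by_cases hvv : B₄ v v ≠ 0
  · exact Or.inl ⟨v, hvv, l, hl⟩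
  rw [not_not] at hvv
  have hl0 : l ≠ 0 := fun h => hv0 (hinj (by rw [hl, h, zero_smul, map_zero]))
  -- a singular eigenvector
  obtain ⟨f₀, hf₀⟩ : ∃ f, B₄ v f ≠ 0 := by
    by_contra h
    push Not at h
    exact hv0 (hndV v h)
  obtain ⟨f, hvf⟩ : ∃ f, B₄ v f = 1 :=
    ⟨(B₄ v f₀)⁻¹ • f₀, by rw [map_smul, smul_eq_mul, inv_mul_cancel₀ hf₀]⟩
  have hfv : B₄ f v = 1 := by rw [← (Herm.hB_isSymm hF 4).eq v f, hvf, map_one]
  have hvg : ∀ x, B₄ v x = 0 → B₄ v (g x) = 0 := fun x hx => by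
    have h := hg v x
    rw [hl, LinearMap.map_smulₛₗ, LinearMap.smul_apply, hx, smul_eq_mul] at h
    exact (mul_eq_zero.1 h).resolve_left ((_root_.map_ne_zero _).2 hl0)
  let g' : Module.End F (Fin 4 → F) := g - ((B₄ f).comp g).smulRight v
  have hg' : ∀ x, g' x = g x - B₄ f (g x) • v := fun x => rfl
  set X := Herm.perp hF (Submodule.span F {v, f}) with hX
  have memX : ∀ x, x ∈ X ↔ B₄ v x = 0 ∧ B₄ f x = 0 := fun x => by
    refine ⟨fun h => ⟨h v (Submodule.subset_span (by simp)), h f (Submodule.subset_span (by simp))⟩, fun h y hy => ?_⟩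
    obtain ⟨a, b, rfl⟩ := Submodule.mem_span_pair.1 hy
    simp [h.1, h.2]
  have hXd : finrank F X = 2 := by
    have h := Herm.finrank_perp hF (Submodule.span F {v, f})
    rw [finrank_span_pair' (fun a b hab => by
      have h1 := congrArg (B₄ v) hab
      simp [hvv, hvf] at h1
      rw [h1, zero_smul, add_zero, smul_eq_zero] at hab
      exact ⟨hab.resolve_right hv0, h1⟩)] at h
    rw [hX]
    omega
  have hX' : ∀ x ∈ X, g' x ∈ X := fun x hx => by
    rw [memX] at hx ⊢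
    rw [hg']
    refine ⟨?_, ?_⟩
    · rw [map_sub, map_smul, hvg x hx.1, hvv, smul_zero, sub_zero]
    · rw [map_sub, map_smul, hfv, smul_eq_mul, mul_one, sub_self]
  have hXiso : ∀ x ∈ X, ∀ y ∈ X, B₄ (g' x) (g' y) = B₄ x y := fun x hx y hy => by
    have h1 := hvg y ((memX y).1 hy).1
    have h2 := Herm.hB_symm_zero hF (hvg x ((memX x).1 hx).1)
    rw [hg', hg']
    simp [h1, h2, hvv, hg]
  have hXnd : ∀ x ∈ X, (∀ y ∈ X, B₄ x y = 0) → x = 0 := fun x hx h => hndV x fun y => by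
    have hxv := Herm.hB_symm_zero hF ((memX x).1 hx).1
    have hxf := Herm.hB_symm_zero hF ((memX x).1 hx).2
    have hff : B₄ f f = B₄ f f := rfl
    set a := B₄ v y
    set b := B₄ f y - B₄ v y * B₄ f f
    have hy : y - a • f - b • v ∈ X := by
      rw [memX]
      constructor
      · simp [map_sub, map_smul, hvv, hvf, a]
      · simp [map_sub, map_smul, hfv, a, b]
    have := h _ hy
    simpa [map_sub, map_smul, hxv, hxf] using this
  -- an eigenvector of the action modulo `v`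
  obtain ⟨u, hu, hu0, μ, hμ⟩ : ∃ u ∈ X, u ≠ 0 ∧ ∃ μ : F, g' u = μ • u := by
    have hXb : X ≠ ⊥ := fun h => by rw [h, finrank_bot] at hXd; omega
    obtain ⟨Y, hYX, hY0, hY, hmin⟩ := exists_minimal_invariant g' hXb hX'
    have := Submodule.one_le_finrank_iff.2 hY0
    have := Submodule.finrank_mono hYX
    by_cases h1 : finrank F Y = 1
    · obtain ⟨u, hu, hu0, hμ⟩ := exists_eigvec_of_finrank_one g' hY h1
      exact ⟨u, hYX hu, hu0, hμ⟩
    · exfalso
      have hYeq : Y = X := Submodule.eq_of_le_of_finrank_le hYX (by omega)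
      subst hYeq
      obtain ⟨p, -, -, -, -, -, hodd⟩ := minimal_nondeg hF g' hY0 hY hXiso hXnd hmin
      rw [hXd] at hodd
      exact absurd hodd (by decide)
  have hplane : ∀ w ∈ X, w ≠ 0 → B₄ w w = 0 → g w ∈ Submodule.span F {v, w} →
      ∃ W : Submodule F (Fin 4 → F), finrank F W = 2 ∧ (∀ x ∈ W, g x ∈ W) ∧
        ∀ x ∈ W, ∀ y ∈ W, B₄ x y = 0 := by
    intro w hw hw0 hww hgw
    refine ⟨_, finrank_span_pair' fun a b hab => ?_, span_pair_invariant g (v := v) (w := w) ?_ hgw,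
      ti_of_pair hF hvv hww ((memX w).1 hw).1⟩
    · have h1 := congrArg (B₄ f) hab
      simp [hfv, ((memX w).1 hw).2] at h1
      rw [h1, zero_smul, zero_add, smul_eq_zero] at hab
      exact ⟨h1, hab.resolve_right hw0⟩
    · rw [hl]
      exact Submodule.smul_mem _ _ (Submodule.subset_span (by simp))
  have hgu : ∀ (u' : Fin 4 → F) (μ' : F), g' u' = μ' • u' → g u' = μ' • u' + B₄ f (g u') • v := fun u' μ' h => by
    rw [← h, hg']; abel
  have hlift : ∀ u' ∈ X, ∀ μ' : F, g' u' = μ' • u' → B₄ u' u' ≠ 0 → μ' ≠ l →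
      ∃ w : Fin 4 → F, B₄ w w ≠ 0 ∧ ∃ l : F, g w = l • w := by
    intro u' hu' μ' hμ' hne hml
    refine ⟨u' + (B₄ f (g u') / (μ' - l)) • v, ?_, μ', ?_⟩
    · simpa [hvv, ((memX u').1 hu').1, Herm.hB_symm_zero hF ((memX u').1 hu').1] using hne
    · have e := hgu u' μ' hμ'
      generalize B₄ f (g u') = c at e ⊢
      rw [map_add, map_smul, hl, e, smul_add, smul_smul, smul_smul, add_assoc, ← add_smul]
      congr 2
      field_simp [sub_ne_zero.2 hml]
      ring
  by_cases huu : B₄ u u = 0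
  · refine Or.inr (hplane u hu hu0 huu ?_)
    rw [hgu u μ hμ]
    exact add_mem (Submodule.smul_mem _ _ (Submodule.subset_span (by simp)))
      (Submodule.smul_mem _ _ (Submodule.subset_span (by simp)))
  by_cases hμl : μ = l
  swap
  · exact Or.inl (hlift u hu μ hμ huu hμl)
  -- the orthogonal eigenvector
  obtain ⟨u₂, hu₂, hu₂0, huu2⟩ : ∃ u₂ ∈ X, u₂ ≠ 0 ∧ B₄ u u₂ = 0 := by
    let k : X →ₗ[F] F := (B₄ u).comp X.subtype
    have h := LinearMap.finrank_range_add_finrank_ker k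
    have hle : finrank F (LinearMap.range k) ≤ 1 := (Submodule.finrank_le _).trans_eq (finrank_self F)
    rw [hXd] at h
    obtain ⟨z, hz, hz0⟩ := Submodule.exists_mem_ne_zero_of_ne_bot
      (show LinearMap.ker k ≠ ⊥ from fun hk => by rw [hk, finrank_bot] at h; omega)
    exact ⟨z, z.2, fun hh => hz0 (Subtype.ext hh), hz⟩
  have hspan : ∀ x ∈ X, ∃ a b : F, x = a • u + b • u₂ := by
    intro x hx
    have hle : Submodule.span F {u, u₂} ≤ X := Submodule.span_le.2 (by
      rintro y (rfl | rfl) <;> assumption)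
    have he := Submodule.eq_of_le_of_finrank_le hle (by
      rw [hXd, finrank_span_pair' fun a b hab => ?_]
      have h1 := congrArg (B₄ u) hab
      simp [huu2, huu] at h1
      rw [h1, zero_smul, zero_add, smul_eq_zero] at hab
      exact ⟨h1, hab.resolve_right hu₂0⟩)
    rw [← he] at hx
    obtain ⟨a, b, hab⟩ := Submodule.mem_span_pair.1 hx
    exact ⟨a, b, hab.symm⟩
  have hu₂2 : B₄ u₂ u₂ ≠ 0 := fun h0 => hu₂0 (hXnd u₂ hu₂ fun y hy => by
    obtain ⟨a, b, rfl⟩ := hspan y hy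
    simp [h0, Herm.hB_symm_zero hF huu2])
  obtain ⟨a, μ₂, hab⟩ := hspan _ (hX' u₂ hu₂)
  have ha : a = 0 := by
    have h := hXiso u hu u₂ hu₂
    rw [hμ, hab, huu2] at h
    simp [huu2, huu, hμl, hl0] at h
    exact h
  rw [ha, zero_smul, zero_add] at hab
  by_cases hμ₂l : μ₂ = l
  swap
  · exact Or.inl (hlift u₂ hu₂ μ₂ hab hu₂2 hμ₂l)
  right
  have hsym : ∀ x, B₄ x x ^ q = B₄ x x := fun x => by
    rw [← Herm.frob_apply hF]; exact (Herm.hB_isSymm hF 4).eq x x
  obtain ⟨k, hk⟩ := Herm.exists_norm_eq hF (div_ne_zero (neg_ne_zero.2 huu) hu₂2) (by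
    rw [div_pow, hsym, ← Herm.frob_apply hF, map_neg, Herm.frob_apply hF, hsym])
  refine hplane (u + (k : F) • u₂) (add_mem hu (X.smul_mem _ hu₂)) (fun h0 => huu ?_) ?_ ?_
  · have h1 := congrArg (B₄ u) h0
    simpa [huu2] using h1
  · have h2 : (k : F) * (k : F) ^ q * B₄ u₂ u₂ = -B₄ u u := by
      rw [← pow_succ', hk, div_mul_cancel₀ _ hu₂2]
    simp [huu2, Herm.hB_symm_zero hF huu2, Herm.frob_apply]
    linear_combination h2
  · rw [map_add, map_smul, hgu u μ hμ, hgu u₂ μ₂ hab, hμl, hμ₂l, Submodule.mem_span_pair]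
    exact ⟨B₄ f (g u) + (k : F) * B₄ f (g u₂), l, by module⟩

include hF in
/-- `SU_4` is transitive on totally isotropic lines. -/
theorem exists_move_line {W W₀ : Submodule F (Fin 4 → F)} (hW : finrank F W = 2) (hW₀ : finrank F W₀ = 2)
    (hWi : ∀ x ∈ W, ∀ y ∈ W, B₄ x y = 0) (hW₀i : ∀ x ∈ W₀, ∀ y ∈ W₀, B₄ x y = 0) :
    ∃ A : Cfsg.SU 4 F q, ∀ v ∈ W, A.1.1 *ᵥ v ∈ W₀ := by
  have C : Herm.Big.Space B₄ := ⟨Herm.frob_ne_id hF, Herm.frob_frob hF, Herm.hB_isSymm hF 4,
    Herm.hB_nondegenerate hF 4, by rw [finrank_fin_fun]⟩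
  let e : W ≃ₗ[F] W₀ := LinearEquiv.ofFinrankEq W W₀ (hW.trans hW₀.symm)
  obtain ⟨t, ht, htW⟩ := Herm.witt C.ne_id C.invol C.symm C.ndeg W (W₀.subtype.comp e.toLinearMap)
    (W₀.injective_subtype.comp e.injective)
    fun x y => (hW₀i _ (e x).2 _ (e y).2).trans (hWi _ x.2 _ y.2).symm
  obtain ⟨w, hw, hw0⟩ := Submodule.exists_mem_ne_zero_of_ne_bot
    (show W₀ ≠ ⊥ from fun h => by rw [h, finrank_bot] at hW₀; omega)
  have hww := hW₀i w hw w hw
  obtain ⟨f₀, hf₀⟩ : ∃ f, B₄ w f ≠ 0 := by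
    by_contra h
    push Not at h
    exact hw0 (C.ndeg.1 w h)
  obtain ⟨f, hff, hwf⟩ : ∃ f, B₄ f f = 0 ∧ B₄ w f = 1 := by
    obtain ⟨f₁, h1⟩ : ∃ f, B₄ w f = 1 :=
      ⟨(B₄ w f₀)⁻¹ • f₀, by rw [map_smul, smul_eq_mul, inv_mul_cancel₀ hf₀]⟩
    obtain ⟨s, hs⟩ := Herm.Big.adjust C hww h1
    exact ⟨f₁ + s • w, hs, by rw [map_add, map_smul, hww, smul_zero, add_zero, h1]⟩
  have hfw : B₄ f w = 1 := by rw [← C.symm.eq w f, hwf, map_one]
  obtain ⟨D, hD, hdet, ⟨α, -, hα⟩, -, hfix⟩ := Herm.Big.exists_det_fix C hww hff hwf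
    (z := (LinearEquiv.det t : F)⁻¹) (by rw [map_inv₀, ← mul_inv, frob_mul_self_det hF ht, inv_one])
  obtain ⟨A, hA⟩ := exists_SU hF (mul_mem hD ht) (Units.ext (by
    rw [map_mul, Units.val_mul, hdet, inv_mul_cancel₀ (LinearEquiv.det t).ne_zero, Units.val_one]))
  refine ⟨A, fun v hv => ?_⟩
  rw [hA]
  show D (t v) ∈ W₀
  rw [htW ⟨v, hv⟩]
  set x : Fin 4 → F := (W₀.subtype.comp e.toLinearMap) ⟨v, hv⟩ with hxdef
  have hx : x ∈ W₀ := (e ⟨v, hv⟩).2
  have hdec : x = (x - B₄ f x • w) + B₄ f x • w := by abel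
  rw [hdec, map_add, map_smul, hα, hfix _ (hW₀i w hw _ (sub_mem hx (W₀.smul_mem _ hw)))
    (by rw [map_sub, map_smul, hfw, smul_eq_mul, mul_one, sub_self])]
  exact add_mem (sub_mem hx (W₀.smul_mem _ hw)) (W₀.smul_mem _ (W₀.smul_mem _ hw))

include hF in
theorem twoCover_PSU_four : TwoCover (Cfsg.PSU 4 F q) := by
  classical
  obtain ⟨c, hc⟩ := Herm.exists_neg_one_norm hF
  obtain ⟨z, hz, hzz⟩ := Herm.exists_norm_one_sq_ne hF
  have hz1 : z ≠ 1 := fun h => hzz (by rw [h, mul_one])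
  let vv : F → Fin 4 → F := fun d => ![1, d, 0, 0]
  let ww : F → Fin 4 → F := fun d => ![0, 0, 1, d]
  let WW : F → Submodule F (Fin 4 → F) := fun d => Submodule.span F {vv d, ww d}
  have hWW : ∀ d : F, d ^ q * d = -1 → finrank F (WW d) = 2 ∧ ∀ x ∈ WW d, ∀ y ∈ WW d, B₄ x y = 0 := by
    intro d hd
    refine ⟨finrank_span_pair' fun a b hab => ?_, ti_of_pair hF ?_ ?_ ?_⟩
    · have h0 := congrFun hab 0
      have h2 := congrFun hab 2
      simp [vv, ww] at h0 h2
      exact ⟨h0, h2⟩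
    all_goals
      have hq : q ≠ 0 := by have := Herm.two_le_q hF; omega
      simp [Herm.hB_apply, Cfsg.hermForm, Fin.sum_univ_four, vv, ww, zero_pow hq]
    all_goals linear_combination hd
  have hcz : (c * z) ^ q * (c * z) = -1 := by
    rw [pow_succ] at hz
    rw [mul_pow]
    linear_combination z ^ q * z * hc - hz
  have hne : WW c ≠ WW (c * z) := by
    intro h
    have : vv (c * z) ∈ WW c := h ▸ Submodule.subset_span (by simp)
    obtain ⟨a, b, hab⟩ := Submodule.mem_span_pair.1 this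
    have h0 := congrFun hab 0
    have h1 := congrFun hab 1
    simp [vv, ww] at h0 h1
    rw [h0, one_mul] at h1
    have hc0 : c ≠ 0 := fun h => by rw [h, mul_zero] at hc; exact (neg_ne_zero.2 one_ne_zero) hc.symm
    exact hz1 ((mul_eq_left₀ hc0).1 h1.symm)
  obtain ⟨hd0, hi0⟩ := hWW c hc
  refine twoCover_quot (center_le_stW hF (by norm_num) _) (center_le_stW hF (by norm_num) _)
    (stW_point_ne_top hF (n := 4) (by norm_num)) (K := stW (q := q) (WW c)) ?_ fun A => ?_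
  · intro h
    obtain ⟨hd1, hi1⟩ := hWW (c * z) hcz
    obtain ⟨A, hA⟩ := exists_move_line hF hd1 hd0 hi1 hi0
    have hA0 : ∀ v ∈ WW c, A.1.1 *ᵥ v ∈ WW c := (show A ∈ stW (WW c) by rw [h]; exact Subgroup.mem_top A)
    have hinj : Function.Injective (Matrix.mulVecLin A.1.1) :=
      Matrix.mulVec_injective_iff_isUnit.2 ((Matrix.isUnit_iff_isUnit_det _).2 (by rw [A.1.2]; exact isUnit_one))
    have key : ∀ W : Submodule F (Fin 4 → F), finrank F W = 2 → (∀ v ∈ W, A.1.1 *ᵥ v ∈ WW c) → W.map (Matrix.mulVecLin A.1.1) = WW c :=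
      fun W hd hW => Submodule.eq_of_le_of_finrank_le (Submodule.map_le_iff_le_comap.2 hW)
        (by rw [(Submodule.equivMapOfInjective _ hinj W).symm.finrank_eq, hd, hd0])
    exact hne (Submodule.map_injective_of_injective hinj ((key _ hd0 hA0).trans (key _ hd1 hA).symm))
  · rcases four_cases hF (Matrix.mulVecLin A.1.1) (fun x y => iso_SU hF A x y) with
      ⟨v, hv, l, hl⟩ | ⟨W, hWd, hW, hWi⟩
    · obtain ⟨x, hx⟩ := exists_move_point hF hv (w := Pi.single (⟨0, by omega⟩ : Fin 4) (1 : F))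
        (by rw [Herm.hB_single_right]; simp)
      refine ⟨x, Or.inl (move_stW (W := Submodule.span F {v}) (fun y hy => ?_) (fun y hy => ?_) ?_)⟩
      · obtain ⟨a, rfl⟩ := Submodule.mem_span_singleton.1 hy
        rw [Matrix.mulVec_smul, show A.1.1 *ᵥ v = l • v from hl, smul_smul]
        exact Submodule.smul_mem _ _ (Submodule.mem_span_singleton_self v)
      · obtain ⟨a, rfl⟩ := Submodule.mem_span_singleton.1 hy
        rw [Matrix.mulVec_smul]
        exact Submodule.smul_mem _ _ hx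
      · rw [finrank_span_singleton (K := F) (v := v) (fun h => hv (by rw [h, map_zero])),
          finrank_span_singleton (K := F) (v := (Pi.single _ 1 : Fin 4 → F)) (by simp)]
    · obtain ⟨x, hx⟩ := exists_move_line hF hWd hd0 hWi hi0
      exact ⟨x, Or.inr (move_stW hW hx (by omega))⟩

end Cfsg.Lib.Cover
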