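import Cfsg.Agent.Lib.Cover.PSUThreeModel

/-!
# `PSU_3(3^a)` is the union of the conjugates of two proper subgroups

An element without anisotropic eigenvector is irreducible or regular unipotent; both kinds normalise a
self-adjoint cubic field, and in characteristic `3` every unitary isometry is a scalar times one of
determinant one.
-/

set_option autoImplicit false

namespace Cfsg.Lib.Cover.U3

open Polynomial Module Cfsg.Lib.Linear
open scoped Matrix

variable {F : Type} [Field F] [Fintype F] [CharP F 3] {q : ℕ} (hF : Fintype.card F = q ^ 2)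
  (hq : ∃ a : ℕ, q = 3 ^ a)

local notation "B₃" => Herm.hB hF 3

theorem cube_injective {a b : F} (h : a ^ 3 = b ^ 3) : a = b := by
  have h3 : (3 : F) = 0 := three_eq_zero
  have : (a - b) ^ 3 = 0 := by linear_combination h - (a ^ 2 * b - a * b ^ 2) * h3
  exact sub_eq_zero.1 (eq_zero_of_pow_eq_zero this)

/-- An isometry is a scalar times an element of the special unitary group. -/
theorem exists_SU_scale {e : (Fin 3 → F) ≃ₗ[F] (Fin 3 → F)} (he : e ∈ Herm.iso B₃) :
    ∃ (A : Cfsg.SU 3 F q) (w : F), w ≠ 0 ∧ ∀ v, A.1.1 *ᵥ v = w • e v := by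
  obtain ⟨w, hw⟩ := (Finite.injective_iff_surjective (f := fun x : F => x ^ 3)).1
    (fun a b h => cube_injective h) ((LinearEquiv.det e : F)⁻¹)
  simp only at hw
  have hz := frob_mul_self_det hF he
  have hw3 : w ^ 3 ≠ 0 := by rw [hw]; exact inv_ne_zero (LinearEquiv.det e).ne_zero
  have hw0 : w ≠ 0 := fun h => hw3 (by rw [h]; ring)
  have hww : Herm.frob hF w * w = 1 := cube_injective (by
    rw [one_pow, mul_pow, ← map_pow, hw, map_inv₀, ← mul_inv, hz, inv_one])
  let s : (Fin 3 → F) ≃ₗ[F] (Fin 3 → F) := LinearEquiv.smulOfUnit (Units.mk0 w hw0)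
  have hs : s * e ∈ Herm.iso B₃ := fun x y => by
    show B₃ (w • e x) (w • e y) = _
    simp only [LinearMap.map_smulₛₗ, LinearMap.smul_apply, RingHom.id_apply, smul_eq_mul]
    rw [← mul_assoc, mul_comm w, hww, one_mul, he]
  obtain ⟨A, hA⟩ := exists_SU hF hs (Units.ext (by
    rw [map_mul, Units.val_mul, LinearEquiv.coe_det, show ((s : (Fin 3 → F) ≃ₗ[F] (Fin 3 → F)) :
      (Fin 3 → F) →ₗ[F] (Fin 3 → F)) = w • LinearMap.id from rfl, LinearMap.det_smul, LinearMap.det_id, mul_one,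
      finrank_fin_fun, hw, inv_mul_cancel₀ (LinearEquiv.det e).ne_zero, Units.val_one]))
  exact ⟨A, w, hw0, fun v => hA v⟩

/-- An intertwining isometry gives a conjugating element of `SU_3`. -/
theorem exists_SU_intertwine {S S' : Module.End F (Fin 3 → F)} {e : (Fin 3 → F) ≃ₗ[F] (Fin 3 → F)}
    (he : e ∈ Herm.iso B₃) (h : ∀ v, e (S v) = S' (e v)) :
    ∃ A : Cfsg.SU 3 F q, ∀ v, A.1.1 *ᵥ S v = S' (A.1.1 *ᵥ v) := by
  obtain ⟨A, w, -, hA⟩ := exists_SU_scale hF he
  exact ⟨A, fun v => by rw [hA, hA, h, map_smul]⟩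

include hF in
theorem adjoint_rho {p : F[X]} [Fact (Irreducible p)] (g : Module.End F (Fin 3 → F)) (hp : aeval g p = 0)
    (h : ∀ x y, B₃ (g x) y = B₃ x (rho g hp (AdjoinRoot.root p ^ (q ^ 3)) y))
    (k : AdjoinRoot p) (x y : Fin 3 → F) : B₃ (rho g hp k x) y = B₃ x (rho g hp (k ^ (q ^ 3)) y) := by
  obtain ⟨τ, hτ⟩ := exists_powHom hF (AdjoinRoot p)
  have hpow : ∀ z : AdjoinRoot p, z ^ (q ^ 3) = τ (τ (τ z)) := fun z => by
    rw [hτ, hτ, hτ, ← pow_mul, ← pow_mul]; ring_nf
  obtain ⟨a, rfl⟩ := AdjoinRoot.mk_surjective k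
  induction a using Polynomial.induction_on generalizing x y with
  | C c =>
    rw [hpow, AdjoinRoot.mk_C, ← AdjoinRoot.algebraMap_eq, hτ, hτ, hτ, algebraMap_pow_q hF, algebraMap_pow_q hF,
      algebraMap_pow_q hF, Herm.frob_frob, AlgHom.commutes, AlgHom.commutes, Module.algebraMap_end_apply,
      Module.algebraMap_end_apply, LinearMap.map_smulₛₗ, LinearMap.smul_apply, map_smul]
  | add a b ha hb =>
    rw [map_add (AdjoinRoot.mk p), hpow, map_add τ, map_add τ, map_add τ, ← hpow, ← hpow, map_add (rho g hp),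
      map_add (rho g hp), LinearMap.add_apply, LinearMap.add_apply, map_add (B₃), LinearMap.add_apply,
      map_add (B₃ x), ha, hb]
  | monomial j c hk =>
    rw [pow_succ, ← mul_assoc, map_mul (AdjoinRoot.mk p), AdjoinRoot.mk_X, mul_pow, map_mul (rho g hp),
      Module.End.mul_apply, rho_root, hk, h,
      mul_comm (_ ^ (q ^ 3)) (AdjoinRoot.root p ^ (q ^ 3)), map_mul (rho g hp), Module.End.mul_apply]

include hq in
/-- Self-adjoint roots of `X^3 - X + e` are conjugate. -/
theorem exists_conj_selfadjoint {e : F} (he : e ^ q = e) (hroot : ∀ x : F, x ^ 3 - x + e ≠ 0)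
    {S S' : Module.End F (Fin 3 → F)} (hS : aeval S (f e) = 0) (hS' : aeval S' (f e) = 0)
    (hSa : ∀ x y, B₃ (S x) y = B₃ x (S y)) (hSa' : ∀ x y, B₃ (S' x) y = B₃ x (S' y)) :
    ∃ t ∈ Herm.iso B₃, ∀ v, t (S v) = S' (t v) := by
  classical
  have hirr := f_irreducible hroot
  haveI : Fact (Irreducible (f e)) := ⟨hirr⟩
  haveI : Module.Finite F (AdjoinRoot (f e)) := (AdjoinRoot.powerBasis hirr.ne_zero).finite
  haveI : Finite (AdjoinRoot (f e)) := Module.finite_of_finite F
  haveI := Fintype.ofFinite (AdjoinRoot (f e))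
  have hdim : finrank F (AdjoinRoot (f e)) = 3 := by
    rw [(AdjoinRoot.powerBasis hirr.ne_zero).finrank, AdjoinRoot.powerBasis_dim, f_natDegree]
  have hcard : Fintype.card (AdjoinRoot (f e)) = (q ^ 3) ^ 2 := by
    rw [Module.card_eq_pow_finrank (K := F), hdim, hF]; ring
  have hθ : AdjoinRoot.root (f e) ^ (q ^ 3) = AdjoinRoot.root (f e) :=
    root_fixed hF hq he (by rw [AdjoinRoot.aeval_eq, AdjoinRoot.mk_self])
  have adj : ∀ (R : Module.End F (Fin 3 → F)) (hR : aeval R (f e) = 0), (∀ x y, B₃ (R x) y = B₃ x (R y)) →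
      ∀ k x y, B₃ (rho R hR k x) y = B₃ x (rho R hR (k ^ (q ^ 3)) y) := fun R hR h =>
    adjoint_rho hF R hR (fun x y => by rw [hθ, rho_root]; exact h x y)
  set v : Fin 3 → F := Pi.single 0 1 with hv
  have hv0 : v ≠ 0 := by simp [hv]
  have hd : finrank F (Fin 3 → F) = (f e).natDegree := by rw [finrank_fin_fun, f_natDegree]
  let φ : AdjoinRoot (f e) →ₗ[F] F := (B₃ v).comp ((LinearMap.applyₗ v).comp (rho S hS).toLinearMap)
  let ψ : AdjoinRoot (f e) →ₗ[F] F := (B₃ v).comp ((LinearMap.applyₗ v).comp (rho S' hS').toLinearMap)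
  have nd : ∀ (R : Module.End F (Fin 3 → F)) (hR : aeval R (f e) = 0) (a : AdjoinRoot (f e)),
      (∀ m, B₃ v (rho R hR (a * m) v) = 0) → a = 0 := by
    intro R hR a h
    by_contra ha
    refine hv0 ((Herm.hB_nondegenerate hF 3).1 v fun y => ?_)
    obtain ⟨k, rfl⟩ := (rho_apply_bijective hirr R hR hd hv0).2 y
    have := h (a⁻¹ * k)
    rwa [← mul_assoc, mul_inv_cancel₀ ha, one_mul] at this
  obtain ⟨a, ha⟩ : ∃ a, ∀ m, ψ (a * m) = φ m := by
    let M : AdjoinRoot (f e) →ₗ[F] Module.Dual F (AdjoinRoot (f e)) :=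
      { toFun := fun a => ψ.comp (LinearMap.mulLeft F a)
        map_add' := fun a b => LinearMap.ext fun m => by simp [add_mul]
        map_smul' := fun c a => LinearMap.ext fun m => by simp }
    have hM : Function.Injective M := (injective_iff_map_eq_zero _).2 fun a h =>
      nd S' hS' a fun m => LinearMap.congr_fun h m
    obtain ⟨a, ha⟩ := (LinearMap.injective_iff_surjective_of_finrank_eq_finrank
      Subspace.dual_finrank_eq.symm).1 hM φ
    exact ⟨a, fun m => LinearMap.congr_fun ha m⟩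
  have hsymm : ∀ (R : Module.End F (Fin 3 → F)) (hR : aeval R (f e) = 0),
      (∀ x y, B₃ (R x) y = B₃ x (R y)) → ∀ m,
      B₃ v (rho R hR (m ^ (q ^ 3)) v) = Herm.frob hF (B₃ v (rho R hR m v)) := fun R hR h m => by
    rw [← adj R hR h m v v, ← (Herm.hB_isSymm hF 3).eq v (rho R hR m v)]
  have hinv : ∀ z : AdjoinRoot (f e), (z ^ (q ^ 3)) ^ (q ^ 3) = z := fun z => by
    rw [← pow_mul, ← pow_two, ← hcard, FiniteField.pow_card]
  have hafix : a ^ (q ^ 3) = a := by
    refine sub_eq_zero.1 (nd S' hS' _ fun m => ?_)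
    have h1 : ψ (a ^ (q ^ 3) * m) = ψ (a * m) := by
      calc ψ (a ^ (q ^ 3) * m) = ψ ((a * m ^ (q ^ 3)) ^ (q ^ 3)) := by rw [mul_pow, hinv]
        _ = Herm.frob hF (ψ (a * m ^ (q ^ 3))) := hsymm S' hS' hSa' _
        _ = Herm.frob hF (φ (m ^ (q ^ 3))) := by rw [ha]
        _ = φ ((m ^ (q ^ 3)) ^ (q ^ 3)) := (hsymm S hS hSa _).symm
        _ = ψ (a * m) := by rw [hinv, ha]
    show ψ ((a ^ (q ^ 3) - a) * m) = 0
    rw [sub_mul, map_sub, h1, sub_self]
  have ha0 : a ≠ 0 := fun h0 => one_ne_zero (α := AdjoinRoot (f e)) (nd S hS 1 fun m => by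
    show φ (1 * m) = 0
    rw [← ha, h0, zero_mul, map_zero])
  obtain ⟨k, hk⟩ := Herm.exists_norm_eq hcard ha0 hafix
  set v' := rho S' hS' (k : AdjoinRoot (f e)) v with hv'
  have hv'0 : v' ≠ 0 := fun h => hv0 ((rho_apply_injective hirr S' hS' hv0).eq_iff.1
    (show rho S' hS' (k : AdjoinRoot (f e)) v = rho S' hS' 0 v by
      rw [map_zero, LinearMap.zero_apply]; exact h) |> fun h => absurd h k.ne_zero)
  have hgram : ∀ m, B₃ v' (rho S' hS' m v') = φ m := fun m => by
    rw [← ha, ← hk, hv', adj S' hS' hSa', ← Module.End.mul_apply, ← map_mul, ← Module.End.mul_apply, ← map_mul]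
    refine congrArg (fun z => B₃ v (rho S' hS' z v)) ?_
    ring
  let e₁ : AdjoinRoot (f e) ≃ₗ[F] (Fin 3 → F) := LinearEquiv.ofBijective
    ((LinearMap.applyₗ v).comp (rho S hS).toLinearMap) (rho_apply_bijective hirr S hS hd hv0)
  let e₂ : AdjoinRoot (f e) ≃ₗ[F] (Fin 3 → F) := LinearEquiv.ofBijective
    ((LinearMap.applyₗ v').comp (rho S' hS').toLinearMap) (rho_apply_bijective hirr S' hS' hd hv'0)
  refine ⟨e₁.symm.trans e₂, fun x y => ?_, fun x => ?_⟩
  · obtain ⟨b, rfl⟩ := e₁.surjective x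
    obtain ⟨c, rfl⟩ := e₁.surjective y
    rw [LinearEquiv.trans_apply, LinearEquiv.trans_apply, LinearEquiv.symm_apply_apply,
      LinearEquiv.symm_apply_apply]
    show B₃ (rho S' hS' b v') (rho S' hS' c v') = B₃ (rho S hS b v) (rho S hS c v)
    rw [adj S' hS' hSa', adj S hS hSa, ← Module.End.mul_apply, ← map_mul, hgram, ← Module.End.mul_apply, ← map_mul]
    rfl
  · obtain ⟨b, rfl⟩ := e₁.surjective x
    have h1 : S (e₁ b) = e₁ (AdjoinRoot.root (f e) * b) := by
      show S (rho S hS b v) = rho S hS _ v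
      rw [map_mul, rho_root, Module.End.mul_apply]
    rw [h1, LinearEquiv.trans_apply, LinearEquiv.trans_apply, LinearEquiv.symm_apply_apply,
      LinearEquiv.symm_apply_apply]
    show rho S' hS' _ v' = S' (rho S' hS' b v')
    rw [map_mul, rho_root, Module.End.mul_apply]

/-- The normal form of a regular unipotent isometry. -/
theorem exists_normal_basis (N : Module.End F (Fin 3 → F))
    (hg : ∀ x z, B₃ (N x) z + B₃ x (N z) + B₃ (N x) (N z) = 0) (h3N : ∀ x, N (N (N x)) = 0)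
    (h2N : ∃ x, N (N x) ≠ 0) :
    ∃ y, N (N y) ≠ 0 ∧ B₃ (N (N y)) y = -1 ∧ B₃ (N y) y = 1 ∧ B₃ y y = 0 := by
  have h3 : (3 : F) = 0 := three_eq_zero
  have hq0 : q ≠ 0 := by have := Herm.two_le_q hF; omega
  have hsy : ∀ x z, Herm.frob hF (B₃ x z) = B₃ z x := (Herm.hB_isSymm hF 3).eq
  have r21 : ∀ y, B₃ (N (N y)) (N y) = 0 := fun y => by
    have := hg (N (N y)) y
    simpa [h3N] using this
  have r22 : ∀ y, B₃ (N (N y)) (N (N y)) = 0 := fun y => by
    have := hg (N (N y)) (N y)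
    simpa [h3N] using this
  have r12 : ∀ y, B₃ (N y) (N (N y)) = 0 := fun y => Herm.hB_symm_zero hF (r21 y)
  have r11 : ∀ y, B₃ (N y) (N y) = -B₃ (N (N y)) y := fun y => by
    have := hg (N y) y
    rw [r21] at this
    linear_combination this
  have rg : ∀ y, B₃ (N y) y + B₃ y (N y) = B₃ (N (N y)) y := fun y => by
    have := hg y y
    rw [r11] at this
    linear_combination this
  have ra : ∀ y, Herm.frob hF (B₃ (N (N y)) y) = B₃ (N (N y)) y := fun y => by
    have := hsy (N y) (N y)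
    rw [r11, map_neg] at this
    exact neg_injective this
  have hlast : ∀ y, N (N y) ≠ 0 → B₃ (N (N y)) y ≠ 0 := by
    intro y hy hzero
    refine hy ((Herm.hB_nondegenerate hF 3).1 _ fun z => ?_)
    have hli : LinearIndependent F ![y, N y, N (N y)] := by
      refine Fintype.linearIndependent_iff.2 fun c hc => ?_
      simp only [Fin.sum_univ_three, Matrix.cons_val_zero, Matrix.cons_val_one, Matrix.cons_val] at hc
      have c0 : c 0 = 0 := by
        have := congrArg (fun x => N (N x)) hc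
        simpa [h3N, hy] using this
      have c1 : c 1 = 0 := by
        have := congrArg N hc
        simpa [c0, h3N, hy] using this
      have c2 : c 2 = 0 := by simpa [c0, c1, hy] using hc
      intro i
      fin_cases i <;> assumption
    have hz : z ∈ Submodule.span F (Set.range ![y, N y, N (N y)]) := by
      rw [hli.span_eq_top_of_card_eq_finrank (by rw [Fintype.card_fin, finrank_fin_fun])]
      exact Submodule.mem_top
    obtain ⟨c, rfl⟩ := (Submodule.mem_span_range_iff_exists_fun F).1 hz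
    simp [Fin.sum_univ_three, hzero, r21, r22]
  obtain ⟨y₀, hy₀⟩ := h2N
  -- the first coefficient
  set a₀ := B₃ (N (N y₀)) y₀ with ha₀
  have ha0 : a₀ ≠ 0 := hlast y₀ hy₀
  obtain ⟨k, hk⟩ := Herm.exists_norm_eq hF (div_ne_zero (neg_ne_zero.2 one_ne_zero) ha0) (by
    rw [← Herm.frob_apply hF, map_div₀, map_neg, map_one, ha₀, ra])
  obtain ⟨y₁, hy₁⟩ : ∃ y, y = (k : F) • y₀ := ⟨_, rfl⟩
  have hy₁N : N (N y₁) ≠ 0 := by simp [hy₁, hy₀]
  have hy₁a : B₃ (N (N y₁)) y₁ = -1 := by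
    simp only [hy₁, map_smul, LinearMap.map_smulₛₗ, LinearMap.smul_apply, RingHom.id_apply, smul_eq_mul,
      Herm.frob_apply, ← ha₀]
    linear_combination a₀ * hk + div_mul_cancel₀ (-1 : F) ha0
  -- the second
  set l := B₃ (N y₁) y₁ - 1 with hl
  have hll : Herm.frob hF l = -l := by
    have h := rg y₁
    rw [hy₁a, ← hsy (N y₁) y₁] at h
    rw [hl, map_sub, map_one]
    linear_combination h - h3
  obtain ⟨y₂, hy₂⟩ : ∃ y, y = y₁ + l • N y₁ := ⟨_, rfl⟩
  have hN2 : N y₂ = N y₁ + l • N (N y₁) := by rw [hy₂, map_add, map_smul]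
  have hNN2 : N (N y₂) = N (N y₁) := by rw [hN2, map_add, map_smul, h3N, smul_zero, add_zero]
  have hy₂a : B₃ (N (N y₂)) y₂ = -1 := by
    rw [hNN2, hy₂, map_add, map_smul, r21, smul_zero, add_zero, hy₁a]
  have hy₂g : B₃ (N y₂) y₂ = 1 := by
    rw [hN2, hy₂]
    simp [r11, r21, hy₁a, hll]
    linear_combination (l) * h3 + hl * (-1 : F)
  -- the third
  set d := B₃ y₂ y₂ with hd
  have hdd : Herm.frob hF d = d := hsy y₂ y₂
  obtain ⟨y, hy⟩ : ∃ y, y = y₂ + (-d) • N (N y₂) := ⟨_, rfl⟩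
  have hN : N y = N y₂ := by rw [hy, map_add, map_smul, h3N, smul_zero, add_zero]
  refine ⟨y, ?_, ?_, ?_, ?_⟩
  · rw [hN, hNN2]; exact hy₁N
  · rw [hN, hy, map_add, map_smul, r22, smul_zero, add_zero, hy₂a]
  · rw [hN, hy, map_add, map_smul, r12, smul_zero, add_zero, hy₂g]
  · have h' : B₃ y₂ (N (N y₂)) = -1 := by rw [← hsy (N (N y₂)) y₂, hy₂a, map_neg, map_one]
    rw [hy]
    simp [r22, hy₂a, h', hdd, ← hd]
    linear_combination d * h3

/-- All regular unipotent isometries are conjugate. -/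
theorem exists_conj_unipotent (N N' : Module.End F (Fin 3 → F))
    (hg : ∀ x z, B₃ (N x) z + B₃ x (N z) + B₃ (N x) (N z) = 0) (h3N : ∀ x, N (N (N x)) = 0)
    (h2N : ∃ x, N (N x) ≠ 0)
    (hg' : ∀ x z, B₃ (N' x) z + B₃ x (N' z) + B₃ (N' x) (N' z) = 0) (h3N' : ∀ x, N' (N' (N' x)) = 0)
    (h2N' : ∃ x, N' (N' x) ≠ 0) : ∃ t ∈ Herm.iso B₃, ∀ x, t (N x) = N' (t x) := by
  have hsy : ∀ x z, Herm.frob hF (B₃ x z) = B₃ z x := (Herm.hB_isSymm hF 3).eq
  obtain ⟨y, hy, ha, hc, hd⟩ := exists_normal_basis hF N hg h3N h2N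
  obtain ⟨y', hy', ha', hc', hd'⟩ := exists_normal_basis hF N' hg' h3N' h2N'
  let Φ : ∀ (M : Module.End F (Fin 3 → F)) (z : Fin 3 → F), (Fin 3 → F) →ₗ[F] (Fin 3 → F) := fun M z =>
    (LinearMap.proj (0 : Fin 3)).smulRight z + (LinearMap.proj (1 : Fin 3)).smulRight (M z) +
      (LinearMap.proj (2 : Fin 3)).smulRight (M (M z))
  have hΦ : ∀ M z c, Φ M z c = c 0 • z + c 1 • M z + c 2 • M (M z) := fun M z c => rfl
  have hbij : ∀ (M : Module.End F (Fin 3 → F)) (z : Fin 3 → F), (∀ x, M (M (M x)) = 0) → M (M z) ≠ 0 →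
      Function.Bijective (Φ M z) := by
    intro M z h3M hz
    have hi : Function.Injective (Φ M z) := by
      refine (injective_iff_map_eq_zero _).2 fun c hc => ?_
      rw [hΦ] at hc
      have c0 : c 0 = 0 := by
        have := congrArg (fun x => M (M x)) hc
        simpa [h3M, hz] using this
      have c1 : c 1 = 0 := by
        have := congrArg M hc
        simpa [c0, h3M, hz] using this
      have c2 : c 2 = 0 := by simpa [c0, c1, hz] using hc
      funext i
      fin_cases i <;> assumption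
    exact ⟨hi, LinearMap.injective_iff_surjective.1 hi⟩
  let e₁ := LinearEquiv.ofBijective (Φ N y) (hbij N y h3N hy)
  let e₂ := LinearEquiv.ofBijective (Φ N' y') (hbij N' y' h3N' hy')
  refine ⟨e₁.symm.trans e₂, fun x z => ?_, fun x => ?_⟩
  · obtain ⟨b, rfl⟩ := e₁.surjective x
    obtain ⟨c, rfl⟩ := e₁.surjective z
    simp only [LinearEquiv.trans_apply, LinearEquiv.symm_apply_apply]
    show B₃ (Φ N' y' b) (Φ N' y' c) = B₃ (Φ N y b) (Φ N y c)
    have gram : ∀ (M : Module.End F (Fin 3 → F)) (z : Fin 3 → F),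
        (∀ x w, B₃ (M x) w + B₃ x (M w) + B₃ (M x) (M w) = 0) → (∀ x, M (M (M x)) = 0) →
        B₃ (M (M z)) z = -1 → B₃ (M z) z = 1 → B₃ z z = 0 →
        B₃ z (M z) = Herm.frob hF 1 ∧ B₃ z (M (M z)) = Herm.frob hF (-1) ∧ B₃ (M z) (M z) = 1 ∧
          B₃ (M (M z)) (M z) = 0 ∧ B₃ (M z) (M (M z)) = 0 ∧ B₃ (M (M z)) (M (M z)) = 0 := by
      intro M z hM h3M h1 h2 _
      have a21 : B₃ (M (M z)) (M z) = 0 := by have := hM (M (M z)) z; simpa [h3M] using this
      have a22 : B₃ (M (M z)) (M (M z)) = 0 := by have := hM (M (M z)) (M z); simpa [h3M] using this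
      refine ⟨by rw [← h2, hsy], by rw [← h1, hsy], ?_, a21, Herm.hB_symm_zero hF a21, a22⟩
      have := hM (M z) z
      rw [a21, h1] at this
      linear_combination this
    obtain ⟨g1, g2, g3, g4, g5, g6⟩ := gram N y hg h3N ha hc hd
    obtain ⟨g1', g2', g3', g4', g5', g6'⟩ := gram N' y' hg' h3N' ha' hc' hd'
    simp [hΦ, g1, g2, g3, g4, g5, g6, g1', g2', g3', g4', g5', g6', ha, hc, hd, ha', hc', hd']
  · obtain ⟨b, rfl⟩ := e₁.surjective x
    have h1 : N (e₁ b) = e₁ ![0, b 0, b 1] := by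
      show N (Φ N y b) = Φ N y _
      simp [hΦ, h3N]
    rw [h1, LinearEquiv.trans_apply, LinearEquiv.trans_apply, LinearEquiv.symm_apply_apply,
      LinearEquiv.symm_apply_apply]
    show Φ N' y' _ = N' (Φ N' y' b)
    simp [hΦ, h3N']

/-- An element of `SU_3` without anisotropic eigenvector is irreducible or regular unipotent. -/
theorem three_cases (A : Cfsg.SU 3 F q) :
    (∃ v : Fin 3 → F, B₃ v v ≠ 0 ∧ ∃ l : F, A.1.1 *ᵥ v = l • v) ∨
    (∃ p : F[X], Irreducible p ∧ p.natDegree = 3 ∧ aeval (Matrix.mulVecLin A.1.1) p = 0 ∧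
      ∀ _ : Fact (Irreducible p), aeval ((AdjoinRoot.root p)⁻¹ ^ q) p = 0) ∨
    ((∀ x, (A.1.1 - 1) *ᵥ ((A.1.1 - 1) *ᵥ ((A.1.1 - 1) *ᵥ x)) = 0) ∧
      ∃ x, (A.1.1 - 1) *ᵥ ((A.1.1 - 1) *ᵥ x) ≠ 0) := by
  classical
  set g : Module.End F (Fin 3 → F) := Matrix.mulVecLin A.1.1
  have hg : ∀ x y, B₃ (g x) (g y) = B₃ x y := fun x y => iso_SU hF A x y
  have hndV : ∀ x, (∀ y, B₃ x y = 0) → x = 0 := (Herm.hB_nondegenerate hF 3).1
  have hinj : Function.Injective g := (injective_iff_map_eq_zero _).2 fun x hx => hndV x fun y => by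
    rw [← hg, hx, map_zero, LinearMap.zero_apply]
  have hperp : ∀ W : Submodule F (Fin 3 → F), (∀ x ∈ W, g x ∈ W) → ∀ x ∈ Herm.perp hF W, g x ∈ Herm.perp hF W := by
    intro W hW x hx y hy
    have hsurj : Function.Surjective (g.restrict hW) := LinearMap.injective_iff_surjective.1
      fun a b h => Subtype.ext (hinj (congrArg Subtype.val h))
    obtain ⟨z, hz⟩ := hsurj ⟨y, hy⟩
    rw [show y = g z from (congrArg Subtype.val hz).symm, hg]
    exact hx _ z.2
  by_cases hev : ∃ v, v ≠ 0 ∧ ∃ l : F, g v = l • v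
  swap
  · right; left
    obtain ⟨W, -, hW0, hW, hmin⟩ := exists_minimal_invariant g (U := ⊤) top_ne_bot (fun x _ => Submodule.mem_top)
    have h1 : finrank F W ≠ 1 := fun h => by
      obtain ⟨v, -, hv0, hv⟩ := exists_eigvec_of_finrank_one g hW h
      exact hev ⟨v, hv0, hv⟩
    have hpd := Herm.finrank_perp hF W
    have hWpos := Submodule.one_le_finrank_iff.2 hW0
    by_cases hR0 : W ⊓ Herm.perp hF W = ⊥
    · have hnd : ∀ x ∈ W, (∀ y ∈ W, B₃ x y = 0) → x = 0 := fun x hx h => by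
        have hx' : x ∈ W ⊓ Herm.perp hF W := ⟨hx, fun y hy => Herm.hB_symm_zero hF (h y hy)⟩
        rwa [hR0, Submodule.mem_bot] at hx'
      obtain ⟨p, -, hp, hd, hp0, horb, hodd⟩ := minimal_nondeg hF g hW0 hW (fun x _ y _ => hg x y) hnd hmin
      obtain ⟨k, hk⟩ := hodd
      have hW3 : finrank F W = 3 := by omega
      have hWtop : W = ⊤ := Submodule.eq_top_of_finrank_eq (by rw [hW3, finrank_fin_fun])
      exact ⟨p, hp, hd.trans hW3, LinearMap.ext fun x => hp0 x (hWtop ▸ Submodule.mem_top), horb⟩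
    · exfalso
      have hle : W ≤ Herm.perp hF W :=
        inf_eq_left.1 (hmin _ inf_le_left hR0 fun x hx => ⟨hW x hx.1, hperp W hW x hx.2⟩)
      have := Submodule.finrank_mono hle
      omega
  obtain ⟨v, hv0, l, hl⟩ := hev
  by_cases hvv : B₃ v v ≠ 0
  · exact Or.inl ⟨v, hvv, l, hl⟩
  rw [not_not] at hvv
  have hl0 : l ≠ 0 := fun h => hv0 (hinj (by rw [hl, h, zero_smul, map_zero]))
  have hvg : ∀ x, B₃ v x = 0 → B₃ v (g x) = 0 := fun x hx => by
    have h := hg v x
    rw [hl, LinearMap.map_smulₛₗ, LinearMap.smul_apply, hx, smul_eq_mul] at h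
    exact (mul_eq_zero.1 h).resolve_left ((_root_.map_ne_zero _).2 hl0)
  set P := Herm.perp hF (F ∙ v) with hP
  have memP : ∀ x, x ∈ P ↔ B₃ v x = 0 := fun x => by
    refine ⟨fun h => h v (Submodule.mem_span_singleton_self v), fun h y hy => ?_⟩
    obtain ⟨a, rfl⟩ := Submodule.mem_span_singleton.1 hy
    simp [h]
  have hPd : finrank F P = 2 := by
    have := Herm.finrank_perp hF (F ∙ v)
    rw [finrank_span_singleton hv0] at this
    rw [hP]; omega
  obtain ⟨u, hu, huv⟩ : ∃ u ∈ P, u ∉ F ∙ v := by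
    by_contra h
    push Not at h
    have := Submodule.finrank_mono h
    rw [hPd, finrank_span_singleton hv0] at this
    omega
  have hspan : ∀ x ∈ P, ∃ a b : F, x = a • v + b • u := by
    intro x hx
    have hle : Submodule.span F {v, u} ≤ P := Submodule.span_le.2 (by
      rintro y (rfl | rfl)
      · exact (memP _).2 hvv
      · exact hu)
    have hlt : F ∙ v < Submodule.span F {v, u} := lt_of_le_of_ne (Submodule.span_mono (by simp))
      fun h => huv (h ▸ Submodule.subset_span (by simp))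
    have h2 := Submodule.finrank_lt_finrank_of_lt hlt
    rw [finrank_span_singleton hv0] at h2
    have he := Submodule.eq_of_le_of_finrank_le hle (by omega)
    rw [← he] at hx
    obtain ⟨a, b, hab⟩ := Submodule.mem_span_pair.1 hx
    exact ⟨a, b, hab.symm⟩
  have huv0 := Herm.hB_symm_zero hF ((memP u).1 hu)
  have huu : B₃ u u ≠ 0 := fun h0 => by
    have hle : P ≤ Herm.perp hF P := fun x hx y hy => by
      obtain ⟨a, b, rfl⟩ := hspan x hx
      obtain ⟨a', b', rfl⟩ := hspan y hy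
      simp [h0, hvv, huv0, (memP u).1 hu]
    have := Submodule.finrank_mono hle
    have := Herm.finrank_perp hF P
    omega
  obtain ⟨c, μ, hgu⟩ := hspan _ ((memP _).2 (hvg u ((memP u).1 hu)))
  by_cases hμl : μ = l
  swap
  · refine Or.inl ⟨u + (c / (μ - l)) • v, by simpa [hvv, huv0, (memP u).1 hu] using huu, μ, ?_⟩
    show g _ = _
    rw [map_add, map_smul, hgu, hl, smul_add, smul_smul, smul_smul, add_comm (c • v), add_assoc, ← add_smul]
    congr 2
    field_simp [sub_ne_zero.2 hμl]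
    ring
  rw [hμl] at hgu
  have hll : Herm.frob hF l * l = 1 := by
    have h := hg u u
    rw [hgu] at h
    simp [hvv, huv0, (memP u).1 hu] at h
    refine mul_right_cancel₀ huu ?_
    linear_combination h
  obtain ⟨w, hw⟩ : ∃ w, B₃ v w ≠ 0 := by
    by_contra h
    push Not at h
    exact hv0 (hndV v h)
  have hwdec : ∀ x, ∃ a, x - a • w ∈ P := fun x => ⟨B₃ v x / B₃ v w, (memP _).2 (by
    rw [map_sub, map_smul, smul_eq_mul, div_mul_cancel₀ _ hw, sub_self])⟩
  have hgw : g w - l • w ∈ P := (memP _).2 (by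
    have h := hg v w
    rw [hl, LinearMap.map_smulₛₗ, LinearMap.smul_apply, smul_eq_mul] at h
    rw [map_sub, map_smul, smul_eq_mul, sub_eq_zero]
    calc B₃ v (g w) = (Herm.frob hF l * l) * B₃ v (g w) := by rw [hll, one_mul]
      _ = l * (Herm.frob hF l * B₃ v (g w)) := by ring
      _ = l * B₃ v w := by rw [h])
  obtain ⟨a, b, hab⟩ := hspan _ hgw
  have hab' : g w = l • w + a • v + b • u := by
    rw [add_assoc, ← hab]; abel
  have hN3 : ∀ x, g (g (g x)) = (l ^ 3) • x := by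
    intro x
    obtain ⟨t, ht⟩ := hwdec x
    obtain ⟨r, s, hrs⟩ := hspan _ ht
    have hx : x = t • w + r • v + s • u := by rw [add_assoc, ← hrs]; abel
    have h3 : (3 : F) = 0 := three_eq_zero
    subst hx
    simp only [map_add, map_smul, hab', hgu, hl]
    match_scalars
    · ring
    · linear_combination (t * a * l ^ 2 + t * b * c * l + s * c * l ^ 2) * h3
    · linear_combination (t * b * l ^ 2) * h3
  have hl1 : l = 1 := by
    have hM : A.1.1 * (A.1.1 * A.1.1) = l ^ 3 • (1 : Matrix (Fin 3) (Fin 3) F) := by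
      refine Matrix.toLin'.injective (LinearMap.ext fun x => ?_)
      rw [Matrix.toLin'_apply, Matrix.toLin'_apply, ← Matrix.mulVec_mulVec, ← Matrix.mulVec_mulVec,
        Matrix.smul_mulVec, Matrix.one_mulVec]
      exact hN3 x
    have hd := congrArg Matrix.det hM
    rw [Matrix.det_mul, Matrix.det_mul, A.1.2, Matrix.det_smul, Matrix.det_one, Fintype.card_fin] at hd
    exact cube_injective (cube_injective (by rw [one_pow, one_pow]; linear_combination -hd))
  subst hl1
  by_cases hc : c = 0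
  · exact Or.inl ⟨u, huu, 1, show g u = _ by rw [hgu, hc, zero_smul, zero_add]⟩
  right; right
  have hb : b ≠ 0 := by
    intro hb
    have h := hg u w
    rw [hgu, hab', hb] at h
    simp [hvv, huv0, (memP u).1 hu] at h
    rcases h with h | h
    · exact hc h
    · exact hw h
  have hN : ∀ x, (A.1.1 - 1) *ᵥ x = g x - x := fun x => by rw [Matrix.sub_mulVec, Matrix.one_mulVec]; rfl
  refine ⟨fun x => ?_, w, ?_⟩
  · have h3 : (3 : F) = 0 := three_eq_zero
    have h := hN3 x
    simp only [one_pow, one_smul] at h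
    simp only [hN, map_sub]
    have h' : g (g (g x)) - x = 0 := by rw [h, sub_self]
    rw [← h']
    have e3 : ∀ z : Fin 3 → F, (3 : F) • z = 0 := fun z => by rw [h3, zero_smul]
    linear_combination (norm := module) e3 (g x - g (g x))
  · simp only [hN, map_sub, hab', map_add, map_smul, hgu, hl, one_smul]
    intro h0
    have h1 := congrArg (B₃ w) h0
    have hwv : B₃ w v ≠ 0 := fun h => hw (Herm.hB_symm_zero hF h)
    have : (b * c) * B₃ w v = 0 := by
      rw [← h1.trans (map_zero _)]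
      simp only [map_add, map_sub, map_smul, smul_eq_mul]
      ring
    simp [hb, hc, hwv] at this

/-- The normaliser of the model field. -/
def NK (e : F) : Subgroup (Cfsg.SU 3 F q) :=
  subgroupOfFinite
    { carrier := {A | ∃ i : F, i ^ 3 = i ∧ A.1.1 * T₀ e = (T₀ e + i • 1) * A.1.1}
      one_mem' := ⟨0, by ring, by simp⟩
      mul_mem' := by
        rintro A B ⟨i, hi, hA⟩ ⟨j, hj, hB⟩
        refine ⟨i + j, by linear_combination hi + hj + (i ^ 2 * j + i * j ^ 2) * (three_eq_zero (F := F)), ?_⟩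
        rw [Subgroup.coe_mul, Matrix.SpecialLinearGroup.coe_mul, Matrix.mul_assoc, hB, ← Matrix.mul_assoc,
          Matrix.mul_add, hA, Matrix.mul_smul, Matrix.mul_one, ← Matrix.mul_assoc (T₀ e + (i + j) • 1)]
        congr 1
        rw [add_smul, ← add_assoc, Matrix.add_mul (T₀ e + i • 1), Matrix.smul_mul, Matrix.one_mul] }

include hF hq in
theorem twoCover_PSU_three : TwoCover (Cfsg.PSU 3 F q) := by
  classical
  obtain ⟨e, he, hroot⟩ := exists_e hF hq
  have hT₀ : aeval (Matrix.toLinAlgEquiv' (T₀ e)) (f e) = 0 := by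
    rw [show Matrix.toLinAlgEquiv' (T₀ e) = (Matrix.toLinAlgEquiv' : _ ≃ₐ[F] _).toAlgHom (T₀ e) from rfl,
      aeval_algHom_apply, aeval_T₀, map_zero]
  refine twoCover_quot (center_le_stW hF (by norm_num) _) (N := Subgroup.center (Cfsg.SU 3 F q))
    (K := NK e) ?_ (stW_point_ne_top hF (n := 3) (by norm_num)) ?_ fun A => ?_
  · intro A hA
    obtain ⟨c, hc⟩ := Herm.exists_scalar hF (n := 3) (by norm_num) A.1.1 fun B hB =>
      congrArg (fun C : Cfsg.SU 3 F q => C.1.1) (Subgroup.mem_center_iff.1 hA ⟨B, hB⟩)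
    refine ⟨0, by ring, ?_⟩
    rw [zero_smul, add_zero, hc]
    exact (Matrix.scalar_commute c (fun x => Commute.all c x) (T₀ e)).eq
  · intro h
    have he0 : e ≠ 0 := fun h0 => hroot 0 (by rw [h0]; ring)
    let D : Matrix (Fin 3) (Fin 3) F := !![-1, 0, 0; 0, -1, 0; 0, 0, 1]
    have hdet : D.det = 1 := by simp [D, Matrix.det_fin_three]
    have hn : (-1 : F) ^ q = -1 := by rw [← Herm.frob_apply hF, map_neg, map_one]
    have hmem : (⟨D, hdet⟩ : Matrix.SpecialLinearGroup (Fin 3) F) ∈ Cfsg.SU 3 F q := by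
      refine Herm.mem_SU.2 fun u v => ?_
      simp [D, Cfsg.hermForm, Matrix.mulVec, dotProduct, Fin.sum_univ_three, ← Herm.frob_apply hF]
    obtain ⟨i, -, hi⟩ : (⟨_, hmem⟩ : Cfsg.SU 3 F q) ∈ NK e := by rw [h]; exact Subgroup.mem_top _
    have h02 := congrFun (congrFun hi 0) 2
    simp [D, T₀, Matrix.mul_apply, Fin.sum_univ_three] at h02
    exact he0 (by linear_combination h02 + e * (three_eq_zero (F := F)))
  rcases three_cases hF A with ⟨v, hv, l, hl⟩ | ⟨p, hp, hd, hgp, horb⟩ | ⟨h3N, h2N⟩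
  · obtain ⟨x, hx⟩ := exists_move_point hF hv (w := Pi.single (⟨0, by omega⟩ : Fin 3) (1 : F))
      (by rw [Herm.hB_single_right]; simp)
    refine ⟨x, Or.inl (move_stW (W := Submodule.span F {v}) (fun y hy => ?_) (fun y hy => ?_) ?_)⟩
    · obtain ⟨a, rfl⟩ := Submodule.mem_span_singleton.1 hy
      rw [Matrix.mulVec_smul, hl, smul_smul]
      exact Submodule.smul_mem _ _ (Submodule.mem_span_singleton_self v)
    · obtain ⟨a, rfl⟩ := Submodule.mem_span_singleton.1 hy
      rw [Matrix.mulVec_smul]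
      exact Submodule.smul_mem _ _ hx
    · rw [finrank_span_singleton (K := F) (v := v) (fun h => hv (by rw [h, map_zero])),
        finrank_span_singleton (K := F) (v := (Pi.single _ 1 : Fin 3 → F)) (by simp)]
  · haveI : Fact (Irreducible p) := ⟨hp⟩
    have hirr := f_irreducible hroot
    haveI : Fact (Irreducible (f e)) := ⟨hirr⟩
    haveI : Module.Finite F (AdjoinRoot p) := (AdjoinRoot.powerBasis hp.ne_zero).finite
    haveI : Finite (AdjoinRoot p) := Module.finite_of_finite F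
    set g : Module.End F (Fin 3 → F) := Matrix.mulVecLin A.1.1
    obtain ⟨φ⟩ := FiniteField.nonempty_algHom_of_finrank_dvd (F := F) (K := AdjoinRoot (f e)) (L := AdjoinRoot p)
      (by rw [(AdjoinRoot.powerBasis hp.ne_zero).finrank, (AdjoinRoot.powerBasis hirr.ne_zero).finrank,
        AdjoinRoot.powerBasis_dim, AdjoinRoot.powerBasis_dim, hd, f_natDegree])
    set θ := φ (AdjoinRoot.root (f e))
    have hθ0 : aeval θ (f e) = 0 := by rw [aeval_algHom_apply, AdjoinRoot.aeval_eq, AdjoinRoot.mk_self, map_zero]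
    obtain ⟨i, -, hi, hij⟩ := root_orbit hF (horb ⟨hp⟩)
    have hz := hij 2 (by rw [hd] at hi ⊢; unfold Nat.ModEq at hi ⊢; omega)
    obtain ⟨τ, hτ⟩ := exists_powHom hF (AdjoinRoot p)
    have hzinv : AdjoinRoot.root p ^ (q ^ 3) = (AdjoinRoot.root p)⁻¹ := by
      refine τ.injective ?_
      rw [hτ, hτ, hz, hF, ← pow_mul, ← pow_mul]
      ring_nf
    have hiso : ∀ x y, B₃ (g x) (g y) = B₃ x y := fun x y => iso_SU hF A x y
    have hgadj : ∀ x y, B₃ (g x) y = B₃ x (rho g hgp (AdjoinRoot.root p ^ (q ^ 3)) y) := fun x y => by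
      have hne : AdjoinRoot.root p ≠ 0 := fun h0 => by
        have hg0 : g = 0 := by rw [← rho_root g hgp, h0, map_zero]
        have h1 := hiso (Pi.single 0 1) (Pi.single 0 1)
        rw [hg0, LinearMap.zero_apply, map_zero, Herm.hB_single_right] at h1
        simp at h1
      rw [hzinv]
      calc B₃ (g x) y = B₃ (g x) (g (rho g hgp (AdjoinRoot.root p)⁻¹ y)) := by
            conv_rhs => enter [2]; rw [← Module.End.mul_apply]; enter [1, 1]; rw [← rho_root g hgp]
            rw [← map_mul, mul_inv_cancel₀ hne, map_one, Module.End.one_apply]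
        _ = _ := hiso _ _
    have hSa : ∀ x y, B₃ (rho g hgp θ x) y = B₃ x (rho g hgp θ y) := fun x y => by
      rw [adjoint_rho hF g hgp hgadj θ x y, root_fixed hF hq he hθ0]
    obtain ⟨t, ht, htS⟩ := exists_conj_selfadjoint hF hq he hroot
      (S := rho g hgp θ) (S' := Matrix.toLinAlgEquiv' (T₀ e))
      (by rw [aeval_algHom_apply, hθ0, map_zero]) hT₀ hSa (fun x y => by
        simpa using T₀_adjoint hF he x y)
    obtain ⟨x, hx⟩ := exists_SU_intertwine hF ht htS
    refine ⟨x, Or.inr ⟨0, by ring, ?_⟩⟩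
    rw [zero_smul, add_zero]
    refine Matrix.toLin'.injective (LinearMap.ext fun w => ?_)
    obtain ⟨w, rfl⟩ : ∃ w', x.1.1 *ᵥ w' = w := ⟨(x⁻¹).1.1 *ᵥ w, by
      rw [Matrix.mulVec_mulVec, ← Matrix.SpecialLinearGroup.coe_mul, ← Subgroup.coe_mul, mul_inv_cancel,
        Subgroup.coe_one, Matrix.SpecialLinearGroup.coe_one, Matrix.one_mulVec]⟩
    have hxi : ∀ z, (x * A * x⁻¹).1.1 *ᵥ (x.1.1 *ᵥ z) = x.1.1 *ᵥ g z := fun z => by
      rw [Matrix.mulVec_mulVec, ← Matrix.SpecialLinearGroup.coe_mul, ← Subgroup.coe_mul, inv_mul_cancel_right,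
        Subgroup.coe_mul, Matrix.SpecialLinearGroup.coe_mul, ← Matrix.mulVec_mulVec]
      rfl
    have hx' : ∀ z, T₀ e *ᵥ (x.1.1 *ᵥ z) = x.1.1 *ᵥ rho g hgp θ z := fun z => by
      rw [hx z]; rfl
    rw [Matrix.toLin'_apply, Matrix.toLin'_apply, ← Matrix.mulVec_mulVec, ← Matrix.mulVec_mulVec, hx', hxi, hxi,
      hx']
    congr 1
    have hc : g * rho g hgp θ = rho g hgp θ * g := by
      conv_lhs => enter [1]; rw [← rho_root g hgp]
      conv_rhs => enter [2]; rw [← rho_root g hgp]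
      rw [← map_mul, ← map_mul, mul_comm]
    exact LinearMap.congr_fun hc w
  · let U : Cfsg.SU 3 F q := ⟨⟨U₀, det_U₀⟩, U₀_mem⟩
    have iso' : ∀ C : Cfsg.SU 3 F q, ∀ x z, B₃ (Matrix.mulVecLin (C.1.1 - 1) x) z +
        B₃ x (Matrix.mulVecLin (C.1.1 - 1) z) +
        B₃ (Matrix.mulVecLin (C.1.1 - 1) x) (Matrix.mulVecLin (C.1.1 - 1) z) = 0 := fun C x z => by
      simp only [Matrix.mulVecLin_apply, Matrix.sub_mulVec, Matrix.one_mulVec, map_sub, LinearMap.sub_apply,
        iso_SU hF C]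
      ring
    have hU3 : ∀ x, (U₀ - 1 : Matrix (Fin 3) (Fin 3) F) *ᵥ ((U₀ - 1) *ᵥ ((U₀ - 1) *ᵥ x)) = 0 := fun x => by
      rw [Matrix.mulVec_mulVec x (U₀ - 1) (U₀ - 1), Matrix.mulVec_mulVec, U₀_cube, Matrix.zero_mulVec]
    have hU2 : ∃ x, (U₀ - 1 : Matrix (Fin 3) (Fin 3) F) *ᵥ ((U₀ - 1) *ᵥ x) ≠ 0 := by
      by_contra h
      push Not at h
      exact U₀_sq ((Matrix.toLin' (R := F)).injective (LinearMap.ext fun x => by
        rw [map_zero, LinearMap.zero_apply, Matrix.toLin'_apply, ← Matrix.mulVec_mulVec, h]))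
    obtain ⟨t, ht, htN⟩ := exists_conj_unipotent hF (Matrix.mulVecLin (A.1.1 - 1)) (Matrix.mulVecLin (U.1.1 - 1))
      (iso' A) h3N h2N (iso' U) hU3 hU2
    obtain ⟨x, hx⟩ := exists_SU_intertwine hF ht htN
    have hxA : x * A = U * x := by
      refine Subtype.ext (Subtype.ext (Matrix.toLin'.injective (LinearMap.ext fun w => ?_)))
      have h := hx w
      simp only [Matrix.mulVecLin_apply, Matrix.sub_mulVec, Matrix.one_mulVec, Matrix.mulVec_sub, sub_left_inj] at h
      simpa [Matrix.toLin'_apply, ← Matrix.mulVec_mulVec] using h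
    refine ⟨x, Or.inr ?_⟩
    rw [hxA, mul_inv_cancel_right]
    exact ⟨1, one_pow 3, U₀_conj e⟩

end Cfsg.Lib.Cover.U3
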