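import Cfsg.Agent.Lib.Cover.Unitary

/-!
# A self-adjoint cubic field and a regular unipotent element of `SU_3(3^a)` normalising it

`T = diag(0, 1, -1) + e J` (`J` the all-one matrix) has the irreducible characteristic polynomial
`X^3 - X + e`, and the cyclic permutation of the coordinates sends it to `T + 1`.
-/

set_option autoImplicit false

namespace Cfsg.Lib.Cover.U3

open Polynomial Module Cfsg.Lib.Linear
open scoped Matrix

variable {F : Type} [Field F] [Fintype F] [CharP F 3] {q : ℕ} (hF : Fintype.card F = q ^ 2)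
  (hq : ∃ a : ℕ, q = 3 ^ a)

omit [Fintype F] in
theorem three_eq_zero : (3 : F) = 0 := by exact_mod_cast CharP.cast_eq_zero F 3

include hq in
omit [Fintype F] in
theorem pow_q_of_cube {L : Type*} [Monoid L] {i : L} (hi : i ^ 3 = i) : i ^ q = i := by
  obtain ⟨a, rfl⟩ := hq
  induction a with
  | zero => rw [pow_zero, pow_one]
  | succ a ih => rw [pow_succ, pow_mul, ih, hi]

include hF hq in
theorem exists_e : ∃ e : F, e ^ q = e ∧ ∀ x : F, x ^ 3 - x + e ≠ 0 := by
  classical
  have h3 : (3 : F) = 0 := three_eq_zero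
  by_contra h
  push Not at h
  obtain ⟨σ, hσ⟩ := Herm.exists_frob hF
  have hσσ : ∀ x, σ (σ x) = x := fun x => by rw [hσ, hσ, ← pow_mul, ← pow_two, ← hF, FiniteField.pow_card]
  let φ : {x : F // x ^ q = x} → {x : F // x ^ q = x} := fun x => ⟨x.1 ^ 3 - x.1, by
    rw [← hσ, map_sub, map_pow, hσ, x.2]⟩
  have hsurj : Function.Surjective φ := by
    rintro ⟨c, hc⟩
    obtain ⟨x, hx⟩ := h (-c) (by rw [← hσ, map_neg, hσ, hc])
    set i := σ x - x with hi
    have hi3 : i ^ 3 = i := by
      have h1 := congrArg σ hx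
      rw [map_add, map_sub, map_pow, map_zero, map_neg, hσ c, hc] at h1
      rw [hi]
      linear_combination h1 - hx - ((σ x) ^ 2 * x - σ x * x ^ 2) * h3
    have hi' : σ i = i := by rw [hσ]; exact pow_q_of_cube hq hi3
    rw [hi, map_sub, hσσ] at hi'
    have hx0 : σ x = x := by linear_combination (σ x - x) * h3 + hi'
    refine ⟨⟨x, by rw [← hσ, hx0]⟩, Subtype.ext ?_⟩
    show x ^ 3 - x = c
    linear_combination hx
  have hinj := Finite.injective_iff_surjective.2 hsurj
  have h01 : φ ⟨0, by rw [zero_pow]; have := Herm.two_le_q hF; omega⟩ = φ ⟨1, one_pow q⟩ := by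
    refine Subtype.ext ?_
    show (0 : F) ^ 3 - 0 = 1 ^ 3 - 1
    ring
  exact zero_ne_one (congrArg Subtype.val (hinj h01))

/-- The polynomial `X^3 - X + e`. -/
noncomputable def f (e : F) : F[X] := X ^ 3 - X + C e

omit [Fintype F] [CharP F 3] in
theorem f_monic (e : F) : (f e).Monic := by unfold f; monicity!

omit [Fintype F] [CharP F 3] in
theorem f_natDegree (e : F) : (f e).natDegree = 3 := by unfold f; compute_degree!

omit [Fintype F] [CharP F 3] in
theorem f_irreducible {e : F} (he : ∀ x : F, x ^ 3 - x + e ≠ 0) : Irreducible (f e) := by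
  rw [(f_monic e).irreducible_iff_roots_eq_zero_of_degree_le_three (by rw [f_natDegree]; norm_num)
    (by rw [f_natDegree])]
  refine Multiset.eq_zero_iff_forall_notMem.2 fun x hx => he x ?_
  have := (mem_roots (f_monic e).ne_zero).1 hx
  simpa [f, IsRoot] using this

include hF hq in
/-- A root of `X^3 - X + e` is fixed by `x ↦ x ^ (q ^ 3)`. -/
theorem root_fixed {L : Type*} [Field L] [Algebra F L] {e : F} (he : e ^ q = e) {θ : L}
    (hθ : aeval θ (f e) = 0) : θ ^ (q ^ 3) = θ := by
  obtain ⟨τ, hτ⟩ := exists_powHom hF L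
  haveI : CharP L 3 := charP_of_injective_algebraMap (algebraMap F L).injective 3
  have h3 : (3 : L) = 0 := by exact_mod_cast CharP.cast_eq_zero L 3
  simp only [f, map_add, map_sub, map_pow, aeval_X, aeval_C] at hθ
  set i := τ θ - θ with hi
  have hi3 : i ^ 3 = i := by
    have h1 := congrArg τ hθ
    rw [map_add, map_sub, map_pow, map_zero, hτ (algebraMap F L e),
      show algebraMap F L e ^ q = algebraMap F L e by rw [← map_pow, he]] at h1
    rw [hi]
    linear_combination h1 - hθ - ((τ θ) ^ 2 * θ - τ θ * θ ^ 2) * h3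
  have hi' : τ i = i := by rw [hτ]; exact pow_q_of_cube hq hi3
  have h1 : τ θ = θ + i := by rw [hi]; ring
  calc θ ^ (q ^ 3) = τ (τ (τ θ)) := by rw [hτ, hτ, hτ, ← pow_mul, ← pow_mul]; ring_nf
    _ = θ + 3 * i := by rw [h1, map_add, h1, hi', map_add, map_add, h1, hi']; ring
    _ = θ := by rw [h3, zero_mul, add_zero]

/-- The model matrix. -/
def T₀ (e : F) : Matrix (Fin 3) (Fin 3) F := !![e, e, e; e, 1 + e, e; e, e, e - 1]

/-- The cyclic permutation of the coordinates. -/
def U₀ : Matrix (Fin 3) (Fin 3) F := !![0, 1, 0; 0, 0, 1; 1, 0, 0]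

omit [Fintype F] in
theorem aeval_T₀ (e : F) : aeval (T₀ e) (f e) = 0 := by
  have h3 : (3 : F) = 0 := three_eq_zero
  simp only [f, map_add, map_sub, map_pow, aeval_X, aeval_C, Algebra.algebraMap_eq_smul_one, pow_three]
  ext i j
  fin_cases i <;> fin_cases j <;>
    simp [T₀, Matrix.mul_apply, Fin.sum_univ_three, Matrix.one_apply] <;>
    first
      | linear_combination (3 * e ^ 3) * h3
      | linear_combination (e ^ 2 + 3 * e ^ 3) * h3
      | linear_combination (-e ^ 2 + 3 * e ^ 3) * h3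
      | linear_combination (e + 2 * e ^ 2 + 3 * e ^ 3) * h3
      | linear_combination (e - 2 * e ^ 2 + 3 * e ^ 3) * h3

omit [CharP F 3] in
theorem T₀_adjoint {e : F} (he : e ^ q = e) (x y : Fin 3 → F) :
    Herm.hB hF 3 (T₀ e *ᵥ x) y = Herm.hB hF 3 x (T₀ e *ᵥ y) := by
  have he' : Herm.frob hF e = e := by rw [Herm.frob_apply, he]
  simp only [Herm.hB_apply, Cfsg.hermForm, Fin.sum_univ_three, ← Herm.frob_apply hF]
  simp [T₀, Matrix.mulVec, dotProduct, Fin.sum_univ_three, he', map_add, map_mul, map_sub, map_one]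
  ring

omit [Fintype F] [CharP F 3] in
theorem det_U₀ : (U₀ : Matrix (Fin 3) (Fin 3) F).det = 1 := by simp [U₀, Matrix.det_fin_three]

omit [Fintype F] [CharP F 3] in
theorem U₀_mem : (⟨U₀, det_U₀⟩ : Matrix.SpecialLinearGroup (Fin 3) F) ∈ Cfsg.SU 3 F q := by
  refine Herm.mem_SU.2 fun u v => ?_
  simp [Cfsg.hermForm, U₀, Matrix.mulVec, dotProduct, Fin.sum_univ_three]
  ring

omit [Fintype F] in
theorem U₀_conj (e : F) : U₀ * T₀ e = (T₀ e + (1 : F) • 1) * U₀ := by
  have h3 : (3 : F) = 0 := three_eq_zero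
  ext i j
  fin_cases i <;> fin_cases j <;>
    simp [T₀, U₀, Matrix.mul_apply, Fin.sum_univ_three] <;>
    first
      | ring1
      | linear_combination h3
      | linear_combination -h3

omit [Fintype F] in
theorem U₀_cube : ((U₀ : Matrix (Fin 3) (Fin 3) F) - 1) * ((U₀ - 1) * (U₀ - 1)) = 0 := by
  have h3 : (3 : F) = 0 := three_eq_zero
  ext i j
  fin_cases i <;> fin_cases j <;>
    simp [U₀, Matrix.mul_apply, Fin.sum_univ_three] <;>
    first
      | ring1
      | linear_combination h3
      | linear_combination -h3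

omit [Fintype F] [CharP F 3] in
theorem U₀_sq : ((U₀ : Matrix (Fin 3) (Fin 3) F) - 1) * (U₀ - 1) ≠ 0 := fun h => by
  have := congrFun (congrFun h 0) 0
  simp [U₀, Matrix.mul_apply, Fin.sum_univ_three] at this

end Cfsg.Lib.Cover.U3
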