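import Cfsg.Agent.Lib.Cover.PSpSixModel
import Cfsg.Agent.Lib.Linear.SymplecticMax
import Cfsg.Prelude.Def_Classical

/-!
# `PSp_6(3^a)` is the union of the conjugates of two proper subgroups

The two subgroups are the stabiliser of a non-degenerate plane and the normaliser of a cubic field extension.
-/

set_option autoImplicit false

namespace Cfsg.Lib.Cover.Sp6

open Module Polynomial Cfsg.Lib.Linear Cfsg.Lib.Linear.Symp
open scoped Matrix

section Frames

variable {F : Type} {V : Type*} [Field F] [AddCommGroup V] [Module F V] [FiniteDimensional F V]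
  {B : LinearMap.BilinForm F V}

/-- An isometry intertwining `T` and `T'`. -/
def Inter (B : LinearMap.BilinForm F V) (T T' : Module.End F V) : Prop :=
  ∃ t : V ≃ₗ[F] V, t ∈ iso B ∧ ∀ x, t (T x) = T' (t x)

omit [FiniteDimensional F V] in
theorem aeval_cubic {T : Module.End F V} {e : F} (hT : aeval T (U3.f e) = 0) (n : ℕ) (x : V) :
    (T ^ (n + 3)) x = (T ^ (n + 1)) x - e • (T ^ n) x := by
  have h := LinearMap.congr_fun hT ((T ^ n) x)
  simp only [U3.f, map_add, map_sub, map_pow, aeval_X, aeval_C, LinearMap.add_apply, LinearMap.sub_apply,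
    Module.algebraMap_end_apply, LinearMap.zero_apply] at h
  rw [add_comm n 3, pow_add, Module.End.mul_apply, pow_succ' T n, Module.End.mul_apply]
  linear_combination (norm := module) h

omit [FiniteDimensional F V] in
theorem self_adj_pow {T : Module.End F V} (hT : ∀ x y, B (T x) y = B x (T y)) (n : ℕ) (x y : V) :
    B ((T ^ n) x) y = B x ((T ^ n) y) := by
  induction n generalizing x y with
  | zero => simp
  | succ n ih => rw [pow_succ', Module.End.mul_apply, hT, ih, ← Module.End.mul_apply, (Commute.pow_self T n).eq]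

omit [FiniteDimensional F V] in
theorem self_adj_zero (hA : B.IsAlt) (h2 : (2 : F) ≠ 0) {T : Module.End F V}
    (hT : ∀ x y, B (T x) y = B x (T y)) (n : ℕ) (x : V) : B ((T ^ n) x) x = 0 := by
  have h : B ((T ^ n) x) x = -B ((T ^ n) x) x := by
    conv_lhs => rw [self_adj_pow hT, ← LinearMap.IsAlt.neg hA]
  exact (mul_eq_zero.1 (show (2 : F) * B ((T ^ n) x) x = 0 by linear_combination h)).resolve_left h2

/-- The data of a frame of a self-adjoint root of `X^3 - X + e`. -/
structure RootFrame (B : LinearMap.BilinForm F V) (T : Module.End F V) (a b : V) : Prop where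
  zero : B a b = 0
  one : B (T a) b = 0
  two : B ((T ^ 2) a) b = 1

theorem exists_rootFrame [Nontrivial V] (hB : B.Nondegenerate) {T : Module.End F V} {e : F}
    (he : Irreducible (U3.f e)) (hT : aeval T (U3.f e) = 0) : ∃ a b, RootFrame B T a b := by
  classical
  obtain ⟨a, ha⟩ := exists_ne (0 : V)
  let u : Fin 3 → V := fun n => (T ^ (n : ℕ)) a
  have hu : LinearIndependent F u := by
    refine Fintype.linearIndependent_iff.2 fun c hc => ?_
    set R : F[X] := C (c 0) + C (c 1) * X + C (c 2) * X ^ 2 with hR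
    have h0 : rho T hT (AdjoinRoot.mk _ R) a = 0 := by
      rw [rho_mk, ← hc]
      simp [hR, u, Fin.sum_univ_three, Module.algebraMap_end_apply]
    have hR0 : R = 0 := by
      have h1 := rho_apply_injective he T hT ha (a₁ := AdjoinRoot.mk _ R) (a₂ := 0)
        (by simpa using h0)
      by_contra hne
      have := natDegree_le_of_dvd (AdjoinRoot.mk_eq_zero.1 h1) hne
      have h2 : R.natDegree ≤ 2 := by rw [hR]; compute_degree
      rw [U3.f_natDegree] at this
      omega
    intro i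
    have := congrArg (fun p => coeff p (i : ℕ)) hR0
    fin_cases i <;> simpa [hR, coeff_X] using this
  let Φ : V →ₗ[F] (Fin 3 → F) := LinearMap.pi fun n => B (u n)
  have hsurj : LinearMap.range Φ = ⊤ := by
    by_contra hne
    obtain ⟨φ, hφ0, hφ⟩ := Submodule.exists_le_ker_of_lt_top _ (lt_top_iff_ne_top.2 hne)
    have hsum : ∀ v : Fin 3 → F, φ v = ∑ n, v n * φ (Pi.single n 1) := fun v => by
      conv_lhs => rw [pi_eq_sum_univ' v]
      simp [map_sum]
    have hz : ∑ n, φ (Pi.single n 1) • u n = 0 := hB.1 _ fun x => by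
      have hx := hφ (LinearMap.mem_range_self Φ x)
      rw [LinearMap.mem_ker, hsum] at hx
      rw [map_sum, LinearMap.sum_apply, ← hx]
      exact Finset.sum_congr rfl fun n _ => by simp [Φ, mul_comm]
    refine hφ0 (LinearMap.ext fun v => ?_)
    rw [hsum v, LinearMap.zero_apply]
    exact Finset.sum_eq_zero fun n _ => by rw [Fintype.linearIndependent_iff.1 hu _ hz n, mul_zero]
  obtain ⟨b, hb⟩ := LinearMap.range_eq_top.1 hsurj ![0, 0, 1]
  exact ⟨a, b, ⟨by simpa [Φ, u] using congrFun hb 0, by simpa [Φ, u] using congrFun hb 1,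
    by simpa [Φ, u] using congrFun hb 2⟩⟩

/-- Equal Gram sequences give an intertwining isometry. -/
theorem inter_of_gram (hB : B.Nondegenerate) {k m : ℕ} [NeZero k] (hd : finrank F V = (m + 1) * k)
    {T T' : Module.End F V} {v v' : Fin k → V} (hv : LinearIndependent F (fam T m v))
    (hG : ∀ p r, B (fam T' m v' p) (fam T' m v' r) = B (fam T m v p) (fam T m v r))
    (c : Fin (m + 1) → F) (hc : ∀ x, (T ^ (m + 1)) x = ∑ i, c i • (T ^ (i : ℕ)) x)
    (hc' : ∀ x, (T' ^ (m + 1)) x = ∑ i, c i • (T' ^ (i : ℕ)) x) :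
    ∃ t : V ≃ₗ[F] V, t ∈ iso B ∧ (∀ x, t (T x) = T' (t x)) ∧ ∀ p, t (fam T m v p) = fam T' m v' p := by
  have hι : Fintype.card (Fin (m + 1) × Fin k) = finrank F V := by simp [hd]
  haveI : Nonempty (Fin k) := ⟨⟨0, Nat.pos_of_ne_zero (NeZero.ne k)⟩⟩
  obtain ⟨t, ht, htv⟩ := exists_frame hB hι _ (fam T' m v') hv hG
  refine ⟨t, ht, ?_, htv⟩
  have key : (t : V →ₗ[F] V).comp T = T'.comp (t : V →ₗ[F] V) := by
    refine ext_frame hv hι fun p => ?_
    obtain ⟨i, j⟩ := p
    show t (T (fam T m v (i, j))) = T' (t (fam T m v (i, j)))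
    rw [htv]
    simp only [fam]
    rw [← Module.End.mul_apply, ← Module.End.mul_apply, ← pow_succ', ← pow_succ']
    by_cases hi : (i : ℕ) + 1 < m + 1
    · exact htv (⟨i + 1, hi⟩, j)
    · rw [show (i : ℕ) + 1 = m + 1 by omega, hc, hc', map_sum]
      refine Finset.sum_congr rfl fun l _ => ?_
      rw [map_smul]
      exact congrArg _ (htv (l, j))
  exact fun x => LinearMap.congr_fun key x

/-- Self-adjoint roots of the irreducible cubic are conjugate. -/
theorem inter_root [Nontrivial V] (hB : B.Nondegenerate) (hA : B.IsAlt) (h2 : (2 : F) ≠ 0)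
    (hV : finrank F V = 6) {e : F} (he : Irreducible (U3.f e)) {T T' : Module.End F V}
    (hs : ∀ x y, B (T x) y = B x (T y)) (hT : aeval T (U3.f e) = 0)
    (hs' : ∀ x y, B (T' x) y = B x (T' y)) (hT' : aeval T' (U3.f e) = 0) : Inter B T T' := by
  obtain ⟨a, b, hf⟩ := exists_rootFrame hB he hT
  obtain ⟨a', b', hf'⟩ := exists_rootFrame hB he hT'
  have seq : ∀ n, B ((T' ^ n) a') b' = B ((T ^ n) a) b := by
    intro n
    induction n using Nat.strong_induction_on with
    | _ n ih =>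
      rcases n with _ | _ | _ | n
      · simp [hf.zero, hf'.zero]
      · simp [hf.one, hf'.one]
      · rw [hf.two, hf'.two]
      · rw [aeval_cubic hT, aeval_cubic hT', map_sub, map_sub, map_smul, map_smul, LinearMap.sub_apply,
          LinearMap.sub_apply, LinearMap.smul_apply, LinearMap.smul_apply, ih (n + 1) (by omega), ih n (by omega)]
  have g : ∀ (S : Module.End F V), (∀ x y, B (S x) y = B x (S y)) → ∀ i j x y,
      B ((S ^ i) x) ((S ^ j) y) = B ((S ^ (i + j)) x) y := fun S hS i j x y => by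
    rw [add_comm i j, pow_add, Module.End.mul_apply, self_adj_pow hS j]
  have hv : LinearIndependent F (fam T 2 ![a, b]) := by
    refine Fintype.linearIndependent_iff.2 fun c hc => ?_
    have h3 : B ((T ^ 3) a) b = 0 := by
      rw [show 3 = 0 + 3 from rfl, aeval_cubic hT]
      simp [hf.one, hf.zero]
    have h4 : B ((T ^ 4) a) b = 1 := by
      rw [show 4 = 1 + 3 from rfl, aeval_cubic hT]
      simp [hf.one, hf.two]
    have hab : ∀ n, B ((T ^ n) b) a = -B ((T ^ n) a) b := fun n => by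
      rw [← LinearMap.IsAlt.neg hA, ← self_adj_pow hs]
    have hz := self_adj_zero hA h2 hs
    have hc0 : ∑ i : Fin 3, ∑ o : Fin 2, c (i, o) • (T ^ (i : ℕ)) (![a, b] o) = 0 := by
      rw [← hc, Fintype.sum_prod_type]; rfl
    have E : ∀ (j : Fin 3) (l : Fin 2), B (∑ i : Fin 3, ∑ o : Fin 2, c (i, o) • (T ^ (i : ℕ)) (![a, b] o))
        ((T ^ (j : ℕ)) (![a, b] l)) = 0 := fun j l => by
      rw [hc0, map_zero, LinearMap.zero_apply]
    simp only [Fin.sum_univ_three, Fin.sum_univ_two, map_add, map_smul,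
      LinearMap.add_apply, LinearMap.smul_apply, smul_eq_mul, g T hs] at E
    have a0 := E 0 1
    have a1 := E 1 1
    have a2 := E 2 1
    have b0 := E 0 0
    have b1 := E 1 0
    have b2 := E 2 0
    have hz1 : ∀ x, B x (T x) = 0 := fun x => by rw [← hs]; simpa using hz 1 x
    have hba0 : B b a = 0 := by rw [← LinearMap.IsAlt.neg hA a b, hf.zero, neg_zero]
    have hba1 : B b (T a) = 0 := by rw [← LinearMap.IsAlt.neg hA (T a) b, hf.one, neg_zero]
    simp [hz, hab, hf.zero, hf.one, hf.two, h3, h4, hz1, hba0, hba1, hA _] at a0 a1 a2 b0 b1 b2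
    rintro ⟨i, l⟩
    fin_cases i <;> fin_cases l <;> simp_all
  obtain ⟨t, ht, h, -⟩ := inter_of_gram (k := 2) (m := 2) hB (by rw [hV]) hv (T' := T') (v' := ![a', b'])
    (fun p r => by
      simp only [fam, g T hs, g T' hs']
      generalize ((p.1 : ℕ) + (r.1 : ℕ)) = n
      obtain ⟨-, p₂⟩ := p
      obtain ⟨-, r₂⟩ := r
      have hab : B ((T' ^ n) b') a' = B ((T ^ n) b) a := by
        rw [← LinearMap.IsAlt.neg hA, ← self_adj_pow hs', ← LinearMap.IsAlt.neg hA a ((T ^ n) b),
          ← self_adj_pow hs, seq]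
      fin_cases p₂ <;> fin_cases r₂ <;> simp [self_adj_zero hA h2 hs, self_adj_zero hA h2 hs', seq, hab])
    ![-e, 1, 0]
    (fun x => by
      rw [show (T ^ (2 + 1)) x = (T ^ (0 + 3)) x from rfl, aeval_cubic hT, Fin.sum_univ_succ, Fin.sum_univ_succ,
        Fin.sum_univ_succ]
      simp; abel)
    (fun x => by
      rw [show (T' ^ (2 + 1)) x = (T' ^ (0 + 3)) x from rfl, aeval_cubic hT', Fin.sum_univ_succ, Fin.sum_univ_succ,
        Fin.sum_univ_succ]
      simp; abel)
  exact ⟨t, ht, h⟩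

theorem icay_semiconj {t X X' : Module.End F V} (h : SemiconjBy t X X') : SemiconjBy t (icay X) (icay X') := by
  have h1 : SemiconjBy t (1 : Module.End F V) 1 := SemiconjBy.one_right t
  exact (h1.add_right h).mul_right ((((((h1.add_right h).add_right (h.pow_right 2)).add_right
    (h.pow_right 3)).add_right (h.pow_right 4)).add_right (h.pow_right 5)))

variable [CharP F 3]

/-- Regular skew nilpotent maps with the same value are conjugate. -/
theorem inter_reg (hB : B.Nondegenerate) (hA : B.IsAlt) (hV : finrank F V = 6) {X X' : Module.End F V}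
    (hX : SkewAdj B X) (h6 : X ^ 6 = 0) (hX' : SkewAdj B X') (h6' : X' ^ 6 = 0) {y y' : V}
    (hy : B ((X ^ 5) y) y ≠ 0) (heq : B ((X' ^ 5) y') y' = B ((X ^ 5) y) y) : Inter B X X' := by
  have h2 : (2 : F) ≠ 0 := fun h => one_ne_zero (α := F) (by linear_combination three0 (F := F) - h)
  obtain ⟨z, z5, z3, z1⟩ := reg_normal hX h6 hy
  obtain ⟨z', z5', z3', z1'⟩ := reg_normal hX' h6' (heq.trans_ne hy)
  have val : ∀ n, B ((X' ^ n) z') z' = B ((X ^ n) z) z := by
    intro n
    by_cases hn : 6 ≤ n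
    · rw [pow_eq_zero_of_le hn h6, pow_eq_zero_of_le hn h6']; simp
    rcases Nat.even_or_odd n with he | ho
    · rw [even_self hA hX h2 he, even_self hA hX' h2 he]
    · rcases ho with ⟨k, rfl⟩
      have : k = 0 ∨ k = 1 ∨ k = 2 := by omega
      rcases this with rfl | rfl | rfl
      · simp [z1, z1']
      · rw [show 2 * 1 + 1 = 3 from rfl, z3, z3']
      · rw [show 2 * 2 + 1 = 5 from rfl, z5, z5', heq]
  have hv : LinearIndependent F (fam X 5 ![z]) := fam_linearIndependent hX h6 _ fun c hc => funext fun i => by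
    have := hc 0
    simp [z5, hy] at this
    fin_cases i
    simpa using this
  obtain ⟨t, ht, h, -⟩ := inter_of_gram (k := 1) (m := 5) hB (by rw [hV]) hv (T' := X') (v' := ![z'])
    (fun p r => by simp [fam, gram_pow hX, gram_pow hX', val])
    0 (fun x => by rw [h6]; simp) (fun x => by rw [h6']; simp)
  exact ⟨t, ht, h⟩

omit [FiniteDimensional F V] in
theorem pair_gram (hA : B.IsAlt) {X s : Module.End F V} (hX : SkewAdj B X) (h3 : X ^ 3 = 0) {M : Fin 4 → F}
    {a b : V} (h : PairData B X s M a b) (n : ℕ) (i j : Fin 2) :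
    B ((X ^ n) (![a, b] i)) (![a, b] j) = if n = 2 then (!![0, 1; -1, 0] : Matrix (Fin 2) (Fin 2) F) i j else 0 := by
  have h2 : (2 : F) ≠ 0 := fun h => one_ne_zero (α := F) (by linear_combination three0 (F := F) - h)
  by_cases hn : 3 ≤ n
  · rw [pow_eq_zero_of_le hn h3, if_neg (by omega)]; simp
  have e1 : B (X b) a = 0 := by rw [hX, ← LinearMap.IsAlt.neg hA (X a) b, h.oneAB, neg_zero, neg_zero]
  have e0 : B b a = 0 := by rw [← LinearMap.IsAlt.neg hA a b, h.zeroAB, neg_zero]
  have e2 : B ((X ^ 2) b) a = -1 := by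
    rw [skew_pow hX, neg_one_sq, one_mul, ← LinearMap.IsAlt.neg hA, h.top]
  have ev := even_self hA hX h2 even_two
  have hcase : n = 0 ∨ n = 1 ∨ n = 2 := by omega
  rcases hcase with rfl | rfl | rfl <;> fin_cases i <;> fin_cases j <;>
    simp [h.zeroAB, h.oneA, h.oneB, h.oneAB, h.top, e0, e1, e2, ev, hA _]

/-- Pairs with the same matrix are conjugate. -/
theorem inter_pair (hB : B.Nondegenerate) (hA : B.IsAlt) (hV : finrank F V = 6) {X X' s s' : Module.End F V}
    (hX : SkewAdj B X) (h3 : X ^ 3 = 0) (hc : Commute s X) (hX' : SkewAdj B X') (h3' : X' ^ 3 = 0)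
    (hc' : Commute s' X') {M : Fin 4 → F} {a b a' b' : V} (h : PairData B X s M a b)
    (h' : PairData B X' s' M a' b') :
    Inter B (s * icay X) (s' * icay X') := by
  have hv : LinearIndependent F (fam X 2 ![a, b]) := fam_linearIndependent hX h3 _ fun c hc => by
    have c0 := hc 0
    have c1 := hc 1
    rw [Fin.sum_univ_two, pair_gram hA hX h3 h, pair_gram hA hX h3 h] at c0 c1
    simp at c0 c1
    funext i
    fin_cases i <;> simp [c0, c1]
  obtain ⟨t, ht, hT, htv⟩ := inter_of_gram (k := 2) (m := 2) hB (by rw [hV]) hv (T' := X') (v' := ![a', b'])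
    (fun p r => by simp only [fam, gram_pow hX, gram_pow hX', pair_gram hA hX h3 h, pair_gram hA hX' h3' h'])
    0 (fun x => by rw [h3]; simp) (fun x => by rw [h3']; simp)
  have hts : (t : V →ₗ[F] V).comp s = s'.comp (t : V →ₗ[F] V) := by
    refine ext_frame hv (by simp [hV]) fun p => ?_
    obtain ⟨i, j⟩ := p
    show t (s (fam X 2 ![a, b] (i, j))) = s' (t (fam X 2 ![a, b] (i, j)))
    rw [htv]
    simp only [fam]
    rw [← Module.End.mul_apply, (hc.pow_right _).eq, Module.End.mul_apply, ← Module.End.mul_apply (f := s'),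
      (hc'.pow_right _).eq, Module.End.mul_apply]
    have ka : t ((X ^ (i : ℕ)) a) = (X' ^ (i : ℕ)) a' := htv (i, 0)
    have kb : t ((X ^ (i : ℕ)) b) = (X' ^ (i : ℕ)) b' := htv (i, 1)
    fin_cases j <;> simp [h.sa, h.sb, h'.sa, h'.sb, ka, kb]
  refine ⟨t, ht, fun x => ?_⟩
  have h1 : SemiconjBy (t : Module.End F V) X X' := LinearMap.ext hT
  have h2 : SemiconjBy (t : Module.End F V) s s' := hts
  exact LinearMap.congr_fun (h2.mul_right (icay_semiconj h1)).eq x

end Frames

section Model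

variable {F : Type} [Field F]

/-- The plane of the first hyperbolic pair. -/
def plane : Submodule F (Fin 3 ⊕ Fin 3 → F) :=
  Submodule.span F {Pi.single (Sum.inl 0) 1, Pi.single (Sum.inr 0) 1}

theorem finrank_plane : finrank F (plane (F := F)) = 2 := by
  have hli : LinearIndependent F (![Pi.single (Sum.inl 0) 1, Pi.single (Sum.inr 0) 1] : Fin 2 → Fin 3 ⊕ Fin 3 → F) := by
    refine LinearIndependent.pair_iff.2 fun s r h => ?_
    exact ⟨by simpa using congrFun h (Sum.inl 0), by simpa using congrFun h (Sum.inr 0)⟩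
  have := finrank_span_eq_card hli
  rwa [Matrix.range_cons_cons_empty, Fintype.card_fin] at this

theorem plane_nondeg : NondegOn (spB 3 F) (plane (F := F)) := by
  intro x hx hx0
  obtain ⟨c, d, rfl⟩ := Submodule.mem_span_pair.1 hx
  have hl : (Pi.single (Sum.inl 0) 1 : Fin 3 ⊕ Fin 3 → F) ∈ plane := Submodule.subset_span (by simp)
  have hr : (Pi.single (Sum.inr 0) 1 : Fin 3 ⊕ Fin 3 → F) ∈ plane := Submodule.subset_span (by simp)
  have e : ∀ i : Fin 3 ⊕ Fin 3, (Pi.single i 1 : Fin 3 ⊕ Fin 3 → F) =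
      Sum.elim ((Pi.single i 1 : Fin 3 ⊕ Fin 3 → F) ∘ Sum.inl) ((Pi.single i 1 : Fin 3 ⊕ Fin 3 → F) ∘ Sum.inr) :=
    fun i => (Sum.elim_comp_inl_inr _).symm
  have e01 : spB 3 F (Pi.single (Sum.inl 0) 1) (Pi.single (Sum.inr 0) 1) = -1 := by
    rw [e (Sum.inl 0), e (Sum.inr 0), spB_elim]
    simp [dotProduct, Fin.sum_univ_three]
  have e10 : spB 3 F (Pi.single (Sum.inr 0) 1) (Pi.single (Sum.inl 0) 1) = 1 := by
    rw [← LinearMap.IsAlt.neg (spB_isAlt 3 F), e01, neg_neg]
  by_cases hc : c = 0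
  · refine ⟨_, hl, ?_⟩
    have hd : d ≠ 0 := fun hd => hx0 (by simp [hc, hd])
    simp [hc, e10, hd]
  · refine ⟨_, hr, ?_⟩
    simp [e01, (spB_isAlt 3 F).self_eq_zero, hc]

/-- The stabiliser of the plane. -/
noncomputable def subH : Subgroup (Matrix.symplecticGroup (Fin 3) F) :=
  (setStab (spB 3 F) (plane (F := F))).comap ((iso (spB 3 F)).subtype.comp spEquiv.toMonoidHom)

/-- A symplectic matrix as a linear equivalence. -/
noncomputable abbrev spMap : Matrix.symplecticGroup (Fin 3) F →* ((Fin 3 ⊕ Fin 3 → F) ≃ₗ[F] (Fin 3 ⊕ Fin 3 → F)) :=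
  (iso (spB 3 F)).subtype.comp spEquiv.toMonoidHom

theorem spMap_mem (A : Matrix.symplecticGroup (Fin 3) F) : spMap A ∈ iso (spB 3 F) := (spEquiv A).2

variable [CharP F 3]

/-- The normaliser of the cubic field. -/
noncomputable def fieldNorm (e : F) : Subgroup ((Fin 3 ⊕ Fin 3 → F) ≃ₗ[F] (Fin 3 ⊕ Fin 3 → F)) where
  carrier := {g | ∃ i : F, i ^ 3 = i ∧ ∀ x, g (mT e x) = mT e (g x) + i • g x}
  one_mem' := ⟨0, by ring, fun x => by simp⟩
  mul_mem' := by
    rintro g h ⟨i, hi, hg⟩ ⟨j, hj, hh⟩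
    refine ⟨i + j, by linear_combination hi + hj + (i ^ 2 * j + i * j ^ 2) * three0 (F := F), fun x => ?_⟩
    rw [LinearEquiv.mul_apply, LinearEquiv.mul_apply, hh, map_add, map_smul, hg, add_smul]
    abel
  inv_mem' := by
    rintro g ⟨i, hi, hg⟩
    refine ⟨-i, by linear_combination -hi, fun x => g.injective ?_⟩
    have hx : ∀ y, g (g⁻¹ y) = y := fun y => by rw [← LinearEquiv.mul_apply, mul_inv_cancel]; rfl
    rw [map_add, map_smul, hg, hx, hx, neg_smul]
    abel

/-- The field subgroup. -/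
noncomputable def subK (e : F) : Subgroup (Matrix.symplecticGroup (Fin 3) F) :=
  (fieldNorm e).comap ((iso (spB 3 F)).subtype.comp spEquiv.toMonoidHom)

omit [CharP F 3] in
theorem exists_scalar {A : Matrix.symplecticGroup (Fin 3) F}
    (hA : A ∈ Subgroup.center (Matrix.symplecticGroup (Fin 3) F)) :
    ∃ a : F, ∀ v, spMap A v = a • v := by
  have h : spEquiv A ∈ Subgroup.center _ := Subgroup.mem_center_iff.2 fun g => by
    obtain ⟨g, rfl⟩ := spEquiv.surjective g
    rw [← map_mul, ← map_mul, Subgroup.mem_center_iff.1 hA g]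
  obtain ⟨a, -, hv⟩ := (mem_center_iff_smul (spB_nondegenerate 3 F) (spB_isAlt 3 F) _).1 h
  exact ⟨a, hv⟩

omit [CharP F 3] in
theorem center_le_subH : Subgroup.center (Matrix.symplecticGroup (Fin 3) F) ≤ subH := fun A hA => by
  obtain ⟨a, ha⟩ := exists_scalar hA
  refine mem_setStab_of_forall (spMap_mem A) fun v hv => ?_
  show spMap A v ∈ plane
  rw [ha]
  exact Submodule.smul_mem _ a hv

theorem center_le_subK (e : F) : Subgroup.center (Matrix.symplecticGroup (Fin 3) F) ≤ subK e := fun A hA => by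
  obtain ⟨a, ha⟩ := exists_scalar hA
  refine ⟨0, by ring, fun x => ?_⟩
  show spMap A _ = _
  rw [ha, zero_smul, add_zero]
  show a • mT e x = mT e (spMap A x)
  rw [ha, map_smul]

omit [CharP F 3] in
theorem exists_spEquiv {t : (Fin 3 ⊕ Fin 3 → F) ≃ₗ[F] (Fin 3 ⊕ Fin 3 → F)} (ht : t ∈ iso (spB 3 F)) :
    ∃ A, spMap A = t :=
  ⟨spEquiv.symm ⟨t, ht⟩, congrArg Subtype.val (spEquiv.apply_symm_apply ⟨t, ht⟩)⟩

omit [CharP F 3] in
theorem subH_ne_top : subH (F := F) ≠ ⊤ := by
  intro h
  refine setStab_ne_iso (spB_nondegenerate 3 F) (spB_isAlt 3 F) (W := plane) ?_ ?_ ?_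
  · intro h0
    have := finrank_plane (F := F)
    rw [h0, finrank_bot] at this
    omega
  · intro h0
    have := finrank_plane (F := F)
    rw [h0, finrank_top, finrank_space] at this
    omega
  · refine le_antisymm (fun g hg => hg.1) fun t ht => ?_
    obtain ⟨A, rfl⟩ := exists_spEquiv ht
    exact (show A ∈ subH (F := F) by rw [h]; exact Subgroup.mem_top A)

theorem subK_ne_top {e : F} (he : e ≠ 0) : subK e ≠ ⊤ := by
  intro h
  set v : Fin 3 ⊕ Fin 3 → F := Sum.elim (Pi.single 0 1) 0 with hv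
  set w : Fin 3 ⊕ Fin 3 → F := Sum.elim 0 (Pi.single 0 1) with hw
  obtain ⟨A, hA⟩ := exists_spEquiv (tv_mem_iso (spB_isAlt 3 F) v (1 : F))
  obtain ⟨i, -, hi⟩ := (show A ∈ subK e by rw [h]; exact Subgroup.mem_top A)
  have hi' : ∀ x, tv (spB_isAlt 3 F) v (1 : F) (mT e x) =
      mT e (tv (spB_isAlt 3 F) v (1 : F) x) + i • tv (spB_isAlt 3 F) v (1 : F) x := fun x => by
    rw [← hA]; exact hi x
  have hvv : spB 3 F (mT e v) v = 0 := by
    rw [hv, mT, em_elim, spB_elim]; simp
  have hi0 : i = 0 := by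
    have h1 := congrFun (hi' v) (Sum.inl 0)
    simp [tv_apply, (spB_isAlt 3 F).self_eq_zero, hvv] at h1
    simpa [hv] using h1
  have hwv : spB 3 F w v = 1 := by rw [hv, hw, spB_elim]; simp [dotProduct, Fin.sum_univ_three]
  have hTwv : spB 3 F (mT e w) v = e := by
    rw [hv, hw, mT, em_elim, spB_elim]
    simp [U3.T₀, Matrix.mulVec, dotProduct, Fin.sum_univ_three]
  have h1 := congrFun (hi' w) (Sum.inl 1)
  rw [hi0, zero_smul, add_zero, tv_apply, tv_apply, one_mul, one_mul, hwv, hTwv, one_smul, map_add] at h1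
  have hTv : mT e v (Sum.inl 1) = e := by
    rw [hv, mT, em_elim]
    simp [U3.T₀]
  have hv1 : v (Sum.inl 1) = 0 := by simp [hv]
  simp [hTv, hv1] at h1
  exact he h1

/-- Conjugation into the plane stabiliser. -/
theorem conj_subH [Fintype F] {A : Matrix.symplecticGroup (Fin 3) F}
    (h : Plane (spB 3 F) (em A.1)) : ∃ x, x * A * x⁻¹ ∈ subH := by
  obtain ⟨W, hd, hW, hAW⟩ := h
  have hB := spB_nondegenerate 3 F
  have hA := spB_isAlt 3 F
  obtain ⟨φ, hφ, hiso⟩ := exists_isometry_between hA _ W plane le_rfl hW plane_nondeg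
    (by rw [hd, finrank_plane])
  have hinj : Function.Injective φ := (injective_iff_map_eq_zero _).2 fun x hx => by
    by_contra h0
    obtain ⟨y, hy, hxy⟩ := hW x x.2 fun h => h0 (Subtype.ext h)
    exact hxy (by rw [← hiso x ⟨y, hy⟩, hx, map_zero, LinearMap.zero_apply])
  obtain ⟨t, ht, htφ⟩ := witt hB hA W φ hinj hiso
  have hti : t ∈ iso (spB 3 F) := T_le_iso hA ⊥ ht
  have hmap : W.map (t : (Fin 3 ⊕ Fin 3 → F) →ₗ[F] _) = plane := by
    refine Submodule.eq_of_le_of_finrank_le ?_ (by rw [LinearEquiv.finrank_map_eq, hd, finrank_plane])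
    rintro _ ⟨x, hx, rfl⟩
    show t x ∈ plane
    rw [htφ ⟨x, hx⟩]
    exact hφ _
  obtain ⟨x, hx⟩ := exists_spEquiv hti
  refine ⟨x, mem_setStab_of_forall (spMap_mem (x * A * x⁻¹)) fun v hv => ?_⟩
  rw [← hmap] at hv ⊢
  obtain ⟨w, hw, rfl⟩ := hv
  refine ⟨_, hAW w hw, ?_⟩
  show t (em A.1 w) = spMap (x * A * x⁻¹) (t w)
  rw [map_mul, map_mul, map_inv, LinearEquiv.mul_apply, LinearEquiv.mul_apply, hx, ← LinearEquiv.mul_apply t⁻¹ t, inv_mul_cancel]
  rfl

/-- Conjugation into the field subgroup. -/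
theorem conj_subK {e : F} {A : Matrix.symplecticGroup (Fin 3) F} {G : Module.End F (Fin 3 ⊕ Fin 3 → F)}
    (h : Inter (spB 3 F) (em A.1) G) {i : F} (hi : i ^ 3 = i)
    (hG : ∀ x, G (mT e x) = mT e (G x) + i • G x) : ∃ x, x * A * x⁻¹ ∈ subK e := by
  obtain ⟨t, ht, htG⟩ := h
  obtain ⟨x, hx⟩ := exists_spEquiv ht
  have key : ∀ y, spMap (x * A * x⁻¹) y = G y := fun y => by
    rw [map_mul, map_mul, map_inv, LinearEquiv.mul_apply, LinearEquiv.mul_apply, hx]
    show t (em A.1 (t⁻¹ y)) = G y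
    rw [htG, ← LinearEquiv.mul_apply t t⁻¹, mul_inv_cancel]
    rfl
  refine ⟨x, i, hi, fun y => ?_⟩
  show spMap (x * A * x⁻¹) (mT e y) = _
  rw [key]
  show G (mT e y) = mT e (spMap (x * A * x⁻¹) y) +
    i • spMap (x * A * x⁻¹) y
  rw [key, hG]

theorem exists_e [Fintype F] : ∃ e : F, ∀ x : F, x ^ 3 - x + e ≠ 0 := by
  by_contra h
  push Not at h
  have hsurj : Function.Surjective fun x : F => x ^ 3 - x := fun c => by
    obtain ⟨x, hx⟩ := h (-c)
    exact ⟨x, by show x ^ 3 - x = c; linear_combination hx⟩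
  exact zero_ne_one (Finite.injective_iff_surjective.2 hsurj
    (show (0 : F) ^ 3 - 0 = 1 ^ 3 - 1 by ring))

theorem semiconj_apply {e : F} {G : Module.End F (Fin 3 ⊕ Fin 3 → F)} (h : G * mT e = (mT e + 1) * G)
    (x : Fin 3 ⊕ Fin 3 → F) : G (mT e x) = mT e (G x) + (1 : F) • G x := by
  have := LinearMap.congr_fun h x
  simpa using this

attribute [local irreducible] mReg mPair mSemi cay

/-- `PSp_6(3^a)` is covered by the conjugates of two proper subgroups. -/
theorem twoCover_PSp_six [Fintype F] : TwoCover (Cfsg.PSp 3 F) := by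
  obtain ⟨e, he⟩ := exists_e (F := F)
  have he0 : e ≠ 0 := fun h => he 0 (by rw [h]; ring)
  refine twoCover_quot center_le_subH (center_le_subK e) subH_ne_top (subK_ne_top he0) fun A => ?_
  set B := spB 3 F with hBdef
  have hB : B.Nondegenerate := spB_nondegenerate 3 F
  have hA : B.IsAlt := spB_isAlt 3 F
  have hV : finrank F (Fin 3 ⊕ Fin 3 → F) = 6 := finrank_space
  have h2 : (2 : F) ≠ 0 := fun h => one_ne_zero (α := F) (by linear_combination three0 (F := F) - h)
  have hg : ∀ x y, B (em A.1 x) (em A.1 y) = B x y := (mem_symplecticGroup_iff A.1).1 A.2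
  rcases classify e hB hA hV he hg with hP | ⟨T, hgT, hsT, hT⟩ | ⟨c, X, y, hcc, hX, h6, hy, hgX⟩ |
      ⟨s, X, M, a, b, hs, hX, h3, hc, hsa, hsb, htop, hgX⟩
  · obtain ⟨x, hx⟩ := conj_subH hP
    exact ⟨x, Or.inl hx⟩
  · -- commuting with a cubic root
    obtain ⟨t, ht, htT⟩ := inter_root hB hA h2 hV (U3.f_irreducible he) hsT hT (mT_adjoint e) (mT_root e)
    obtain ⟨x, hx⟩ := conj_subK (e := e) (A := A) (i := 0)
      (G := (t : Module.End F _) * em A.1 * (t.symm : Module.End F _))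
      ⟨t, ht, fun x => by simp⟩ (by ring) fun x => by
        obtain ⟨y, rfl⟩ := t.surjective x
        rw [← htT]
        simp [Module.End.mul_apply, ← htT, show ∀ z, em A.1 (T z) = T (em A.1 z) from LinearMap.congr_fun hgT.eq]
    exact ⟨x, Or.inr hx⟩
  · -- regular
    obtain ⟨d, hd⟩ : ∃ d : F, d = -B ((X ^ 5) y) y := ⟨_, rfl⟩
    obtain ⟨v, hv⟩ := mReg_value e d
    have hv' : B ((cay (mReg e d) ^ 5) v) v = B ((X ^ 5) y) y := by rw [hBdef, hv, hd, neg_neg, hBdef]
    have hu6 : (mReg e d - 1) ^ 6 = 0 := mReg_six e d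
    have hui : ∀ x y, B (mReg e d x) (mReg e d y) = B x y := by intro x y; rw [hBdef]; exact mReg_iso e d x y
    have hXu : SkewAdj B (cay (mReg e d)) := cay_skew hu6 hui
    have hX6u : cay (mReg e d) ^ 6 = 0 := cay_pow_eq_zero hu6
    obtain ⟨t, ht, htX⟩ := inter_reg (y' := v) hB hA hV hX h6 hXu hX6u hy hv'
    have h1 : SemiconjBy (t : Module.End F _) (icay X) (mReg e d) := by
      have h' := icay_semiconj (t := (t : Module.End F _)) (X' := cay (mReg e d)) (LinearMap.ext htX)
      rwa [show icay (cay (mReg e d)) = mReg e d from (eq_of_cay hu6).symm] at h'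
    obtain ⟨x, hx⟩ := conj_subK (e := e) (A := A) (i := 1) (G := c • mReg e d)
      ⟨t, ht, fun x => by
        rw [hgX, LinearMap.smul_apply, map_smul, LinearMap.smul_apply]
        exact congrArg _ (LinearMap.congr_fun h1.eq x)⟩ (by ring)
      fun x => by
        rw [LinearMap.smul_apply, LinearMap.smul_apply, semiconj_apply (mReg_semiconj e _), map_smul, smul_add,
          smul_comm c (1 : F)]
    exact ⟨x, Or.inr hx⟩
  · -- a pair
    obtain ⟨hdet, a₁, b₁, hP⟩ := pair_normal hA hX h3 hc hs M hsa hsb htop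
    have hu3 := mPair_cube (F := F)
    have hu6 : (mPair (F := F) - 1) ^ 6 = 0 := pow_eq_zero_of_le (by norm_num) hu3
    have hX' : SkewAdj B (cay (mPair (F := F))) := cay_skew hu6 mPair_iso
    have h3' : cay (mPair (F := F)) ^ 3 = 0 := cay_pow_eq_zero hu3
    have hc' : Commute (mSemi M) (cay (mPair (F := F))) := cay_commute (mSemi_mPair M)
    obtain ⟨-, a₂, b₂, hP'⟩ := pair_normal hA hX' h3' hc' (mSemi_iso hdet) M (mSemi_A M) (mSemi_B M) mPair_value
    have hi := inter_pair hB hA hV hX h3 hc hX' h3' hc' hP hP'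
    rw [show icay (cay (mPair (F := F))) = mPair from (eq_of_cay hu6).symm, ← hgX] at hi
    obtain ⟨x, hx⟩ := conj_subK (e := e) (A := A) (i := 1) hi (by ring) (semiconj_apply (by
      rw [mul_assoc, mPair_semiconj, ← mul_assoc, ((mSemi_mT e M).add_right (Commute.one_right _)).eq, mul_assoc]))
    exact ⟨x, Or.inr hx⟩

end Model

end Cfsg.Lib.Cover.Sp6
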