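import Cfsg.Agent.Lib.Cover.PSpSixFrame
import Cfsg.Agent.Lib.Linear.SympInvolution
import Cfsg.Agent.Lib.Cover.PSUThreeModel

/-!
# Isometries of a six-dimensional alternating space in characteristic three

An isometry without invariant non-degenerate plane commutes with a self-adjoint root of `X^3 - X + e`, or its
unipotent part is regular with semisimple part `±1`, or it has two Jordan blocks of size three that its
semisimple part permutes by a matrix.
-/

set_option autoImplicit false

namespace Cfsg.Lib.Cover.Sp6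

open Module Polynomial Cfsg.Lib.Linear Cfsg.Lib.Linear.Symp

variable {F : Type} {V : Type*} [Field F] [Fintype F] [AddCommGroup V] [Module F V] [FiniteDimensional F V]
  {B : LinearMap.BilinForm F V}

/-- The unipotent map with Cayley transform `X`. -/
def icay (X : Module.End F V) : Module.End F V := (1 + X) * (1 + X + X ^ 2 + X ^ 3 + X ^ 4 + X ^ 5)

omit [Fintype F] [FiniteDimensional F V] in
theorem map_mem_of_invariant {W : Submodule F V} {X : Module.End F V} (hX : ∀ x ∈ W, X x ∈ W) (k : ℕ) :
    ∀ x ∈ W, (X ^ k) x ∈ W := by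
  induction k with
  | zero => intro x hx; simpa using hx
  | succ k ih => intro x hx; rw [pow_succ', Module.End.mul_apply]; exact hX _ (ih x hx)

omit [Fintype F] [FiniteDimensional F V] in
theorem icay_invariant {W : Submodule F V} {X s : Module.End F V} (hX : ∀ x ∈ W, X x ∈ W)
    (hs : ∀ x ∈ W, s x ∈ W) : ∀ x ∈ W, (s * icay X) x ∈ W := by
  intro x hx
  have h : (1 + X + X ^ 2 + X ^ 3 + X ^ 4 + X ^ 5 : Module.End F V) x ∈ W := by
    simp only [LinearMap.add_apply, Module.End.one_apply]
    exact W.add_mem (W.add_mem (W.add_mem (W.add_mem (W.add_mem hx (hX x hx)) (map_mem_of_invariant hX 2 x hx))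
      (map_mem_of_invariant hX 3 x hx)) (map_mem_of_invariant hX 4 x hx)) (map_mem_of_invariant hX 5 x hx)
  rw [icay, Module.End.mul_apply, Module.End.mul_apply, LinearMap.add_apply (1 : Module.End F V),
    Module.End.one_apply]
  exact hs _ (W.add_mem h (hX _ h))

omit [Fintype F] [FiniteDimensional F V] in
theorem adjoint_aeval {s si : Module.End F V} (h : ∀ x y, B (s x) y = B x (si y)) (a : F[X]) :
    ∀ x y, B (aeval s a x) y = B x (aeval si a y) := by
  induction a using Polynomial.induction_on with
  | C c => intro x y; simp [Module.algebraMap_end_apply]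
  | add a b ha hb => intro x y; simp [ha, hb]
  | monomial k c hk =>
    intro x y
    have e : aeval si (C c * X ^ (k + 1)) = si * aeval si (C c * X ^ k) := by
      rw [pow_succ, ← mul_assoc, mul_comm (C c * X ^ k), map_mul, aeval_X]
    rw [e, pow_succ, ← mul_assoc, map_mul, aeval_X, Module.End.mul_apply, Module.End.mul_apply, hk, h]

/-- The polynomial with reversed coefficients. -/
noncomputable def rev (p : F[X]) : F[X] :=
  ∑ i ∈ Finset.range (p.natDegree + 1), C (p.coeff i) * X ^ (p.natDegree - i)

omit [Fintype F] [FiniteDimensional F V] in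
theorem rev_rel {s : Module.End F V} (hs : ∀ x y, B (s x) (s y) = B x y) (p : F[X]) (x y : V) :
    B ((s ^ p.natDegree) x) (aeval s (rev p) y) = B (aeval s p x) y := by
  have hpiso : ∀ (k : ℕ) (x y : V), B ((s ^ k) x) ((s ^ k) y) = B x y := by
    intro k
    induction k with
    | zero => simp
    | succ k ih => intro x y; rw [pow_succ', Module.End.mul_apply, Module.End.mul_apply, hs, ih]
  rw [rev, map_sum, LinearMap.sum_apply, map_sum, aeval_eq_sum_range, LinearMap.sum_apply, map_sum,
    LinearMap.sum_apply]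
  refine Finset.sum_congr rfl fun i hi => ?_
  rw [map_mul, aeval_C, map_pow, aeval_X, Module.End.mul_apply, Module.algebraMap_end_apply, map_smul,
    LinearMap.smul_apply, map_smul, LinearMap.smul_apply]
  congr 1
  conv_lhs => rw [← Nat.sub_add_cancel (Finset.mem_range_succ_iff.1 hi), pow_add, Module.End.mul_apply,
    Nat.sub_add_cancel (Finset.mem_range_succ_iff.1 hi)]
  exact hpiso _ _ _

omit [Fintype F] in
theorem rev_root {L : Type*} [Field L] [Algebra F L] {p : F[X]} {z : L} (hz : z ≠ 0)
    (h : aeval z (rev p) = 0) : aeval z⁻¹ p = 0 := by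
  have h' : z ^ p.natDegree * aeval z⁻¹ p = 0 := by
    rw [← h, rev, map_sum, aeval_eq_sum_range, Finset.mul_sum]
    refine Finset.sum_congr rfl fun i hi => ?_
    rw [map_mul, aeval_C, map_pow, aeval_X, Algebra.smul_def, inv_pow,
      pow_sub₀ _ hz (Finset.mem_range_succ_iff.1 hi)]
    ring
  exact (mul_eq_zero.1 h').resolve_left (pow_ne_zero _ hz)

/-- An irreducible polynomial with inverse roots: even degree and the half Frobenius inverts the root. -/
theorem inv_orbit {p : F[X]} [Fact (Irreducible p)] (h : aeval (AdjoinRoot.root p)⁻¹ p = 0)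
    (h2 : 2 ≤ p.natDegree) :
    ∃ k, p.natDegree = 2 * k ∧ (AdjoinRoot.root p)⁻¹ = AdjoinRoot.root p ^ (Fintype.card F ^ k) := by
  have hp : Irreducible p := Fact.out
  haveI : Module.Finite F (AdjoinRoot p) := (AdjoinRoot.powerBasis hp.ne_zero).finite
  haveI : Finite (AdjoinRoot p) := Module.finite_of_finite F
  have hd : Module.finrank F (AdjoinRoot p) = p.natDegree := by
    rw [(AdjoinRoot.powerBasis hp.ne_zero).finrank, AdjoinRoot.powerBasis_dim]
  set z := AdjoinRoot.root p with hz
  let φ : AdjoinRoot p →ₐ[F] AdjoinRoot p := AdjoinRoot.liftAlgHom p (Algebra.ofId F _) z⁻¹ h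
  obtain ⟨⟨i, hi⟩, hφ⟩ := (FiniteField.bijective_frobeniusAlgHom_pow F (AdjoinRoot p)).2 φ
  set Fr := FiniteField.frobeniusAlgHom F (AdjoinRoot p)
  have hpow : ∀ (k : ℕ) (x : AdjoinRoot p), (Fr ^ k) x = x ^ (Fintype.card F ^ k) := by
    intro k
    induction k with
    | zero => intro x; simp
    | succ k ih =>
      intro x
      rw [pow_succ, AlgHom.mul_apply, ih, FiniteField.coe_frobeniusAlgHom]
      show (x ^ Fintype.card F) ^ _ = _
      rw [← pow_mul, pow_succ']
  have hφeq : Fr ^ i = φ := hφ
  have hφ' : φ z = z⁻¹ := AdjoinRoot.liftAlgHom_root _ _ _ _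
  have h2i : Fr ^ (i + i) = 1 := by
    rw [pow_add, hφeq]
    refine AdjoinRoot.algHom_ext ?_
    rw [AlgHom.mul_apply, hφ', map_inv₀, hφ', inv_inv]
    rfl
  have hdvd : p.natDegree ∣ i + i := by
    rw [← hd, ← FiniteField.orderOf_frobeniusAlgHom]
    exact orderOf_dvd_of_pow_eq_one h2i
  have hi0 : i ≠ 0 := by
    intro h0
    have h1 : z⁻¹ = z := by rw [← hφ', ← hφeq, h0, pow_zero]; rfl
    have hz0 : z ≠ 0 := fun hz0 => by
      have h1' : (AdjoinRoot.mk p) X = 0 := by rw [AdjoinRoot.mk_X]; exact hz0
      have := natDegree_le_of_dvd (AdjoinRoot.mk_eq_zero.1 h1') X_ne_zero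
      rw [natDegree_X] at this
      omega
    have hzz : z * z = 1 := by
      conv_lhs => arg 1; rw [← h1]
      exact inv_mul_cancel₀ hz0
    obtain ⟨c, hc⟩ : ∃ c : F, algebraMap F (AdjoinRoot p) c = z := by
      rcases mul_self_eq_one_iff.1 hzz with h' | h'
      · exact ⟨1, by rw [map_one, h']⟩
      · exact ⟨-1, by rw [map_neg, map_one, h']⟩
    have hdvd' : p ∣ X - C c := AdjoinRoot.mk_eq_zero.1 (by
      rw [map_sub, AdjoinRoot.mk_X, AdjoinRoot.mk_C, ← AdjoinRoot.algebraMap_eq, hc, sub_self])
    have := natDegree_le_of_dvd hdvd' (X_sub_C_ne_zero c)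
    rw [natDegree_X_sub_C] at this
    omega
  have hlt : i < p.natDegree := hd ▸ hi
  refine ⟨i, ?_, by rw [← hpow, hφeq, hφ']⟩
  obtain ⟨c, hc⟩ := hdvd
  have : c = 1 ∨ c = 0 ∨ 2 ≤ c := by omega
  rcases this with rfl | rfl | hc2
  · omega
  · omega
  · have := Nat.mul_le_mul_left p.natDegree hc2
    omega

/-- The splitting into commuting semisimple and unipotent powers. -/
theorem exists_jordan [CharP F 3] (hV : finrank F V = 6) {g : Module.End F V} (hg : Function.Injective g) :
    ∃ i j k : ℕ, g = g ^ i * g ^ j ∧ Squarefree (minpoly F (g ^ i)) ∧ (g ^ j - 1) ^ 6 = 0 ∧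
      g ^ i * g ^ k = 1 := by
  haveI : Finite V := Module.finite_of_finite F
  haveI : Finite (Module.End F V) := Finite.of_injective (fun f : Module.End F V => (f : V → V)) DFunLike.coe_injective
  have hu : IsUnit g := (Module.End.isUnit_iff g).2 ⟨hg, LinearMap.injective_iff_surjective.1 hg⟩
  obtain ⟨U, hU⟩ := hu
  set n := orderOf U
  have hn0 : 0 < n := orderOf_pos U
  have hgn : g ^ n = 1 := by rw [← hU, ← Units.val_pow_eq_pow_val, pow_orderOf_eq_one]; rfl
  have hmod : ∀ c, n ∣ c → g ^ c = 1 := fun c ⟨d, hd⟩ => by rw [hd, pow_mul, hgn, one_pow]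
  have h31 : (3 : ℕ) ≠ 1 := by norm_num
  obtain ⟨a, m, hm3, hnm⟩ := Nat.exists_eq_pow_mul_and_not_dvd hn0.ne' 3 h31
  have hcop : Nat.Coprime (3 ^ a) m := ((Nat.prime_three.coprime_iff_not_dvd).2 hm3).pow_left a
  obtain ⟨i, hi1, hi2⟩ := Nat.chineseRemainder hcop 0 1
  obtain ⟨j, hj1, hj2⟩ := Nat.chineseRemainder hcop 1 0
  refine ⟨i, j, i * (n - 1), ?_, ?_, ?_, ?_⟩
  · have h1 : i + j ≡ 1 [MOD 3 ^ a * m] :=
      (Nat.modEq_and_modEq_iff_modEq_mul hcop).1 ⟨by simpa using hi1.add hj1, by simpa using hi2.add hj2⟩
    rw [← pow_add, ← hU, ← Units.val_pow_eq_pow_val,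
      (pow_eq_pow_iff_modEq (x := U)).2 (show i + j ≡ 1 [MOD n] by rw [hnm]; exact h1), pow_one]
  · have hsm : (g ^ i) ^ m = 1 := by
      rw [← pow_mul]
      exact hmod _ (by rw [hnm]; exact Nat.mul_dvd_mul_right (Nat.modEq_zero_iff_dvd.1 hi1) m)
    have hm0 : (m : F) ≠ 0 := fun h => hm3 ((CharP.cast_eq_zero_iff F 3 m).1 h)
    have hsep : ((X : F[X]) ^ m - C 1).Separable := separable_X_pow_sub_C (1 : F) hm0 one_ne_zero
    exact hsep.squarefree.squarefree_of_dvd (minpoly.dvd F _ (by simp [hsm]))
  · have hu3 : (g ^ j) ^ (3 ^ a) = 1 := by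
      rw [← pow_mul]
      exact hmod _ (by rw [hnm, mul_comm j]; exact Nat.mul_dvd_mul_left _ (Nat.modEq_zero_iff_dvd.1 hj2))
    have hnil : (g ^ j - 1) ^ (3 ^ a) = 0 := by
      haveI : Fact (Nat.Prime 3) := ⟨Nat.prime_three⟩
      have e := congrArg (aeval (g ^ j)) (sub_pow_char_pow (p := 3) (n := a) (x := (X : F[X])) (y := 1))
      simp only [map_pow, map_sub, aeval_X, map_one, one_pow, hu3, sub_self] at e
      exact e
    have h := IsNilpotent.charpoly_eq_X_pow_finrank (⟨_, hnil⟩ : IsNilpotent (g ^ j - 1))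
    have hc := LinearMap.aeval_self_charpoly (g ^ j - 1)
    rwa [h, map_pow, aeval_X, hV] at hc
  · rw [← pow_add]
    exact hmod _ ⟨i, by rw [Nat.mul_sub, mul_one, Nat.add_sub_cancel' (Nat.le_mul_of_pos_right i hn0), mul_comm]⟩

omit [Fintype F] in
theorem exists_index [Nontrivial V] {X : Module.End F V} (h6 : X ^ 6 = 0) :
    ∃ m, m ≤ 5 ∧ X ^ (m + 1) = 0 ∧ X ^ m ≠ 0 := by
  classical
  have hex : ∃ m, X ^ (m + 1) = 0 := ⟨5, h6⟩
  refine ⟨Nat.find hex, Nat.find_min' hex h6, Nat.find_spec hex, fun h => ?_⟩
  rcases Nat.eq_zero_or_pos (Nat.find hex) with h0 | hpos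
  · rw [h0, pow_zero] at h; exact one_ne_zero h
  · exact Nat.find_min hex (m := Nat.find hex - 1) (by omega) (by rwa [Nat.sub_add_cancel hpos])

omit [Fintype F] [FiniteDimensional F V] in
theorem beta_comm (hA : B.IsAlt) {X : Module.End F V} (hX : SkewAdj B X) (m : ℕ) (x y : V) :
    B ((X ^ m) y) x = -(-1) ^ m * B ((X ^ m) x) y := by
  rw [skew_pow hX m y x, ← LinearMap.IsAlt.neg hA ((X ^ m) x) y]
  ring

section Split

variable {s si X : Module.End F V} {g : Module.End F V}

omit [Fintype F] in
/-- One generator. -/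
theorem one_gen (hB : B.Nondegenerate) (hA : B.IsAlt) (hV : finrank F V = 6)
    (hg : ∀ x y, B (g x) (g y) = B x y) (hgX : g = s * icay X) (hX : SkewAdj B X) (hc : Commute s X) {m : ℕ}
    (hm : X ^ (m + 1) = 0) (hodd : Odd m) {y : V} (hy : B ((X ^ m) y) y ≠ 0) {c : F} (hsy : s y = c • y) :
    Plane B g ∨ m = 5 := by
  obtain ⟨W, hd, hW, hXW, hsW⟩ := fam_span hX hm ![y] (fun d hd => funext fun i => by
    have := hd 0
    simp [hy] at this
    fin_cases i
    exact this) s hc fun j => by
    fin_cases j
    exact Submodule.mem_span_range_iff_exists_fun F |>.2 ⟨fun _ => c, by simp [hsy]⟩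
  have := Submodule.finrank_le W
  obtain ⟨k, rfl⟩ := hodd
  by_cases hk : k = 2
  · subst hk; exact Or.inr rfl
  · exact Or.inl (plane_of_nondeg hB hA hV hg (by omega) hW (hgX ▸ icay_invariant hXW hsW))

omit [Fintype F] in
/-- Two generators permuted by `s` through a matrix. -/
theorem two_gen [CharP F 3] (hB : B.Nondegenerate) (hA : B.IsAlt) (hV : finrank F V = 6)
    (hg : ∀ x y, B (g x) (g y) = B x y) (hgX : g = s * icay X) (hX : SkewAdj B X) (hc : Commute s X) {m : ℕ}
    (hm : X ^ (m + 1) = 0) {a b : V} (M : Fin 4 → F) (hsa : s a = M 0 • a + M 1 • b) (hsb : s b = M 2 • a + M 3 • b)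
    (hdet : B ((X ^ m) a) a * B ((X ^ m) b) b - B ((X ^ m) a) b * B ((X ^ m) b) a ≠ 0) :
    Plane B g ∨ ∃ (M' : Fin 4 → F) (a' b' : V), X ^ 3 = 0 ∧ s a' = M' 0 • a' + M' 1 • b' ∧
      s b' = M' 2 • a' + M' 3 • b' ∧ B ((X ^ 2) a') b' = 1 := by
  obtain ⟨W, hd, hW, hXW, hsW⟩ := fam_span hX hm ![a, b] (fun d hd => by
    have h0 := hd 0
    have h1 := hd 1
    simp [Fin.sum_univ_two] at h0 h1
    have d0 : d 0 = 0 := (mul_eq_zero.1 (show d 0 * _ = 0 by
      linear_combination B ((X ^ m) b) b * h0 - B ((X ^ m) b) a * h1)).resolve_right hdet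
    have d1 : d 1 = 0 := (mul_eq_zero.1 (show d 1 * _ = 0 by
      linear_combination B ((X ^ m) a) a * h1 - B ((X ^ m) a) b * h0)).resolve_right hdet
    funext i
    fin_cases i <;> assumption) s hc fun j => by
    refine (Submodule.mem_span_range_iff_exists_fun F).2 ?_
    fin_cases j
    · exact ⟨![M 0, M 1], by simp [Fin.sum_univ_two, hsa]⟩
    · exact ⟨![M 2, M 3], by simp [Fin.sum_univ_two, hsb]⟩
  have := Submodule.finrank_le W
  by_cases hm2 : m = 2
  swap
  · exact Or.inl (plane_of_nondeg hB hA hV hg (by omega) hW (hgX ▸ icay_invariant hXW hsW))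
  subst hm2
  have h2 : (2 : F) ≠ 0 := fun h => one_ne_zero (α := F) (by linear_combination three0 (F := F) - h)
  have hab : B ((X ^ 2) a) b ≠ 0 := fun h => hdet (by
    rw [h, even_self hA hX h2 even_two]; ring)
  set c := B ((X ^ 2) a) b
  refine Or.inr ⟨![M 0, c * M 1, c⁻¹ * M 2, M 3], a, c⁻¹ • b, hm, ?_, ?_, ?_⟩
  · simp [hsa, smul_smul]
    rw [mul_comm c, mul_assoc, mul_inv_cancel₀ hab, mul_one]
  · simp [hsb, smul_smul, mul_comm]
  · rw [map_smul, smul_eq_mul, inv_mul_cancel₀ hab]

variable (hs : ∀ x y, B (s x) (s y) = B x y)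
include hs

omit [Fintype F] in
theorem range_perp_self (hB : B.Nondegenerate) {p : F[X]} (hdvd : p ∣ rev p) (x y : V)
    (hy : aeval s p y = 0) : B (aeval s p x) y = 0 := by
  obtain ⟨c, hc⟩ := hdvd
  rw [← rev_rel hs, hc, mul_comm, map_mul, Module.End.mul_apply, hy, map_zero, map_zero]

omit [Fintype F] in
theorem range_perp_pair (hB : B.Nondegenerate) (hA : B.IsAlt) {p : F[X]} (x y : V)
    (hy : aeval s (p * rev p) y = 0) : B (aeval s (p * rev p) x) y = 0 := by
  have hinj : Function.Injective (s ^ p.natDegree) := by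
    rw [Module.End.coe_pow]
    exact Function.Injective.iterate ((injective_iff_map_eq_zero _).2 fun x hx => hB.1 x fun y => by
      rw [← hs, hx, map_zero, LinearMap.zero_apply]) _
  have hcomm : ∀ a b : F[X], ∀ z, aeval s a (aeval s b z) = aeval s (a * b) z := fun a b z => by
    rw [map_mul, Module.End.mul_apply]
  obtain ⟨Y, hY⟩ := LinearMap.injective_iff_surjective.1 hinj (aeval s (rev p) y)
  have hcs : ∀ a z, (s ^ p.natDegree) (aeval s a z) = aeval s a ((s ^ p.natDegree) z) := fun a z => by
    have h := congrArg (fun q => aeval s q z) (mul_comm ((X : F[X]) ^ p.natDegree) a)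
    simpa [map_mul, map_pow] using h
  have hpY : aeval s p Y = 0 := hinj (by rw [map_zero, hcs, hY, hcomm, hy])
  rw [← hcomm, ← rev_rel hs, hcs, ← hY, ← LinearMap.IsAlt.neg hA, rev_rel hs, hpY, map_zero, LinearMap.zero_apply,
    neg_zero]

omit [Fintype F] in
/-- The kernel of a polynomial whose range is orthogonal to it is non-degenerate for semisimple `s`. -/
theorem ker_nondeg (hB : B.Nondegenerate) (hA : B.IsAlt) (hsq : Squarefree (minpoly F s)) (R : F[X])
    (hperp : ∀ x y, aeval s R y = 0 → B (aeval s R x) y = 0) : NondegOn B (LinearMap.ker (aeval s R)) := by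
  classical
  set T := aeval s R with hT
  have hTT : ∀ x, T (T x) = 0 → T x = 0 := by
    intro x hx
    set G := EuclideanDomain.gcd (minpoly F s) (R ^ 2)
    have hG : G ∣ R :=
      (hsq.squarefree_of_dvd (EuclideanDomain.gcd_dvd_left _ _)).isRadical 2 R (EuclideanDomain.gcd_dvd_right _ _)
    have hG0 : aeval s G x = 0 := by
      have := congrArg (fun q => aeval s q x) (EuclideanDomain.gcd_eq_gcd_ab (minpoly F s) (R ^ 2))
      simp only [G] at this ⊢
      rw [this, map_add, map_mul, minpoly.aeval, zero_mul, zero_add, mul_comm, map_mul, Module.End.mul_apply,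
        pow_two, map_mul, Module.End.mul_apply, ← hT, hx, map_zero]
    obtain ⟨c, hc⟩ := hG
    rw [hT, hc, mul_comm, map_mul, Module.End.mul_apply, hG0, map_zero]
  intro y hy hy0
  by_contra hcon
  push Not at hcon
  refine hy0 (hB.1 y fun z => ?_)
  have hdisj : Disjoint (LinearMap.ker T) (LinearMap.range T) := Submodule.disjoint_def.2 fun w hw hw' => by
    obtain ⟨v, rfl⟩ := hw'
    exact hTT v hw
  have hsup : LinearMap.ker T ⊔ LinearMap.range T = ⊤ := Submodule.eq_top_of_finrank_eq (by
    have := Submodule.finrank_sup_add_finrank_inf_eq (LinearMap.ker T) (LinearMap.range T)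
    rw [hdisj.eq_bot, finrank_bot] at this
    have := LinearMap.finrank_range_add_finrank_ker T
    omega)
  obtain ⟨k, hk, _, ⟨v, rfl⟩, rfl⟩ :=
    Submodule.mem_sup.1 (show z ∈ LinearMap.ker T ⊔ LinearMap.range T by rw [hsup]; exact Submodule.mem_top)
  rw [map_add, hcon k hk, ← LinearMap.IsAlt.neg hA (T v) y, hperp v y hy, neg_zero, add_zero]

end Split

omit [Fintype F] in
theorem natDegree_dvd_finrank {p : F[X]} [Fact (Irreducible p)] (s : Module.End F V) {U : Submodule F V}
    (hU : ∀ x ∈ U, s x ∈ U) (hp : ∀ x ∈ U, aeval s p x = 0) : p.natDegree ∣ finrank F U := by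
  have hp0 : Irreducible p := Fact.out
  have h0 : aeval (s.restrict hU) p = 0 := LinearMap.ext fun x => Subtype.ext (by
    rw [aeval_restrict, hp _ x.2]; rfl)
  let ρ := rho (s.restrict hU) h0
  letI : Module (AdjoinRoot p) U := Module.compHom U ρ.toRingHom
  haveI : IsScalarTower F (AdjoinRoot p) U := IsScalarTower.of_algebraMap_smul fun c x => by
    show ρ (algebraMap F _ c) x = c • x
    rw [AlgHom.commutes, Module.algebraMap_end_apply]
  rw [← Module.finrank_mul_finrank F (AdjoinRoot p) U, (AdjoinRoot.powerBasis hp0.ne_zero).finrank,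
    AdjoinRoot.powerBasis_dim]
  exact dvd_mul_right _ _

omit [FiniteDimensional F V] in
theorem pow_card_root [CharP F 3] {L : Type*} [Field L] [Algebra F L] {e : F} {θ : L}
    (hθ : aeval θ (U3.f e) = 0) : θ ^ (Fintype.card F ^ 3) = θ := by
  haveI : CharP L 3 := charP_of_injective_algebraMap (algebraMap F L).injective 3
  haveI : Fact (Nat.Prime 3) := ⟨Nat.prime_three⟩
  have h3 : (3 : L) = 0 := by exact_mod_cast CharP.cast_eq_zero L 3
  simp only [U3.f, map_add, map_sub, map_pow, aeval_X, aeval_C] at hθ
  set φ := FiniteField.frobeniusAlgHom F L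
  have hφ : ∀ x, φ x = x ^ Fintype.card F := fun x => by rw [FiniteField.coe_frobeniusAlgHom]
  set i := φ θ - θ with hi
  have hi3 : i ^ 3 = i := by
    have h1 := congrArg φ hθ
    rw [map_add, map_sub, map_pow, map_zero, AlgHom.commutes] at h1
    rw [hi]
    linear_combination h1 - hθ - ((φ θ) ^ 2 * θ - φ θ * θ ^ 2) * h3
  obtain ⟨N, -, hN⟩ := FiniteField.card F 3
  have hi' : φ i = i := by
    rw [hφ, hN]
    exact U3.pow_q_of_cube ⟨_, rfl⟩ hi3
  have h1 : φ θ = θ + i := by rw [hi]; ring
  calc θ ^ (Fintype.card F ^ 3) = φ (φ (φ θ)) := by rw [hφ, hφ, hφ, ← pow_mul, ← pow_mul]; ring_nf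
    _ = θ + 3 * i := by rw [h1, map_add, h1, hi', map_add, map_add, h1, hi']; ring
    _ = θ := by rw [h3, zero_mul, add_zero]

variable (e : F)

/-- What is left when there is no invariant non-degenerate plane. -/
def Rest (B : LinearMap.BilinForm F V) (g : Module.End F V) : Prop :=
  (∃ T : Module.End F V, Commute g T ∧ (∀ x y, B (T x) y = B x (T y)) ∧ aeval T (U3.f e) = 0) ∨
  (∃ (c : F) (X : Module.End F V) (y : V), c * c = 1 ∧ SkewAdj B X ∧ X ^ 6 = 0 ∧ B ((X ^ 5) y) y ≠ 0 ∧
    g = c • icay X) ∨
  ∃ (s X : Module.End F V) (M : Fin 4 → F) (a b : V), (∀ x y, B (s x) (s y) = B x y) ∧ SkewAdj B X ∧ X ^ 3 = 0 ∧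
    Commute s X ∧ s a = M 0 • a + M 1 • b ∧ s b = M 2 • a + M 3 • b ∧ B ((X ^ 2) a) b = 1 ∧ g = s * icay X

variable [CharP F 3]

/-- The three types. -/
theorem classify (hB : B.Nondegenerate) (hA : B.IsAlt) (hV : finrank F V = 6)
    (hroot : ∀ x : F, x ^ 3 - x + e ≠ 0) {g : Module.End F V} (hg : ∀ x y, B (g x) (g y) = B x y) :
    Plane B g ∨ Rest e B g := by
  classical
  have hfi := U3.f_irreducible hroot
  haveI : Fact (Irreducible (U3.f e)) := ⟨hfi⟩
  haveI : Nontrivial V := (Module.finrank_pos_iff (R := F)).1 (by omega)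
  have h2 : (2 : F) ≠ 0 := fun h => one_ne_zero (α := F) (by linear_combination three0 (F := F) - h)
  have isoinj : ∀ f : Module.End F V, (∀ x y, B (f x) (f y) = B x y) → Function.Injective f := fun f hf =>
    (injective_iff_map_eq_zero _).2 fun x hx => hB.1 x fun y => by rw [← hf, hx, map_zero, LinearMap.zero_apply]
  obtain ⟨i, j, k, hgu, hsq, h6, hinv⟩ := exists_jordan hV (isoinj g hg)
  have hpowiso : ∀ (n : ℕ) x y, B ((g ^ n) x) ((g ^ n) y) = B x y := by
    intro n
    induction n with
    | zero => simp
    | succ n ih => intro x y; rw [pow_succ', Module.End.mul_apply, Module.End.mul_apply, hg, ih]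
  set s := g ^ i with hs_def
  set si := g ^ k with hsi_def
  set Y := cay (g ^ j) with hY
  have hs : ∀ x y, B (s x) (s y) = B x y := hpowiso i
  have hX : SkewAdj B Y := cay_skew h6 (hpowiso j)
  have hY6 : Y ^ 6 = 0 := cay_pow_eq_zero h6
  have hc : Commute s Y := cay_commute (Commute.pow_pow_self g i j)
  have hgX : g = s * icay Y := by rw [icay, hY, ← eq_of_cay h6]; exact hgu
  have hgs : Commute g s := Commute.self_pow g i
  have hadj : ∀ x y, B (s x) y = B x (si y) := fun x y => by
    conv_lhs => rw [show y = s (si y) by rw [← Module.End.mul_apply, hinv, Module.End.one_apply]]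
    exact hs _ _
  have sk : ∀ x y, B x y = 0 → B y x = 0 := fun x y h => by rw [← LinearMap.IsAlt.neg hA x y, h, neg_zero]
  have comm_aeval : ∀ (R : F[X]) (f : Module.End F V), Commute f s → Commute f (aeval s R) := by
    intro R f hf
    induction R using Polynomial.induction_on' with
    | add a b ha hb => rw [map_add]; exact ha.add_right hb
    | monomial n c => rw [aeval_monomial]; exact (Algebra.commute_algebraMap_right c f).mul_right (hf.pow_right n)
  have invker : ∀ R : F[X], ∀ f : Module.End F V, Commute f s → ∀ x ∈ LinearMap.ker (aeval s R),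
      f x ∈ LinearMap.ker (aeval s R) := fun R f hf x hx => by
    rw [LinearMap.mem_ker] at hx ⊢
    rw [← Module.End.mul_apply, ← (comm_aeval R f hf).eq, Module.End.mul_apply, hx, map_zero]
  have invX : ∀ R : F[X], ∀ (n : ℕ) x, x ∈ LinearMap.ker (aeval s R) → (Y ^ n) x ∈ LinearMap.ker (aeval s R) :=
    fun R n x hx => invker R _ ((hc.pow_right n).symm) x hx
  have planeW : ∀ R : F[X], NondegOn B (LinearMap.ker (aeval s R)) →
      (finrank F (LinearMap.ker (aeval s R)) = 2 ∨ finrank F (LinearMap.ker (aeval s R)) = 4) → Plane B g :=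
    fun R hn hd => plane_of_nondeg hB hA hV hg hd hn (invker R g hgs)
  obtain ⟨m, hm5, hm, hm'⟩ := exists_index hY6
  have hbeta : ∃ x y, B ((Y ^ m) x) y ≠ 0 := by
    by_contra h
    push Not at h
    exact hm' (LinearMap.ext fun x => hB.1 _ (h x))
  have twoend : ∀ (a b : V) (M : Fin 4 → F), s a = M 0 • a + M 1 • b → s b = M 2 • a + M 3 • b →
      B ((Y ^ m) a) a * B ((Y ^ m) b) b - B ((Y ^ m) a) b * B ((Y ^ m) b) a ≠ 0 → Plane B g ∨ Rest e B g := by
    intro a b M hsa hsb hdet
    rcases two_gen hB hA hV hg hgX hX hc hm M hsa hsb hdet with h | ⟨M', a', b', h3, h1, h2, h4⟩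
    · exact Or.inl h
    · exact Or.inr (Or.inr (Or.inr ⟨s, Y, M', a', b', hs, hX, h3, hc, h1, h2, h4, hgX⟩))
  -- an irreducible factor of the minimal polynomial of the semisimple part
  obtain ⟨p, hpm, hp, hpdvd⟩ := Polynomial.exists_monic_irreducible_factor (minpoly F s) (minpoly.not_isUnit F s)
  haveI : Fact (Irreducible p) := ⟨hp⟩
  obtain ⟨q, hq⟩ := hpdvd
  set U := LinearMap.ker (aeval s p) with hU
  have hint : IsIntegral F s := IsIntegral.of_finite F s
  have hU0 : U ≠ ⊥ := by
    intro hbot
    have hinjp : Function.Injective (aeval s p) := LinearMap.ker_eq_bot.1 hbot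
    have hq0 : q ≠ 0 := fun h => minpoly.ne_zero hint (by rw [hq, h, mul_zero])
    have h0 : aeval s q = 0 := LinearMap.ext fun x => hinjp (by
      rw [← Module.End.mul_apply, ← map_mul, ← hq, minpoly.aeval, LinearMap.zero_apply,
        map_zero])
    have h1 := natDegree_le_of_dvd (minpoly.dvd F s h0) hq0
    rw [hq, natDegree_mul hp.ne_zero hq0] at h1
    have := hp.natDegree_pos
    omega
  have hdvdU : p.natDegree ∣ finrank F U :=
    natDegree_dvd_finrank s (invker p s (Commute.refl s)) fun x hx => LinearMap.mem_ker.1 hx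
  have hz : AdjoinRoot.root p ≠ 0 := fun h0 => by
    obtain ⟨w, hw, hw0⟩ := Submodule.exists_mem_ne_zero_of_ne_bot hU0
    have hXd : p ∣ X := AdjoinRoot.mk_eq_zero.1 (by rw [AdjoinRoot.mk_X, h0])
    obtain ⟨c, hc'⟩ := hXd
    have h1 : aeval s (X : F[X]) w = 0 := by
      rw [hc', mul_comm, map_mul, Module.End.mul_apply, LinearMap.mem_ker.1 hw, map_zero]
    rw [aeval_X] at h1
    exact hw0 (isoinj s hs (by rw [h1, map_zero]))
  by_cases hself : p ∣ rev p
  · -- a self-reciprocal factor
    have hnd : NondegOn B U := ker_nondeg hs hB hA hsq p fun x y hy => range_perp_self hs hB hself x y hy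
    have heven := SympInv.even_finrank B (finrank F U) U le_rfl (fun w _ => hA w) hnd
    have := Submodule.finrank_le U
    have := Submodule.one_le_finrank_iff.2 hU0
    by_cases h24 : finrank F U = 2 ∨ finrank F U = 4
    · exact Or.inl (planeW p hnd h24)
    have hU6 : finrank F U = 6 := by obtain ⟨w, hw⟩ := heven; omega
    rw [hU6] at hdvdU
    have hUtop : U = ⊤ := Submodule.eq_top_of_finrank_eq (by omega)
    have hp0 : aeval s p = 0 := LinearMap.ext fun x => LinearMap.mem_ker.1 (show x ∈ U by rw [hUtop]; exact Submodule.mem_top)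
    have hinvroot : aeval (AdjoinRoot.root p)⁻¹ p = 0 := rev_root hz (by
      rw [AdjoinRoot.aeval_eq, AdjoinRoot.mk_eq_zero]; exact hself)
    have hd6 : p.natDegree ≤ 6 := Nat.le_of_dvd (by norm_num) hdvdU
    rcases (show p.natDegree = 1 ∨ 2 ≤ p.natDegree by have := hp.natDegree_pos; omega) with h1 | h2le
    · -- `s` is a scalar
      rw [Polynomial.eq_X_add_C_of_natDegree_le_one h1.le] at hp0
      rw [show p.coeff 1 = 1 by rw [← h1]; exact hpm.coeff_natDegree, map_one, one_mul] at hp0
      set c := -p.coeff 0 with hc0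
      have hsc : ∀ x, s x = c • x := fun x => by
        have := LinearMap.congr_fun hp0 x
        rw [map_add, aeval_X, aeval_C, LinearMap.add_apply, Module.algebraMap_end_apply, LinearMap.zero_apply,
          add_eq_zero_iff_eq_neg] at this
        rw [this, hc0, neg_smul]
      rcases Nat.even_or_odd m with hev | hodd
      · obtain ⟨x, y, hxy⟩ := hbeta
        refine twoend x y ![c, 0, 0, c] (by simp [hsc]) (by simp [hsc]) ?_
        rw [even_self hA hX h2 hev, beta_comm hA hX m x y, hev.neg_one_pow]
        simpa [even_self hA hX h2 hev] using hxy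
      · obtain ⟨y, hy⟩ : ∃ y, B ((Y ^ m) y) y ≠ 0 := by
          by_contra h
          push Not at h
          obtain ⟨x, y, hxy⟩ := hbeta
          have h' := h (x + y)
          simp only [map_add, LinearMap.add_apply, h, beta_comm hA hX m x y, hodd.neg_one_pow] at h'
          exact hxy ((mul_eq_zero.1 (show (2 : F) * B ((Y ^ m) x) y = 0 by linear_combination h')).resolve_left h2)
        rcases one_gen hB hA hV hg hgX hX hc hm hodd hy (hsc y) with h | rfl
        · exact Or.inl h
        refine Or.inr (Or.inr (Or.inl ⟨c, Y, y, ?_, hX, hY6, hy, ?_⟩))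
        · obtain ⟨x, y', hxy⟩ : ∃ x y, B x y ≠ 0 := by
            obtain ⟨x, hx⟩ := exists_ne (0 : V)
            by_contra h
            push Not at h
            exact hx (hB.1 x (h x))
          have h := hs x y'
          rw [hsc, hsc, map_smul, map_smul, LinearMap.smul_apply, smul_eq_mul, smul_eq_mul, ← mul_assoc] at h
          exact mul_right_cancel₀ hxy (by rw [h, one_mul])
        · rw [hgX]
          refine LinearMap.ext fun x => ?_
          rw [Module.End.mul_apply, hsc, LinearMap.smul_apply]
    obtain ⟨l, hl, hlz⟩ := inv_orbit hinvroot h2le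
    have hnoeig : ∀ (c : F) (x : V), s x = c • x → x = 0 := by
      intro c x hx
      by_contra hx0
      have h1 : (aeval s p) x = p.eval c • x := by
        have : ∀ R : F[X], (aeval s R) x = R.eval c • x := by
          intro R
          induction R using Polynomial.induction_on' with
          | add a b ha hb => rw [map_add, LinearMap.add_apply, ha, hb, eval_add, add_smul]
          | monomial n d =>
            have hpow : ∀ n : ℕ, (s ^ n) x = c ^ n • x := by
              intro n
              induction n with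
              | zero => simp
              | succ n ih => rw [pow_succ', Module.End.mul_apply, ih, map_smul, hx, smul_smul, ← pow_succ]
            rw [aeval_monomial, Module.End.mul_apply, Module.algebraMap_end_apply, hpow, eval_monomial, smul_smul]
        exact this p
      rw [hp0, LinearMap.zero_apply] at h1
      have : p.natDegree = 1 := natDegree_eq_of_degree_eq_some (degree_eq_one_of_irreducible_of_root hp
        ((smul_eq_zero.1 h1.symm).resolve_right hx0))
      omega
    rcases (show p.natDegree = 2 ∨ p.natDegree = 6 by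
      have hl4 : l = 1 ∨ l = 2 ∨ l = 3 := by omega
      rcases hl4 with rfl | rfl | rfl <;> rw [hl] at hdvdU ⊢ <;> omega) with hd2 | hd6'
    · -- quadratic
      have hp2 : p = X ^ 2 + C (p.coeff 1) * X + C (p.coeff 0) := by
        have e := hpm.as_sum
        rw [hd2] at e
        simp [Finset.sum_range_succ] at e
        linear_combination e
      set t := -p.coeff 1 with ht
      set c₀ := p.coeff 0 with hc₀
      have hrev : rev p = C c₀ * X ^ 2 + C (p.coeff 1) * X + 1 := by
        have h2' : p.coeff 2 = 1 := by rw [← hd2]; exact hpm.coeff_natDegree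
        rw [rev, hd2]
        simp [Finset.sum_range_succ, h2', hc₀]
      have hc1 : c₀ = 1 := by
        have hdv : p ∣ rev p - C c₀ * p := dvd_sub hself (Dvd.intro_left _ rfl)
        have heq : rev p - C c₀ * p = C (p.coeff 1 - c₀ * p.coeff 1) * X + C (1 - c₀ * c₀) := by
          rw [hrev]
          simp only [map_sub, map_mul, map_one]
          linear_combination -(C c₀) * hp2
        rw [heq] at hdv
        have h0 : C (p.coeff 1 - c₀ * p.coeff 1) * X + C (1 - c₀ * c₀) = 0 := by
          by_contra hne
          have := natDegree_le_of_dvd hdv hne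
          have := natDegree_linear_le (a := p.coeff 1 - c₀ * p.coeff 1) (b := 1 - c₀ * c₀)
          omega
        have e1 := congrArg (fun r => coeff r 1) h0
        have e0 := congrArg (fun r => coeff r 0) h0
        simp [coeff_one] at e0 e1
        rcases mul_self_eq_one_iff.1 (show c₀ * c₀ = 1 by linear_combination -e0) with h | h
        · exact h
        · exfalso
          have ht0 : p.coeff 1 = 0 := (mul_eq_zero.1 (show (2 : F) * p.coeff 1 = 0 by
            rw [h] at e1; linear_combination e1)).resolve_left h2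
          have hr : p.eval 1 = 0 := by rw [hp2]; simp [ht0, h]
          have : p.natDegree = 1 := natDegree_eq_of_degree_eq_some (degree_eq_one_of_irreducible_of_root hp hr)
          omega
      have hss : ∀ x, s (s x) = t • s x - x := fun x => by
        have := LinearMap.congr_fun hp0 x
        rw [hp2, hc1] at this
        simp [pow_two, Module.algebraMap_end_apply] at this
        rw [ht, neg_smul, ← sub_eq_zero, ← this]
        abel
      have ht4 : t * t - 4 ≠ 0 := fun h4 => by
        have hr : p.eval (t / 2) = 0 := by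
          rw [hp2, hc1, show p.coeff 1 = -t by rw [ht, neg_neg]]
          simp
          field_simp
          linear_combination -h4
        have : p.natDegree = 1 := natDegree_eq_of_degree_eq_some (degree_eq_one_of_irreducible_of_root hp hr)
        omega
      have hsb : ∀ y, s (s y) = (![0, 1, -1, t] : Fin 4 → F) 2 • y + (![0, 1, -1, t] : Fin 4 → F) 3 • s y :=
        fun y => by rw [hss]; simp; abel
      have hsm : ∀ x y, B ((Y ^ m) (s x)) (s y) = B ((Y ^ m) x) y := fun x y => by
        rw [← Module.End.mul_apply, ← (hc.pow_right m).eq, Module.End.mul_apply, hs]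
      have hsym : ∀ x y, B ((Y ^ m) (s x)) y = B ((Y ^ m) x) (t • y - s y) := fun x y => by
        rw [← hsm x (t • y - s y), map_sub, map_smul, hss, sub_sub_cancel]
      rcases Nat.even_or_odd m with hev | hodd
      · obtain ⟨y, hy⟩ : ∃ y, B ((Y ^ m) y) (s y) ≠ 0 := by
          by_contra h
          push Not at h
          obtain ⟨x, y, hxy⟩ := hbeta
          have key : ∀ u v, B ((Y ^ m) u) (t • v - (2 : F) • s v) = 0 := fun u v => by
            have h' := h (u + v)
            simp only [map_add, LinearMap.add_apply, h] at h'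
            rw [beta_comm hA hX m (s u) v, hev.neg_one_pow, hsym] at h'
            rw [two_smul, sub_add_eq_sub_sub, map_sub]
            linear_combination -h'
          have hinj2 : Function.Injective (t • (1 : Module.End F V) - (2 : F) • s) := by
            refine (injective_iff_map_eq_zero _).2 fun v hv => hnoeig (t / 2) v ?_
            simp at hv
            rw [sub_eq_zero] at hv
            rw [div_eq_inv_mul, mul_smul, hv, smul_smul, inv_mul_cancel₀ h2, one_smul]
          obtain ⟨v, rfl⟩ := LinearMap.injective_iff_surjective.1 hinj2 y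
          exact hxy (by simpa using key x v)
        refine twoend y (s y) ![0, 1, -1, t] (by simp) (hsb y) ?_
        rw [even_self hA hX h2 hev, beta_comm hA hX m y (s y), hev.neg_one_pow]
        simpa using hy
      · obtain ⟨y, hy⟩ : ∃ y, B ((Y ^ m) y) y ≠ 0 := by
          by_contra h
          push Not at h
          obtain ⟨x, y, hxy⟩ := hbeta
          have h' := h (x + y)
          simp only [map_add, LinearMap.add_apply, h, beta_comm hA hX m x y, hodd.neg_one_pow] at h'
          exact hxy ((mul_eq_zero.1 (show (2 : F) * B ((Y ^ m) x) y = 0 by linear_combination h')).resolve_left h2)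
        refine twoend y (s y) ![0, 1, -1, t] (by simp) (hsb y) ?_
        have e1 : B ((Y ^ m) (s y)) y = B ((Y ^ m) y) (s y) := by rw [beta_comm hA hX m, hodd.neg_one_pow]; ring
        have e2 : 2 * B ((Y ^ m) y) (s y) = t * B ((Y ^ m) y) y := by
          have := hsym y y
          rw [e1, map_sub, map_smul, smul_eq_mul] at this
          linear_combination this
        rw [e1, hsm]
        intro h0
        refine mul_ne_zero (mul_ne_zero hy hy) ht4 ?_
        linear_combination (-4 : F) * h0 -
          (2 * B ((Y ^ m) y) (s y) + t * B ((Y ^ m) y) y) * e2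
    · -- irreducible of degree six
      refine Or.inr (Or.inl ?_)
      haveI : Module.Finite F (AdjoinRoot p) := (AdjoinRoot.powerBasis hp.ne_zero).finite
      haveI : Finite (AdjoinRoot p) := Module.finite_of_finite F
      obtain ⟨φ⟩ := FiniteField.nonempty_algHom_of_finrank_dvd (F := F) (K := AdjoinRoot (U3.f e)) (L := AdjoinRoot p)
        (by rw [(AdjoinRoot.powerBasis hp.ne_zero).finrank, (AdjoinRoot.powerBasis hfi.ne_zero).finrank,
          AdjoinRoot.powerBasis_dim, AdjoinRoot.powerBasis_dim, hd6', U3.f_natDegree]; norm_num)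
      set θ := φ (AdjoinRoot.root (U3.f e))
      have hθ0 : aeval θ (U3.f e) = 0 := by rw [aeval_algHom_apply, AdjoinRoot.aeval_eq, AdjoinRoot.mk_self, map_zero]
      obtain ⟨h, hh⟩ := AdjoinRoot.mk_surjective θ
      set ρ := rho s hp0
      have hT : aeval s h = ρ θ := by rw [← hh]; rfl
      have hsi : si = ρ (AdjoinRoot.root p)⁻¹ := by
        calc si = ρ ((AdjoinRoot.root p)⁻¹ * AdjoinRoot.root p) * si := by rw [inv_mul_cancel₀ hz, map_one, one_mul]
          _ = ρ (AdjoinRoot.root p)⁻¹ * (s * si) := by rw [map_mul, rho_root, mul_assoc]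
          _ = _ := by rw [hinv, mul_one]
      refine ⟨aeval s h, comm_aeval h g hgs, fun x y => ?_, ?_⟩
      · rw [adjoint_aeval hadj h x y, hT, hsi, aeval_algHom_apply]
        congr 3
        have hl3 : l = 3 := by omega
        haveI : Fintype (AdjoinRoot p) := Fintype.ofFinite _
        rw [hlz, hl3]
        have : ∀ n, aeval (AdjoinRoot.root p ^ (Fintype.card F ^ n)) h = (aeval (AdjoinRoot.root p) h) ^ (Fintype.card F ^ n) := by
          intro n
          induction n with
          | zero => simp
          | succ n ih =>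
            rw [pow_succ, pow_mul, pow_mul, ← ih]
            exact (aeval_algHom_apply (FiniteField.frobeniusAlgHom F (AdjoinRoot p)) _ h)
        rw [this, AdjoinRoot.aeval_eq, hh, pow_card_root hθ0]
      · rw [hT, aeval_algHom_apply, hθ0, map_zero]
  · -- a pair of factors
    have hcop : IsCoprime p (rev p) := (hp.coprime_iff_not_dvd).2 hself
    obtain ⟨α, β, hbez⟩ := hcop
    set U' := LinearMap.ker (aeval s (rev p)) with hU'
    set W := LinearMap.ker (aeval s (p * rev p)) with hW
    have hnd : NondegOn B W := ker_nondeg hs hB hA hsq _ fun x y hy => range_perp_pair hs hB hA x y hy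
    have hdec : ∀ x, aeval s (β * rev p) x + aeval s (α * p) x = x := fun x => by
      rw [← LinearMap.add_apply, ← map_add, add_comm, hbez, map_one, Module.End.one_apply]
    have hinjs : Function.Injective (s ^ p.natDegree) := isoinj _ (by
      have : s ^ p.natDegree = g ^ (i * p.natDegree) := by rw [hs_def, ← pow_mul]
      rw [this]; exact hpowiso _)
    have hTI : ∀ x ∈ U, ∀ y ∈ U, B x y = 0 := by
      intro x hx y hy
      rw [LinearMap.mem_ker] at hx hy
      have hy' : y = aeval s (rev p) (aeval s β y) := by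
        conv_lhs => rw [← hdec y]
        rw [map_mul _ α p, Module.End.mul_apply, hy, map_zero, add_zero, mul_comm, map_mul, Module.End.mul_apply]
      obtain ⟨x', rfl⟩ := LinearMap.injective_iff_surjective.1 hinjs x
      rw [hy', rev_rel hs]
      have : aeval s p x' = 0 := hinjs (by
        rw [map_zero, ← Module.End.mul_apply, (comm_aeval p _ ((Commute.refl s).pow_left _)).eq,
          Module.End.mul_apply, hx])
      rw [this, map_zero, LinearMap.zero_apply]
    have hTI' : ∀ x ∈ U', ∀ y ∈ U', B x y = 0 := by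
      intro x hx y hy
      rw [LinearMap.mem_ker] at hx hy
      have hy' : y = aeval s p (aeval s α y) := by
        conv_lhs => rw [← hdec y]
        rw [map_mul _ β (rev p), Module.End.mul_apply, hy, map_zero, zero_add, mul_comm, map_mul, Module.End.mul_apply]
      obtain ⟨x', rfl⟩ := LinearMap.injective_iff_surjective.1 hinjs x
      rw [hy', ← LinearMap.IsAlt.neg hA, ← rev_rel hs, hx, map_zero, neg_zero]
    have hUW : U ≤ W := fun x hx => by
      rw [LinearMap.mem_ker] at hx ⊢
      rw [mul_comm, map_mul, Module.End.mul_apply, hx, map_zero]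
    have hU'W : U' ≤ W := fun x hx => by
      rw [LinearMap.mem_ker] at hx ⊢
      rw [map_mul, Module.End.mul_apply, hx, map_zero]
    have hWdec : ∀ x ∈ W, aeval s (β * rev p) x ∈ U ∧ aeval s (α * p) x ∈ U' := fun x hx => by
      rw [LinearMap.mem_ker] at hx
      constructor
      · rw [LinearMap.mem_ker, ← Module.End.mul_apply, ← map_mul, mul_left_comm, map_mul, Module.End.mul_apply, hx,
          map_zero]
      · rw [LinearMap.mem_ker, ← Module.End.mul_apply, ← map_mul, mul_left_comm, mul_comm (rev p), map_mul,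
          Module.End.mul_apply, hx, map_zero]
    have hinf : U ⊓ U' = ⊥ := (Submodule.eq_bot_iff _).2 fun x ⟨hx, hx'⟩ => by
      rw [SetLike.mem_coe, LinearMap.mem_ker] at hx hx'
      rw [← hdec x, map_mul, map_mul, Module.End.mul_apply, Module.End.mul_apply, hx, hx', map_zero, map_zero, add_zero]
    have hsupW : U ⊔ U' = W := le_antisymm (sup_le hUW hU'W) fun x hx => by
      rw [← hdec x]
      exact Submodule.add_mem_sup (hWdec x hx).1 (hWdec x hx).2
    have halfle : ∀ A A' : Submodule F V, A ≤ W → A ⊔ A' = W → (∀ x ∈ A, ∀ y ∈ A, B x y = 0) →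
        finrank F A ≤ finrank F A' := by
      intro A A' hAW hsup hiso
      let D : A →ₗ[F] Module.Dual F A' := LinearMap.compl₂ (LinearMap.comp B A.subtype) A'.subtype
      have hD : Function.Injective D := (injective_iff_map_eq_zero _).2 fun x hx => by
        by_contra h0
        obtain ⟨y, hy, hxy⟩ := hnd x (hAW x.2) (fun h => h0 (Subtype.ext h))
        rw [← hsup] at hy
        obtain ⟨u, hu, v, hv, rfl⟩ := Submodule.mem_sup.1 hy
        refine hxy ?_
        rw [map_add, hiso _ x.2 u hu, show B (x : V) v = 0 from LinearMap.congr_fun hx ⟨v, hv⟩, add_zero]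
      exact (LinearMap.finrank_le_finrank_of_injective hD).trans_eq Subspace.dual_finrank_eq
    have heq : finrank F U = finrank F U' :=
      le_antisymm (halfle U U' hUW hsupW hTI) (halfle U' U hU'W (by rw [sup_comm, hsupW]) hTI')
    have hWd : finrank F W = finrank F U + finrank F U := by
      have := Submodule.finrank_sup_add_finrank_inf_eq U U'
      rw [hsupW, hinf, finrank_bot] at this
      omega
    have := Submodule.finrank_le W
    have := Submodule.one_le_finrank_iff.2 hU0
    by_cases h24 : finrank F W = 2 ∨ finrank F W = 4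
    · exact Or.inl (planeW _ hnd h24)
    have hWtop : W = ⊤ := Submodule.eq_top_of_finrank_eq (by omega)
    have hdecU : ∀ x, aeval s (β * rev p) x ∈ U := fun x => (hWdec x (hWtop ▸ Submodule.mem_top)).1
    have hdecU' : ∀ x, aeval s (α * p) x ∈ U' := fun x => (hWdec x (hWtop ▸ Submodule.mem_top)).2
    rw [show finrank F U = 3 by omega] at hdvdU
    rcases (Nat.dvd_prime Nat.prime_three).1 hdvdU with h1 | hd3
    · -- two eigenspaces
      set c := -p.coeff 0 with hc0
      have hsU : ∀ x ∈ U, s x = c • x := fun x hx => by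
        rw [LinearMap.mem_ker, Polynomial.eq_X_add_C_of_natDegree_le_one h1.le,
          show p.coeff 1 = 1 by rw [← h1]; exact hpm.coeff_natDegree] at hx
        simp [Module.algebraMap_end_apply, add_eq_zero_iff_eq_neg] at hx
        rw [hx, hc0, neg_smul]
      have hsU' : ∀ x ∈ U', x = c • s x := fun x hx => by
        rw [LinearMap.mem_ker, rev, h1] at hx
        simp [Finset.sum_range_succ, Module.algebraMap_end_apply,
          show p.coeff 1 = 1 by rw [← h1]; exact hpm.coeff_natDegree] at hx
        rw [hc0, neg_smul, ← add_eq_zero_iff_eq_neg, add_comm]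
        exact hx
      have hcn : c ≠ 0 := fun h0 => by
        obtain ⟨w, hw, hw0⟩ := Submodule.exists_mem_ne_zero_of_ne_bot hU0
        exact hw0 (isoinj s hs (by rw [hsU w hw, h0, zero_smul, map_zero]))
      have hbU : ∀ a ∈ U, ∀ b ∈ U, B ((Y ^ m) a) b = 0 := fun a ha b hb => hTI _ (invX p m a ha) b hb
      have hbU' : ∀ a ∈ U', ∀ b ∈ U', B ((Y ^ m) a) b = 0 := fun a ha b hb => hTI' _ (invX (rev p) m a ha) b hb
      obtain ⟨a, ha, b, hb, hab⟩ : ∃ a ∈ U, ∃ b ∈ U', B ((Y ^ m) a) b ≠ 0 := by
        by_contra h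
        push Not at h
        obtain ⟨x, y, hxy⟩ := hbeta
        refine hxy ?_
        rw [← hdec x, ← hdec y]
        simp only [map_add, LinearMap.add_apply]
        rw [hbU _ (hdecU x) _ (hdecU y), h _ (hdecU x) _ (hdecU' y), hbU' _ (hdecU' x) _ (hdecU' y),
          beta_comm hA hX m (aeval s (β * rev p) y), h _ (hdecU y) _ (hdecU' x)]
        ring
      refine twoend a b ![c, 0, 0, c⁻¹] (by simp [hsU a ha]) ?_ ?_
      · have := hsU' b hb
        simp
        conv_rhs => rw [this, smul_smul, inv_mul_cancel₀ hcn, one_smul]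
      · rw [hbU a ha a ha, hbU' b hb b hb, beta_comm hA hX m a b]
        rw [mul_zero, zero_sub, neg_ne_zero]
        exact mul_ne_zero hab (mul_ne_zero (neg_ne_zero.2 (pow_ne_zero _ (neg_ne_zero.2 one_ne_zero))) hab)
    · -- two irreducible cubic factors
      refine Or.inr (Or.inl ?_)
      haveI : Module.Finite F (AdjoinRoot p) := (AdjoinRoot.powerBasis hp.ne_zero).finite
      haveI : Finite (AdjoinRoot p) := Module.finite_of_finite F
      obtain ⟨φ⟩ := FiniteField.nonempty_algHom_of_finrank_dvd (F := F) (K := AdjoinRoot (U3.f e)) (L := AdjoinRoot p)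
        (by rw [(AdjoinRoot.powerBasis hp.ne_zero).finrank, (AdjoinRoot.powerBasis hfi.ne_zero).finrank,
          AdjoinRoot.powerBasis_dim, AdjoinRoot.powerBasis_dim, hd3, U3.f_natDegree])
      set θ := φ (AdjoinRoot.root (U3.f e))
      have hθ0 : aeval θ (U3.f e) = 0 := by rw [aeval_algHom_apply, AdjoinRoot.aeval_eq, AdjoinRoot.mk_self, map_zero]
      obtain ⟨h, hh⟩ := AdjoinRoot.mk_surjective θ
      have hfh : p ∣ (U3.f e).comp h := by
        rw [← AdjoinRoot.mk_eq_zero, comp_eq_aeval, ← AdjoinRoot.coe_mkₐ, ← aeval_algHom_apply, AdjoinRoot.coe_mkₐ,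
          hh, hθ0]
      set A := aeval s (h * (β * rev p)) with hAdef
      set A' := aeval si (h * (β * rev p)) with hA'def
      have hAA' : ∀ x y, B (A x) y = B x (A' y) := adjoint_aeval hadj _
      have hA'A : ∀ x y, B (A' x) y = B x (A y) := fun x y => by
        rw [← LinearMap.IsAlt.neg hA, ← hAA', LinearMap.IsAlt.neg hA]
      have hAU : ∀ x, A x ∈ U := fun x => by
        rw [hAdef, map_mul, Module.End.mul_apply]
        exact invker p _ ((comm_aeval h s (Commute.refl s)).symm) _ (hdecU x)
      have hsis : Commute si s := by rw [hsi_def, hs_def]; exact Commute.pow_pow_self g k i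
      have hgsi : Commute g si := Commute.self_pow g k
      have hgA' : Commute g A' := by
        rw [hA'def]
        induction (h * (β * rev p)) using Polynomial.induction_on' with
        | add a b ha hb => rw [map_add]; exact ha.add_right hb
        | monomial n c =>
          rw [aeval_monomial]; exact (Algebra.commute_algebraMap_right c g).mul_right (hgsi.pow_right n)
      set T := A + A' with hTdef
      have hTsym : ∀ x y, B (T x) y = B x (T y) := fun x y => by
        simp only [hTdef, LinearMap.add_apply, map_add, hAA', hA'A]; ring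
      have hTs : Commute T s := by
        refine ((comm_aeval _ s (Commute.refl s)).symm).add_left ?_
        rw [hA'def]
        induction (h * (β * rev p)) using Polynomial.induction_on' with
        | add a b ha hb => rw [map_add]; exact ha.add_left hb
        | monomial n c =>
          rw [aeval_monomial]; exact ((Algebra.commute_algebraMap_left c s)).mul_left (hsis.pow_left n)
      have hTU : ∀ x ∈ U, T x = aeval s h x := by
        intro x hx
        have hA'x : A' x = 0 := hB.1 _ fun y => by rw [hA'A]; exact hTI x hx _ (hAU y)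
        rw [LinearMap.mem_ker] at hx
        conv_rhs => rw [← hdec x, map_mul _ α p, Module.End.mul_apply, hx, map_zero, add_zero]
        rw [hTdef, LinearMap.add_apply, hA'x, add_zero, hAdef, map_mul, Module.End.mul_apply]
      refine ⟨T, (comm_aeval _ g hgs).add_right hgA', hTsym, ?_⟩
      have hfU : ∀ x ∈ U, aeval T (U3.f e) x = 0 := by
        intro x hx
        have key : ∀ R : F[X], ∀ x ∈ U, aeval T R x = aeval s (R.comp h) x := by
          intro R
          induction R using Polynomial.induction_on with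
          | C c => intro x _; simp
          | add a b ha hb => intro x hx; simp [ha x hx, hb x hx]
          | monomial n c hn =>
            intro x hx
            rw [pow_succ, ← mul_assoc, map_mul, aeval_X, Module.End.mul_apply, hTU x hx,
              hn _ (invker p _ ((comm_aeval h s (Commute.refl s)).symm) x hx)]
            conv_rhs => rw [mul_comp, X_comp, map_mul, Module.End.mul_apply]
        obtain ⟨q', hq'⟩ := hfh
        rw [key _ x hx, hq', mul_comm, map_mul, Module.End.mul_apply, LinearMap.mem_ker.1 hx, map_zero]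
      refine LinearMap.ext fun x => ?_
      rw [LinearMap.zero_apply, ← hdec x, map_add, hfU _ (hdecU x), zero_add]
      refine hB.1 _ fun y => ?_
      rw [← hdec y, map_add]
      have hself' : ∀ u v, B (aeval T (U3.f e) u) v = B u (aeval T (U3.f e) v) := adjoint_aeval hTsym _
      rw [hself', hfU _ (hdecU y), map_zero, zero_add]
      exact hTI' _ (invker (rev p) _ (by
        induction (U3.f e) using Polynomial.induction_on' with
        | add a b ha hb => rw [map_add]; exact ha.add_left hb
        | monomial n c =>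
          rw [aeval_monomial]; exact ((Algebra.commute_algebraMap_left c s)).mul_left (hTs.pow_left n)) _ (hdecU' x))
        _ (hdecU' y)

end Cfsg.Lib.Cover.Sp6
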