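import Cfsg.Agent.Lib.Cover.Field
import Cfsg.Agent.Lib.Linear.SymplecticDecomp

/-!
# Skew nilpotent maps of alternating spaces: cyclic subspaces and normal bases
-/

set_option autoImplicit false

namespace Cfsg.Lib.Cover.Sp6

open Module Cfsg.Lib.Linear Cfsg.Lib.Linear.Symp
open scoped Matrix

variable {F V : Type*} [Field F] [AddCommGroup V] [Module F V] [FiniteDimensional F V]
  {B : LinearMap.BilinForm F V}

/-- A skew map. -/
def SkewAdj (B : LinearMap.BilinForm F V) (X : Module.End F V) : Prop := ∀ x y, B (X x) y = -B x (X y)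

/-- An invariant non-degenerate plane. -/
def Plane (B : LinearMap.BilinForm F V) (g : Module.End F V) : Prop :=
  ∃ W : Submodule F V, finrank F W = 2 ∧ NondegOn B W ∧ ∀ x ∈ W, g x ∈ W

omit [FiniteDimensional F V] in
theorem skew_pow {X : Module.End F V} (hX : SkewAdj B X) (i : ℕ) (x y : V) :
    B ((X ^ i) x) y = (-1) ^ i * B x ((X ^ i) y) := by
  induction i generalizing x y with
  | zero => simp
  | succ i ih =>
    conv_lhs => rw [pow_succ', Module.End.mul_apply, hX, ih]
    rw [← Module.End.mul_apply, ← pow_succ, pow_succ (-1 : F)]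
    ring

omit [FiniteDimensional F V] in
theorem gram_pow {X : Module.End F V} (hX : SkewAdj B X) (i j : ℕ) (x y : V) :
    B ((X ^ i) x) ((X ^ j) y) = (-1) ^ j * B ((X ^ (i + j)) x) y := by
  rw [add_comm i j, pow_add, Module.End.mul_apply, skew_pow hX j, ← mul_assoc, ← pow_add, ← two_mul, pow_mul,
    neg_one_sq, one_pow, one_mul]

/-- The family `X^i a_j`. -/
def fam (X : Module.End F V) {k : ℕ} (m : ℕ) (a : Fin k → V) (p : Fin (m + 1) × Fin k) : V :=
  (X ^ (p.1 : ℕ)) (a p.2)

omit [FiniteDimensional F V] in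
theorem fam_coeff {X : Module.End F V} (hX : SkewAdj B X) {k m : ℕ} (hm : X ^ (m + 1) = 0) (a : Fin k → V)
    (hdet : ∀ c : Fin k → F, (∀ l, ∑ j, c j * B ((X ^ m) (a j)) (a l) = 0) → c = 0)
    (c : Fin (m + 1) × Fin k → F) (h : ∀ p, B (∑ r, c r • fam X m a r) (fam X m a p) = 0) : c = 0 := by
  suffices key : ∀ i : ℕ, ∀ (hi : i < m + 1) (j : Fin k), c (⟨i, hi⟩, j) = 0 from
    funext fun p => key p.1 p.1.2 p.2
  intro i
  induction i using Nat.strong_induction_on with
  | _ i ih =>
    intro hi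
    refine congrFun (hdet (fun j => c (⟨i, hi⟩, j)) fun l => ?_)
    have h1 := h (⟨m - i, by omega⟩, l)
    simp only [fam, map_sum, LinearMap.sum_apply, map_smul, LinearMap.smul_apply, smul_eq_mul, gram_pow hX] at h1
    rw [Fintype.sum_prod_type, Finset.sum_eq_single (⟨i, hi⟩ : Fin (m + 1))] at h1
    · have e : i + (m - i) = m := by omega
      simp only [e] at h1
      have h2 : (-1 : F) ^ (m - i) ≠ 0 := pow_ne_zero _ (neg_ne_zero.2 one_ne_zero)
      refine (mul_eq_zero.1 ?_).resolve_left h2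
      rw [Finset.mul_sum, ← h1]
      exact Finset.sum_congr rfl fun j _ => by ring
    · intro r _ hr
      refine Finset.sum_eq_zero fun j _ => ?_
      rcases lt_or_gt_of_ne (fun e => hr (Fin.ext e) : (r : ℕ) ≠ i) with hlt | hgt
      · rw [show c (r, j) = 0 from ih r hlt r.2 j, zero_mul]
      · rw [pow_eq_zero_of_le (show m + 1 ≤ (r : ℕ) + (m - i) by omega) hm, LinearMap.zero_apply, map_zero,
          LinearMap.zero_apply, mul_zero, mul_zero]
    · intro h; exact absurd (Finset.mem_univ _) h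

omit [FiniteDimensional F V] in
theorem fam_linearIndependent {X : Module.End F V} (hX : SkewAdj B X) {k m : ℕ} (hm : X ^ (m + 1) = 0)
    (a : Fin k → V) (hdet : ∀ c : Fin k → F, (∀ l, ∑ j, c j * B ((X ^ m) (a j)) (a l) = 0) → c = 0) :
    LinearIndependent F (fam X m a) :=
  Fintype.linearIndependent_iff.2 fun c hc => congrFun (fam_coeff hX hm a hdet c fun p => by
    rw [hc, map_zero, LinearMap.zero_apply])

/-- The span of the family: dimension, non-degeneracy, invariance. -/
theorem fam_span {X : Module.End F V} (hX : SkewAdj B X) {k m : ℕ} (hm : X ^ (m + 1) = 0) (a : Fin k → V)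
    (hdet : ∀ c : Fin k → F, (∀ l, ∑ j, c j * B ((X ^ m) (a j)) (a l) = 0) → c = 0) (s : Module.End F V)
    (hs : Commute s X) (hsa : ∀ j, s (a j) ∈ Submodule.span F (Set.range a)) :
    ∃ W : Submodule F V, finrank F W = (m + 1) * k ∧ NondegOn B W ∧ (∀ x ∈ W, X x ∈ W) ∧ ∀ x ∈ W, s x ∈ W := by
  classical
  refine ⟨Submodule.span F (Set.range (fam X m a)), ?_, ?_, ?_, ?_⟩
  · rw [finrank_span_eq_card (fam_linearIndependent hX hm a hdet), Fintype.card_prod, Fintype.card_fin,
      Fintype.card_fin]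
  · intro x hx hx0
    by_contra hc
    push Not at hc
    obtain ⟨c, rfl⟩ := (Submodule.mem_span_range_iff_exists_fun F).1 hx
    exact hx0 (by rw [fam_coeff hX hm a hdet c fun p => hc _ (Submodule.subset_span ⟨p, rfl⟩)]; simp)
  · refine fun x hx => (Submodule.span_le
      (p := Submodule.comap X (Submodule.span F (Set.range (fam X m a))))).2 ?_ hx
    rintro _ ⟨⟨i, j⟩, rfl⟩
    show X ((X ^ (i : ℕ)) (a j)) ∈ Submodule.span F (Set.range (fam X m a))
    rw [← Module.End.mul_apply, ← pow_succ']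
    by_cases hi : (i : ℕ) + 1 < m + 1
    · exact Submodule.subset_span ⟨(⟨i + 1, hi⟩, j), rfl⟩
    · rw [pow_eq_zero_of_le (by omega) hm, LinearMap.zero_apply]
      exact Submodule.zero_mem _
  · refine fun x hx => (Submodule.span_le
      (p := Submodule.comap s (Submodule.span F (Set.range (fam X m a))))).2 ?_ hx
    rintro _ ⟨⟨i, j⟩, rfl⟩
    show s ((X ^ (i : ℕ)) (a j)) ∈ Submodule.span F (Set.range (fam X m a))
    rw [← Module.End.mul_apply, (hs.pow_right _).eq, Module.End.mul_apply]
    obtain ⟨c, hc⟩ := (Submodule.mem_span_range_iff_exists_fun F).1 (hsa j)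
    rw [← hc, map_sum]
    exact Submodule.sum_mem _ fun l _ => by
      rw [map_smul]; exact Submodule.smul_mem _ _ (Submodule.subset_span ⟨(i, l), rfl⟩)

/-- In dimension six an invariant non-degenerate subspace of dimension two or four gives a plane. -/
theorem plane_of_nondeg (hB : B.Nondegenerate) (hA : B.IsAlt) (hV : finrank F V = 6) {g : Module.End F V}
    (hg : ∀ x y, B (g x) (g y) = B x y) {W : Submodule F V} (hd : finrank F W = 2 ∨ finrank F W = 4)
    (hW : NondegOn B W) (hgW : ∀ x ∈ W, g x ∈ W) : Plane B g := by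
  rcases hd with hd | hd
  · exact ⟨W, hd, hW, hgW⟩
  have sk : ∀ x y, B x y = 0 → B y x = 0 := fun x y h => by rw [← LinearMap.IsAlt.neg hA x y, h, neg_zero]
  have hinj : Function.Injective g := (injective_iff_map_eq_zero _).2 fun x hx => hB.1 x fun y => by
    rw [← hg, hx, map_zero, LinearMap.zero_apply]
  set P := LinearMap.BilinForm.orthogonal B W with hP
  have memP : ∀ x, x ∈ P ↔ ∀ w ∈ W, B w x = 0 := fun x => LinearMap.BilinForm.mem_orthogonal_iff
  have hdisj : Disjoint W P := Submodule.disjoint_def.2 fun x hx hxP => by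
    by_contra h0
    obtain ⟨y, hy, hxy⟩ := hW x hx h0
    exact hxy (sk _ _ ((memP x).1 hxP y hy))
  have hPd : finrank F P = 2 := by
    rw [hP, LinearMap.BilinForm.finrank_orthogonal hB]; omega
  have hsup : W ⊔ P = ⊤ := Submodule.eq_top_of_finrank_eq (by
    have := Submodule.finrank_sup_add_finrank_inf_eq W P
    rw [hdisj.eq_bot, finrank_bot] at this
    omega)
  refine ⟨P, hPd, fun x hx hx0 => ?_, fun x hx => (memP _).2 fun w hw => ?_⟩
  · by_contra hc
    push Not at hc
    refine hx0 (hB.1 x fun y => ?_)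
    obtain ⟨w, hw, z, hz, rfl⟩ := Submodule.mem_sup.1 (show y ∈ W ⊔ P by rw [hsup]; exact Submodule.mem_top)
    rw [map_add, sk _ _ ((memP x).1 hx w hw), hc z hz, add_zero]
  · obtain ⟨z, hz⟩ := (LinearMap.injective_iff_surjective (f := g.restrict hgW)).1
      (fun a b h => Subtype.ext (hinj (congrArg Subtype.val h))) ⟨w, hw⟩
    rw [show w = g z from (congrArg Subtype.val hz).symm, hg]
    exact (memP x).1 hx z z.2

/-- An isometry carrying one frame to another with the same Gram matrix. -/
theorem exists_frame (hB : B.Nondegenerate) {ι : Type*} [Fintype ι] [Nonempty ι]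
    (hι : Fintype.card ι = finrank F V) (v v' : ι → V) (hv : LinearIndependent F v)
    (hG : ∀ i j, B (v' i) (v' j) = B (v i) (v j)) : ∃ t ∈ iso B, ∀ i, t (v i) = v' i := by
  classical
  let b := basisOfLinearIndependentOfCardEqFinrank hv hι
  have hb : ∀ i, b i = v i := fun i => by rw [coe_basisOfLinearIndependentOfCardEqFinrank]
  let L : V →ₗ[F] V := b.constr F v'
  have hL : ∀ i, L (b i) = v' i := fun i => b.constr_basis F v' i
  have hiso : ∀ x y, B (L x) (L y) = B x y := by
    have : (B.comp L L : LinearMap.BilinForm F V) = B := LinearMap.BilinForm.ext_basis b fun i j => by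
      rw [LinearMap.BilinForm.comp_apply, hL, hL, hG, hb, hb]
    exact fun x y => LinearMap.congr_fun (LinearMap.congr_fun this x) y
  have hi : Function.Injective L := (injective_iff_map_eq_zero _).2 fun x hx => hB.1 x fun y => by
    rw [← hiso, hx, map_zero, LinearMap.zero_apply]
  exact ⟨LinearEquiv.ofInjectiveEndo L hi, hiso, fun i => by rw [← hb]; exact hL i⟩

omit [FiniteDimensional F V] in
theorem ext_frame {ι : Type*} [Fintype ι] {v : ι → V} (hv : LinearIndependent F v)
    (hι : Fintype.card ι = finrank F V) {f g : V →ₗ[F] V} (h : ∀ i, f (v i) = g (v i)) [FiniteDimensional F V] :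
    f = g :=
  LinearMap.ext_on (hv.span_eq_top_of_card_eq_finrank' hι) (by rintro _ ⟨i, rfl⟩; exact h i)

/-! ### The Cayley transform of a unipotent map in characteristic three -/

/-- The Cayley transform. -/
def cay (u : Module.End F V) : Module.End F V :=
  -((u - 1) + (u - 1) ^ 2 + (u - 1) ^ 3 + (u - 1) ^ 4 + (u - 1) ^ 5)

omit [FiniteDimensional F V] in
theorem cay_commute {u s : Module.End F V} (h : Commute s u) : Commute s (cay u) := by
  have h1 : Commute s (u - 1) := h.sub_right (Commute.one_right _)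
  exact ((((h1.add_right (h1.pow_right 2)).add_right (h1.pow_right 3)).add_right (h1.pow_right 4)).add_right
    (h1.pow_right 5)).neg_right

variable [CharP F 3]

omit [FiniteDimensional F V] in
theorem cay_rel {u : Module.End F V} (h6 : (u - 1) ^ 6 = 0) : u * (1 - cay u) = 1 + cay u := by
  set Y : Polynomial F := Polynomial.X with hY
  have e : (1 + Y) * (1 - -(Y + Y ^ 2 + Y ^ 3 + Y ^ 4 + Y ^ 5)) =
      1 + -(Y + Y ^ 2 + Y ^ 3 + Y ^ 4 + Y ^ 5) + Y ^ 6 := by
    have h3 : (3 : Polynomial F) = 0 := by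
      rw [show (3 : Polynomial F) = Polynomial.C (3 : F) from (map_ofNat _ 3).symm,
        show (3 : F) = 0 by exact_mod_cast CharP.cast_eq_zero F 3, map_zero]
    linear_combination (Y + Y ^ 2 + Y ^ 3 + Y ^ 4 + Y ^ 5) * h3
  rw [hY] at e
  have e' := congrArg (Polynomial.aeval (u - 1)) e
  simp only [map_mul, map_add, map_sub, map_neg, map_pow, map_one, Polynomial.aeval_X, h6, add_zero,
    add_sub_cancel] at e'
  exact e'

omit [FiniteDimensional F V] in
theorem cay_mul {u : Module.End F V} (h6 : (u - 1) ^ 6 = 0) : cay u * (u + 1) = u - 1 := by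
  have h := cay_rel h6
  have hc := (cay_commute (Commute.refl u)).eq
  rw [mul_sub, mul_one, hc] at h
  calc cay u * (u + 1) = (1 + cay u) + cay u * u - 1 := by rw [mul_add, mul_one]; abel
    _ = u - 1 := by rw [← h]; abel

omit [FiniteDimensional F V] in
theorem cay_pow_eq_zero {u : Module.End F V} {k : ℕ} (hk : (u - 1) ^ k = 0) : cay u ^ k = 0 := by
  have e : cay u = (u - 1) * -(1 + (u - 1) + (u - 1) ^ 2 + (u - 1) ^ 3 + (u - 1) ^ 4) := by
    rw [cay]; simp only [mul_neg, mul_add, mul_one, ← pow_succ', ← pow_two]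
  have hc : Commute (u - 1) (-(1 + (u - 1) + (u - 1) ^ 2 + (u - 1) ^ 3 + (u - 1) ^ 4)) :=
    (((((Commute.one_right _).add_right (Commute.refl _)).add_right ((Commute.refl _).pow_right 2)).add_right
      ((Commute.refl _).pow_right 3)).add_right ((Commute.refl _).pow_right 4)).neg_right
  rw [e, hc.mul_pow, hk, zero_mul]

omit [FiniteDimensional F V] in
theorem cay_pow_ne_zero {u : Module.End F V} (h6 : (u - 1) ^ 6 = 0) {k : ℕ} (hk : (u - 1) ^ k ≠ 0) :
    cay u ^ k ≠ 0 := by
  intro h
  have hc : Commute (cay u) (u + 1) := ((cay_commute (Commute.refl u)).symm).add_right (Commute.one_right _)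
  exact hk (by rw [← cay_mul h6, hc.mul_pow, h, zero_mul])

theorem cay_skew {u : Module.End F V} (h6 : (u - 1) ^ 6 = 0) (hu : ∀ x y, B (u x) (u y) = B x y) :
    SkewAdj B (cay u) := by
  have h3 : (3 : F) = 0 := by exact_mod_cast CharP.cast_eq_zero F 3
  have hinj : Function.Injective ⇑(u + 1 : Module.End F V) := (injective_iff_map_eq_zero _).2 fun x hx => by
    have h1 : (u - 1) x = x := by
      rw [LinearMap.sub_apply, Module.End.one_apply, sub_eq_iff_eq_add]
      rw [LinearMap.add_apply, Module.End.one_apply, add_eq_zero_iff_eq_neg] at hx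
      rw [hx, neg_eq_iff_add_eq_zero]
      calc x + (x + x) = (3 : F) • x := by module
        _ = 0 := by rw [h3, zero_smul]
    have h2 : ∀ k : ℕ, ((u - 1) ^ k) x = x := by
      intro k
      induction k with
      | zero => simp
      | succ k ih => rw [pow_succ, Module.End.mul_apply, h1, ih]
    rw [← h2 6, h6, LinearMap.zero_apply]
  intro x y
  obtain ⟨p, rfl⟩ := LinearMap.injective_iff_surjective.1 hinj x
  obtain ⟨q, rfl⟩ := LinearMap.injective_iff_surjective.1 hinj y
  rw [← Module.End.mul_apply, ← Module.End.mul_apply, cay_mul h6]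
  simp only [LinearMap.sub_apply, LinearMap.add_apply, Module.End.one_apply, map_sub, map_add, hu]
  ring

omit [FiniteDimensional F V] in
/-- The unipotent map from its Cayley transform. -/
theorem eq_of_cay {u : Module.End F V} (h6 : (u - 1) ^ 6 = 0) :
    u = (1 + cay u) * (1 + cay u + cay u ^ 2 + cay u ^ 3 + cay u ^ 4 + cay u ^ 5) := by
  have h := cay_pow_eq_zero h6
  have e : (1 - cay u) * (1 + cay u + cay u ^ 2 + cay u ^ 3 + cay u ^ 4 + cay u ^ 5) = 1 - cay u ^ 6 := by
    noncomm_ring
  calc u = u * ((1 - cay u) * (1 + cay u + cay u ^ 2 + cay u ^ 3 + cay u ^ 4 + cay u ^ 5)) := by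
        rw [e, h, sub_zero, mul_one]
    _ = _ := by rw [← mul_assoc, cay_rel h6]

/-! ### Normal bases -/

theorem three0 : (3 : F) = 0 := by exact_mod_cast CharP.cast_eq_zero F 3

omit [FiniteDimensional F V] in
/-- A vector with regular Gram sequence `d, 0, 0`. -/
theorem reg_normal {X : Module.End F V} (hX : SkewAdj B X) (h6 : X ^ 6 = 0) {y : V}
    (hy : B ((X ^ 5) y) y ≠ 0) :
    ∃ z, B ((X ^ 5) z) z = B ((X ^ 5) y) y ∧ B ((X ^ 3) z) z = 0 ∧ B (X z) z = 0 := by
  have h3 := three0 (F := F)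
  have hz : ∀ n, 6 ≤ n → ∀ x w, B ((X ^ n) x) w = 0 := fun n hn x w => by
    rw [pow_eq_zero_of_le hn h6, LinearMap.zero_apply, map_zero, LinearMap.zero_apply]
  have expand : ∀ (n : ℕ) (z : V) (k : ℕ) (c : F),
      B ((X ^ n) (z + c • (X ^ k) z)) (z + c • (X ^ k) z) =
        B ((X ^ n) z) z + c * ((1 + (-1) ^ k) * B ((X ^ (n + k)) z) z) +
          c ^ 2 * ((-1) ^ k * B ((X ^ (n + k + k)) z) z) := by
    intro n z k c
    have e : (X ^ n) ((X ^ k) z) = (X ^ (n + k)) z := by rw [pow_add, Module.End.mul_apply]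
    simp only [map_add, map_smul, LinearMap.add_apply, LinearMap.smul_apply, smul_eq_mul, e, gram_pow hX]
    ring
  set d := B ((X ^ 5) y) y
  set y' := y + (B ((X ^ 3) y) y / d) • (X ^ 2) y with hy'
  have hd' : B ((X ^ 5) y') y' = d := by
    rw [hy', expand, hz (5 + 2) (by omega), hz (5 + 2 + 2) (by omega)]; ring
  have h3' : B ((X ^ 3) y') y' = 0 := by
    rw [hy', expand, hz (3 + 2 + 2) (by omega), show 3 + 2 = 5 from rfl]
    linear_combination B ((X ^ 3) y) y * h3 + 2 * div_mul_cancel₀ (B ((X ^ 3) y) y) hy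
  refine ⟨y' + (B ((X ^ 1) y') y' / d) • (X ^ 4) y', ?_, ?_, ?_⟩
  · rw [expand, hz (5 + 4) (by omega), hz (5 + 4 + 4) (by omega), hd']; ring
  · rw [expand, hz (3 + 4) (by omega), hz (3 + 4 + 4) (by omega), h3']; ring
  · conv_lhs => rw [show X = X ^ 1 from (pow_one X).symm]
    rw [← pow_mul, ← pow_mul]
    rw [show 1 * 4 = 4 from rfl, show 1 * 1 = 1 from rfl, expand, hz (1 + 4 + 4) (by omega),
      show 1 + 4 = 5 from rfl, hd']
    linear_combination B ((X ^ 1) y') y' * h3 + 2 * div_mul_cancel₀ (B ((X ^ 1) y') y') hy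

/-- The data of a pair of cubic blocks with `s` acting by the matrix `m`. -/
structure PairData (B : LinearMap.BilinForm F V) (X s : Module.End F V) (m : Fin 4 → F) (a b : V) : Prop where
  sa : s a = m 0 • a + m 1 • b
  sb : s b = m 2 • a + m 3 • b
  top : B ((X ^ 2) a) b = 1
  oneA : B (X a) a = 0
  oneB : B (X b) b = 0
  oneAB : B (X a) b = 0
  zeroAB : B a b = 0

omit [FiniteDimensional F V] [CharP F 3] in
theorem even_self {X : Module.End F V} (hA : B.IsAlt) (hX : SkewAdj B X) (h2 : (2 : F) ≠ 0) {n : ℕ}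
    (hn : Even n) (a : V) : B ((X ^ n) a) a = 0 := by
  have h : B ((X ^ n) a) a = -B ((X ^ n) a) a := by
    conv_lhs => rw [skew_pow hX, hn.neg_one_pow, one_mul, ← LinearMap.IsAlt.neg hA]
  exact (mul_eq_zero.1 (show (2 : F) * B ((X ^ n) a) a = 0 by linear_combination h)).resolve_left h2

omit [FiniteDimensional F V] in
theorem pair_normal (hA : B.IsAlt) {X s : Module.End F V} (hX : SkewAdj B X) (h3X : X ^ 3 = 0)
    (hc : Commute s X) (hs : ∀ x y, B (s x) (s y) = B x y) (m : Fin 4 → F) {a b : V}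
    (sa : s a = m 0 • a + m 1 • b) (sb : s b = m 2 • a + m 3 • b) (top : B ((X ^ 2) a) b = 1) :
    m 0 * m 3 - m 1 * m 2 = 1 ∧ ∃ a' b', PairData B X s m a' b' := by
  have h3 := three0 (F := F)
  have h2 : (2 : F) ≠ 0 := fun h => one_ne_zero (α := F) (by linear_combination h3 - h)
  have hz : ∀ n, 3 ≤ n → ∀ x w, B ((X ^ n) x) w = 0 := fun n hn x w => by
    rw [pow_eq_zero_of_le hn h3X, LinearMap.zero_apply, map_zero, LinearMap.zero_apply]
  have e2 := even_self hA hX h2 even_two
  have e0 : ∀ x, B x x = 0 := hA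
  have tba : B ((X ^ 2) b) a = -1 := by
    rw [skew_pow hX, neg_one_sq, one_mul, ← LinearMap.IsAlt.neg hA, top]
  have s1 : B (X b) a = B (X a) b := by rw [hX, ← LinearMap.IsAlt.neg hA (X a) b, neg_neg]
  have hs2 : ∀ x y, B ((X ^ 2) (s x)) (s y) = B ((X ^ 2) x) y := fun x y => by
    rw [← Module.End.mul_apply, ← (hc.pow_right 2).eq, Module.End.mul_apply, hs]
  have hs1 : ∀ x y, B (X (s x)) (s y) = B (X x) y := fun x y => by
    rw [← Module.End.mul_apply, ← hc.eq, Module.End.mul_apply, hs]
  have hdet : m 0 * m 3 - m 1 * m 2 = 1 := by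
    have h := hs2 a b
    rw [sa, sb] at h
    simp only [map_add, map_smul, LinearMap.add_apply, LinearMap.smul_apply, smul_eq_mul, e2, top, tba] at h
    linear_combination h
  refine ⟨hdet, ?_⟩
  set S := B (X a) a with hS
  set R := B (X a) b with hR
  set U := B (X b) b with hU
  have i1 := hs1 a a
  have i2 := hs1 a b
  have i3 := hs1 b b
  rw [sa] at i1
  rw [sa, sb] at i2
  rw [sb] at i3
  simp only [map_add, map_smul, LinearMap.add_apply, LinearMap.smul_apply, smul_eq_mul, s1, ← hS, ← hR, ← hU]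
    at i1 i2 i3
  -- the correction commutes with `m`
  obtain ⟨a₁, ha₁⟩ : ∃ x, x = a + (R • X a + (-S) • X b) := ⟨_, rfl⟩
  obtain ⟨b₁, hb₁⟩ : ∃ x, x = b + (U • X a + (-R) • X b) := ⟨_, rfl⟩
  have hsX : ∀ x, s (X x) = X (s x) := fun x => by rw [← Module.End.mul_apply, hc.eq, Module.End.mul_apply]
  have sa₁ : s a₁ = m 0 • a₁ + m 1 • b₁ := by
    rw [ha₁, hb₁]
    simp only [map_add, map_smul, hsX, sa, sb]
    match_scalars
    · ring
    · ring
    all_goals
      first
        | linear_combination m 3 * i1 - m 1 * i2 - (S * m 0 + R * m 1) * hdet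
        | linear_combination -(m 3 * i1 - m 1 * i2 - (S * m 0 + R * m 1) * hdet)
        | linear_combination m 3 * i2 - m 1 * i3 - (S * m 2 + R * m 3) * hdet
        | linear_combination -(m 3 * i2 - m 1 * i3 - (S * m 2 + R * m 3) * hdet)
        | linear_combination -(m 2 * i2) + m 0 * i3 - (R * m 2 + U * m 3) * hdet
        | linear_combination m 2 * i2 - m 0 * i3 + (R * m 2 + U * m 3) * hdet
  have sb₁ : s b₁ = m 2 • a₁ + m 3 • b₁ := by
    rw [ha₁, hb₁]
    simp only [map_add, map_smul, hsX, sa, sb]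
    match_scalars
    · ring
    · ring
    all_goals
      first
        | linear_combination m 3 * i1 - m 1 * i2 - (S * m 0 + R * m 1) * hdet
        | linear_combination -(m 3 * i1 - m 1 * i2 - (S * m 0 + R * m 1) * hdet)
        | linear_combination m 3 * i2 - m 1 * i3 - (S * m 2 + R * m 3) * hdet
        | linear_combination -(m 3 * i2 - m 1 * i3 - (S * m 2 + R * m 3) * hdet)
        | linear_combination -(m 2 * i2) + m 0 * i3 - (R * m 2 + U * m 3) * hdet
        | linear_combination m 2 * i2 - m 0 * i3 + (R * m 2 + U * m 3) * hdet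
  have g : ∀ i j x w, B ((X ^ i) ((X ^ j) x)) w = B ((X ^ (i + j)) x) w := fun i j x w => by
    rw [pow_add, Module.End.mul_apply]
  have e11 : ∀ x w, B (X x) (X w) = -B ((X ^ 2) x) w := fun x w => by
    rw [pow_two, Module.End.mul_apply, hX (X x), neg_neg]
  have e21 : ∀ x w, B (X (X x)) w = B ((X ^ 2) x) w := fun x w => by rw [pow_two, Module.End.mul_apply]
  have e12 : ∀ x w, B (X (X x)) (X w) = 0 := fun x w => by
    rw [← Module.End.mul_apply, ← pow_two, skew_pow hX, ← Module.End.mul_apply, ← pow_succ, h3X]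
    simp
  have e03 : ∀ x w, B ((X ^ 2) (X x)) w = 0 := fun x w => by
    rw [← Module.End.mul_apply, ← pow_succ, h3X, LinearMap.zero_apply, map_zero, LinearMap.zero_apply]
  have top₁ : B ((X ^ 2) a₁) b₁ = 1 := by
    rw [ha₁, hb₁]
    simp only [map_add, map_smul, LinearMap.add_apply, LinearMap.smul_apply, smul_eq_mul, e03, top, mul_zero,
      add_zero]
    simp only [skew_pow hX 2, ← Module.End.mul_apply, ← pow_succ, h3X, LinearMap.zero_apply, map_zero, mul_zero,
      add_zero]
  have oA : B (X a₁) a₁ = 0 := by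
    rw [ha₁]
    simp only [map_add, map_smul, LinearMap.add_apply, LinearMap.smul_apply, smul_eq_mul, e11, e21, e12, e03, e2, top,
      tba, ← hS]
    linear_combination S * h3
  have oB : B (X b₁) b₁ = 0 := by
    rw [hb₁]
    simp only [map_add, map_smul, LinearMap.add_apply, LinearMap.smul_apply, smul_eq_mul, e11, e21, e12, e03, e2, top,
      tba, ← hU]
    linear_combination U * h3
  have oAB : B (X a₁) b₁ = 0 := by
    rw [ha₁, hb₁]
    simp only [map_add, map_smul, LinearMap.add_apply, LinearMap.smul_apply, smul_eq_mul, e11, e21, e12, e03, e2, top,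
      tba, ← hR]
    linear_combination R * h3
  set d := B a₁ b₁ with hd
  have hk : ∀ i, 1 ≤ i → ∀ x w, B ((X ^ i) ((X ^ 2) x)) w = 0 := fun i hi x w => by
    rw [g, hz _ (by omega)]
  refine ⟨a₁ + d • (X ^ 2) a₁, b₁ + d • (X ^ 2) b₁, ⟨?_, ?_, ?_, ?_, ?_, ?_, ?_⟩⟩
  · have := (hc.pow_right 2).eq
    rw [map_add, map_smul, ← Module.End.mul_apply, this, Module.End.mul_apply, sa₁, map_add, map_smul, map_smul]
    module
  · have := (hc.pow_right 2).eq
    rw [map_add, map_smul, ← Module.End.mul_apply, this, Module.End.mul_apply, sb₁, map_add, map_smul, map_smul]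
    module
  all_goals
    have k1 : ∀ x w, B (X ((X ^ 2) x)) w = 0 := fun x w => by simpa using hk 1 le_rfl x w
    have k1' : ∀ x w, B (X x) ((X ^ 2) w) = 0 := fun x w => by
      simpa [hz] using gram_pow hX 1 2 x w
    have k2 : ∀ x w, B ((X ^ 2) x) ((X ^ 2) w) = 0 := fun x w => by
      simp [gram_pow hX, hz]
    have k2' : ∀ x w, B x ((X ^ 2) w) = B ((X ^ 2) x) w := fun x w => by
      rw [skew_pow hX, neg_one_sq, one_mul]
    simp only [map_add, map_smul, LinearMap.add_apply, LinearMap.smul_apply, smul_eq_mul, k1, k1', k2,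
      hk 2 (by omega), g, hz (2 + 2) (by omega), oA, oB, oAB, top₁, mul_zero, add_zero]
  simp only [k2', top₁, ← hd]
  linear_combination d * h3

end Cfsg.Lib.Cover.Sp6
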