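import Cfsg.Agent.Lib.Cover.PSpSixCases

/-!
# The model of `Sp_6(3^a)` over a cubic extension

A self-adjoint root `mT` of `X^3 - X + e`, a regular unipotent isometry and a pair of cubic blocks, both sending
`mT` to `mT + 1`.
-/

set_option autoImplicit false

namespace Cfsg.Lib.Cover.Sp6

open Module Polynomial Cfsg.Lib.Linear
open scoped Matrix

variable {F : Type} [Field F]

/-- The matrices as endomorphisms. -/
noncomputable def em : Matrix (Fin 3 ⊕ Fin 3) (Fin 3 ⊕ Fin 3) F →ₐ[F] Module.End F (Fin 3 ⊕ Fin 3 → F) :=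
  Matrix.toLinAlgEquiv'.toAlgHom

theorem em_apply (M : Matrix (Fin 3 ⊕ Fin 3) (Fin 3 ⊕ Fin 3) F) (x : Fin 3 ⊕ Fin 3 → F) :
    em M x = M *ᵥ x := rfl

theorem spB_elim (a b c d : Fin 3 → F) :
    Symp.spB 3 F (Sum.elim a b) (Sum.elim c d) = -(a ⬝ᵥ d) + b ⬝ᵥ c := by
  rw [Symp.spB_apply, Cfsg.sympForm, Symp.J_mulVec]
  simp [dotProduct, Fintype.sum_sum_type, Fin.sum_univ_three]

theorem elim_cases (x : Fin 3 ⊕ Fin 3 → F) : ∃ a b, x = Sum.elim a b :=
  ⟨x ∘ Sum.inl, x ∘ Sum.inr, (Sum.elim_comp_inl_inr x).symm⟩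

theorem em_elim (A B C D : Matrix (Fin 3) (Fin 3) F) (a b : Fin 3 → F) :
    em (Matrix.fromBlocks A B C D) (Sum.elim a b) = Sum.elim (A *ᵥ a + B *ᵥ b) (C *ᵥ a + D *ᵥ b) := by
  rw [em_apply, Matrix.fromBlocks_mulVec, Sum.elim_comp_inl, Sum.elim_comp_inr]

/-- The self-adjoint cubic root. -/
noncomputable def mT (e : F) : Module.End F (Fin 3 ⊕ Fin 3 → F) :=
  em (Matrix.fromBlocks (U3.T₀ e) 0 0 (U3.T₀ e))

/-- The regular unipotent element. -/
noncomputable def mReg (e d : F) : Module.End F (Fin 3 ⊕ Fin 3 → F) :=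
  em (Matrix.fromBlocks U3.U₀ (d • (U3.T₀ e * U3.T₀ e * U3.U₀)) 0 U3.U₀)

/-- The pair of cubic blocks. -/
noncomputable def mPair : Module.End F (Fin 3 ⊕ Fin 3 → F) := em (Matrix.fromBlocks U3.U₀ 0 0 U3.U₀)

/-- The semisimple part acting on the pair. -/
noncomputable def mSemi (M : Fin 4 → F) : Module.End F (Fin 3 ⊕ Fin 3 → F) :=
  em (Matrix.fromBlocks (M 0 • 1) (-M 2 • 1) (-M 1 • 1) (M 3 • 1))

theorem mT_adjoint (e : F) (x y : Fin 3 ⊕ Fin 3 → F) :
    Symp.spB 3 F (mT e x) y = Symp.spB 3 F x (mT e y) := by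
  obtain ⟨a, b, rfl⟩ := elim_cases x
  obtain ⟨c, d, rfl⟩ := elim_cases y
  rw [mT, em_elim, em_elim, spB_elim, spB_elim]
  simp [dotProduct, Matrix.mulVec, U3.T₀, Fin.sum_univ_three]
  ring

theorem mReg_iso (e d : F) (x y : Fin 3 ⊕ Fin 3 → F) :
    Symp.spB 3 F (mReg e d x) (mReg e d y) = Symp.spB 3 F x y := by
  obtain ⟨a, b, rfl⟩ := elim_cases x
  obtain ⟨c, w, rfl⟩ := elim_cases y
  rw [mReg, em_elim, em_elim, spB_elim, spB_elim]
  simp [dotProduct, Matrix.mulVec, Matrix.mul_apply, U3.T₀, U3.U₀, Fin.sum_univ_three]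
  ring

theorem mPair_iso (x y : Fin 3 ⊕ Fin 3 → F) :
    Symp.spB 3 F (mPair x) (mPair y) = Symp.spB 3 F x y := by
  obtain ⟨a, b, rfl⟩ := elim_cases x
  obtain ⟨c, w, rfl⟩ := elim_cases y
  rw [mPair, em_elim, em_elim, spB_elim, spB_elim]
  simp [dotProduct, Matrix.mulVec, U3.U₀, Fin.sum_univ_three]
  ring

theorem mSemi_iso {M : Fin 4 → F} (hM : M 0 * M 3 - M 1 * M 2 = 1) (x y : Fin 3 ⊕ Fin 3 → F) :
    Symp.spB 3 F (mSemi M x) (mSemi M y) = Symp.spB 3 F x y := by
  obtain ⟨a, b, rfl⟩ := elim_cases x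
  obtain ⟨c, w, rfl⟩ := elim_cases y
  rw [mSemi, em_elim, em_elim, spB_elim, spB_elim]
  simp [dotProduct, Matrix.mulVec, Matrix.one_apply, Fin.sum_univ_three]
  linear_combination (-(a 0 * w 0) - a 1 * w 1 - a 2 * w 2 + b 0 * c 0 + b 1 * c 1 + b 2 * c 2) * hM

theorem mSemi_commute (M : Fin 4 → F) (A : Matrix (Fin 3) (Fin 3) F) :
    Commute (mSemi M) (em (Matrix.fromBlocks A 0 0 A)) := by
  refine Commute.map ?_ em
  show _ * _ = _ * _
  simp [Matrix.fromBlocks_multiply]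

theorem mSemi_mPair (M : Fin 4 → F) : Commute (mSemi M) mPair := mSemi_commute M _

theorem mSemi_mT (e : F) (M : Fin 4 → F) : Commute (mSemi M) (mT e) := mSemi_commute M _

variable [CharP F 3]

theorem mT_root (e : F) : aeval (mT e) (U3.f e) = 0 := by
  have h := U3.aeval_T₀ e
  rw [mT, aeval_algHom_apply]
  suffices h0 : aeval (Matrix.fromBlocks (U3.T₀ e) 0 0 (U3.T₀ e)) (U3.f e) = 0 by rw [h0, map_zero]
  simp only [U3.f, map_add, map_sub, map_pow, aeval_X, aeval_C, Algebra.algebraMap_eq_smul_one, pow_three]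
    at h ⊢
  rw [← Matrix.fromBlocks_one]
  simp only [map_mul, aeval_X, Matrix.fromBlocks_multiply, Matrix.fromBlocks_smul, Matrix.fromBlocks_add, sub_eq_add_neg,
    Matrix.fromBlocks_neg, mul_zero, zero_mul, add_zero, zero_add, neg_zero, smul_zero] at h ⊢
  rw [h, Matrix.fromBlocks_zero]

theorem semiconj_blocks {e : F} (d : F) :
    Matrix.fromBlocks U3.U₀ (d • (U3.T₀ e * U3.T₀ e * U3.U₀)) 0 U3.U₀ * Matrix.fromBlocks (U3.T₀ e) 0 0 (U3.T₀ e) =
      (Matrix.fromBlocks (U3.T₀ e) 0 0 (U3.T₀ e) + 1) *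
        Matrix.fromBlocks U3.U₀ (d • (U3.T₀ e * U3.T₀ e * U3.U₀)) 0 U3.U₀ := by
  have h := U3.U₀_conj e
  rw [one_smul] at h
  have h' : d • (U3.T₀ e * U3.T₀ e * U3.U₀) * U3.T₀ e =
      (U3.T₀ e + 1) * (d • (U3.T₀ e * U3.T₀ e * U3.U₀)) := by
    rw [smul_mul_assoc, mul_smul_comm, mul_assoc (U3.T₀ e * U3.T₀ e), h, ← mul_assoc, ← mul_assoc]
    congr 2
    rw [mul_add, add_mul, mul_one, one_mul, mul_assoc]
  rw [← Matrix.fromBlocks_one, Matrix.fromBlocks_add, Matrix.fromBlocks_multiply, Matrix.fromBlocks_multiply]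
  simp only [mul_zero, zero_mul, add_zero, zero_add, h, h']

theorem mReg_semiconj (e d : F) : mReg e d * mT e = (mT e + 1) * mReg e d := by
  rw [mReg, mT, ← map_one (em (F := F)), ← map_add, ← map_mul, ← map_mul, semiconj_blocks]

theorem mPair_semiconj (e : F) : mPair * mT e = (mT e + 1) * mPair := by
  have h := mReg_semiconj e 0
  rwa [mReg, zero_smul] at h

omit [CharP F 3] in
theorem ring_key {R : Type*} [Ring R] {T U : R} (h3 : (3 : R) = 0) (hUT : U * T = (T + 1) * U)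
    (hU : U * U * U = 1) : (U - 1) * (U - 1) * (T * T * U) + (U - 1) * (T * T * U) * (U - 1) +
      T * T * U * ((U - 1) * (U - 1)) = -1 := by
  have e1 : U * (T * T) = (T * T + T + T + 1) * U := by
    rw [← mul_assoc, hUT, mul_assoc, hUT, ← mul_assoc]
    congr 1
    noncomm_ring
  have e2 : U * U * (T * T) = (T * T + T + T + T + T + 4) * (U * U) := by
    rw [mul_assoc, e1, ← mul_assoc]
    simp only [mul_add, mul_one, ← mul_assoc]
    rw [mul_assoc U T T, e1, hUT]
    noncomm_ring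
  calc _ = U * U * (T * T) * U + U * (T * T) * (U * U) + T * T * (U * U * U) -
        3 * (U * (T * T) * U + T * T * (U * U) - T * T * U) := by noncomm_ring
    _ = (T * T + T + T + T + T + 4 + (T * T + T + T + 1) + T * T) * (U * U * U) := by
        rw [h3, zero_mul, sub_zero, e2, e1]; noncomm_ring
    _ = 3 * (T * T + T + T) + (4 + 1) := by rw [hU]; noncomm_ring
    _ = -1 := by
        rw [h3, zero_mul, zero_add, eq_neg_iff_add_eq_zero, show (4 : R) + 1 + 1 = 3 + 3 by norm_num, h3,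
          add_zero]

theorem mReg_cube (e d : F) :
    (mReg e d - 1) ^ 3 = em (Matrix.fromBlocks 0 (-d • 1) 0 0) := by
  have h3 : (3 : Matrix (Fin 3) (Fin 3) F) = 0 := by
    rw [show (3 : Matrix (Fin 3) (Fin 3) F) = algebraMap F _ (3 : F) from (map_ofNat _ 3).symm, three0, map_zero]
  have hUT : U3.U₀ * U3.T₀ e = (U3.T₀ e + 1) * U3.U₀ := by simpa using U3.U₀_conj e
  have hU : (U3.U₀ : Matrix (Fin 3) (Fin 3) F) * U3.U₀ * U3.U₀ = 1 := by
    ext i j; fin_cases i <;> fin_cases j <;> simp [U3.U₀, Matrix.mul_apply, Fin.sum_univ_three]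
  have hk := ring_key h3 hUT hU
  rw [mReg, ← map_one (em (F := F)), ← map_sub, ← map_pow]
  congr 1
  rw [← Matrix.fromBlocks_one, sub_eq_add_neg, Matrix.fromBlocks_neg, Matrix.fromBlocks_add, pow_three]
  simp only [← sub_eq_add_neg, sub_zero, Matrix.fromBlocks_multiply, mul_zero, zero_mul, add_zero, zero_add,
    U3.U₀_cube]
  congr 1
  rw [← neg_one_smul F (1 : Matrix (Fin 3) (Fin 3) F)] at hk
  simp only [mul_add, smul_mul_assoc, mul_smul_comm, ← mul_assoc, ← smul_add] at hk ⊢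
  rw [show -d • (1 : Matrix (Fin 3) (Fin 3) F) = d • ((-1 : F) • 1) by rw [smul_smul, mul_neg_one], ← hk]

theorem mReg_six (e d : F) : (mReg e d - 1) ^ 6 = 0 := by
  rw [show 6 = 3 + 3 from rfl, pow_add, mReg_cube, ← map_mul, Matrix.fromBlocks_multiply]
  simp

omit [CharP F 3] in
theorem cay_sq {V : Type*} [AddCommGroup V] [Module F V] {u : Module.End F V} (h : (u - 1) ^ 3 = 0) :
    cay u ^ 2 = (u - 1) ^ 2 := by
  have h4 : (u - 1) ^ 4 = 0 := pow_eq_zero_of_le (by norm_num) h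
  have h5 : (u - 1) ^ 5 = 0 := pow_eq_zero_of_le (by norm_num) h
  rw [cay, h, h4, h5, add_zero, add_zero, add_zero, neg_sq]
  calc ((u - 1) + (u - 1) ^ 2) ^ 2 = (u - 1) ^ 2 + 2 • (u - 1) ^ 3 + (u - 1) ^ 4 := by noncomm_ring
    _ = _ := by rw [h, h4, smul_zero, add_zero, add_zero]

omit [CharP F 3] in
theorem cay_five {V : Type*} [AddCommGroup V] [Module F V] {u : Module.End F V} (h : (u - 1) ^ 6 = 0) :
    cay u ^ 5 = -(u - 1) ^ 5 := by
  set N := u - 1 with hN
  set R : Module.End F V := 1 + N + N ^ 2 + N ^ 3 with hR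
  set S : Module.End F V := 1 + N * R with hS
  have hc : Commute N S :=
    (Commute.one_right N).add_right ((Commute.refl N).mul_right (((((Commute.one_right N).add_right
      (Commute.refl N)).add_right (Commute.pow_self N 2).symm).add_right (Commute.pow_self N 3).symm)))
  have e : cay u = -(N * S) := by
    rw [cay, ← hN, hS, hR]; noncomm_ring
  have z : ∀ k, N ^ 5 * S ^ k = N ^ 5 := by
    intro k
    induction k with
    | zero => simp
    | succ k ih =>
      rw [pow_succ S, ← mul_assoc, ih, hS, mul_add, mul_one, ← mul_assoc, ← pow_succ, h, zero_mul, add_zero]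
  rw [e, Odd.neg_pow (by decide), hc.mul_pow, z]

theorem mReg_value (e d : F) :
    ∃ v, Symp.spB 3 F ((cay (mReg e d) ^ 5) v) v = -d := by
  refine ⟨Sum.elim 0 (Pi.single 0 1), ?_⟩
  rw [cay_five (mReg_six e d), show 5 = 3 + 2 from rfl, pow_add, mReg_cube, mReg, ← map_one (em (F := F)),
    ← map_sub, ← map_pow, ← map_mul, LinearMap.neg_apply, ← Matrix.fromBlocks_one, sub_eq_add_neg,
    Matrix.fromBlocks_neg, Matrix.fromBlocks_add, pow_two, Matrix.fromBlocks_multiply, Matrix.fromBlocks_multiply,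
    em_elim, map_neg, LinearMap.neg_apply, spB_elim]
  simp [dotProduct, U3.U₀, Fin.sum_univ_three, Matrix.mulVec, Matrix.mul_apply, Matrix.one_apply]

theorem mPair_cube : ((mPair (F := F)) - 1) ^ 3 = 0 := by
  rw [mPair, ← map_one (em (F := F)), ← map_sub, ← map_pow, ← Matrix.fromBlocks_one, sub_eq_add_neg,
    Matrix.fromBlocks_neg, Matrix.fromBlocks_add, pow_three]
  simp only [← sub_eq_add_neg, sub_zero, Matrix.fromBlocks_multiply, mul_zero, zero_mul, add_zero, zero_add,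
    U3.U₀_cube, Matrix.fromBlocks_zero, map_zero]

/-- The two generators of the model pair. -/
def mA : Fin 3 ⊕ Fin 3 → F := Sum.elim ![1, 1, -1] 0

/-- The second generator of the model pair. -/
def mB : Fin 3 ⊕ Fin 3 → F := Sum.elim 0 (-![1, 1, -1])

omit [CharP F 3] in
theorem mSemi_A (M : Fin 4 → F) : mSemi M (mA (F := F)) = M 0 • mA + M 1 • mB := by
  rw [mSemi, mA, em_elim, mB]
  funext i
  rcases i with i | i <;> fin_cases i <;> simp [Matrix.smul_mulVec, Matrix.neg_mulVec]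

omit [CharP F 3] in
theorem mSemi_B (M : Fin 4 → F) : mSemi M (mB (F := F)) = M 2 • mA + M 3 • mB := by
  rw [mSemi, mB, em_elim, mA]
  funext i
  rcases i with i | i <;> fin_cases i <;> simp [Matrix.smul_mulVec, Matrix.neg_mulVec, Matrix.mulVec_neg]

theorem mPair_value : Symp.spB 3 F ((cay (mPair (F := F)) ^ 2) mA) mB = 1 := by
  have h3 := three0 (F := F)
  rw [cay_sq (mPair_cube (F := F)), mPair, ← map_one (em (F := F)), ← map_sub, ← map_pow, ← Matrix.fromBlocks_one,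
    sub_eq_add_neg, Matrix.fromBlocks_neg, Matrix.fromBlocks_add, pow_two, Matrix.fromBlocks_multiply, mA, mB,
    em_elim, spB_elim]
  simp [dotProduct, U3.U₀, Fin.sum_univ_three, Matrix.mulVec, Matrix.mul_apply, Matrix.one_apply]
  first
    | ring1
    | linear_combination h3
    | linear_combination -h3
    | linear_combination (2 : F) * h3

end Cfsg.Lib.Cover.Sp6
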