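import Cfsg.Agent.Lib.Cover.Field
import Cfsg.Agent.Lib.Linear.HermParabolic
import Cfsg.Agent.Lib.Linear.UnitaryCenter
import Cfsg.Agent.Lib.Linear.UnitarySimple

/-!
# Unitary groups: irreducible isometries and stabilisers of subspaces

An isometry acting irreducibly on a non-degenerate space has odd dimension: its eigenvalues are permuted
by `x ↦ x ^ (-q)`, whose square is the Frobenius map of the field with `q ^ 2` elements.
-/

set_option autoImplicit false

namespace Cfsg.Lib.Cover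

open Polynomial Module Cfsg.Lib.Linear
open scoped Matrix

variable {F : Type*} [Field F] [Fintype F] {q : ℕ} (hF : Fintype.card F = q ^ 2)

include hF in
theorem exists_powHom (L : Type*) [Field L] [Algebra F L] : ∃ τ : L →+* L, ∀ x, τ x = x ^ q := by
  obtain ⟨p, hpK⟩ := CharP.exists F
  obtain ⟨N, hp, hN⟩ := FiniteField.card F p
  haveI := Fact.mk hp
  haveI : CharP L p := charP_of_injective_algebraMap (algebraMap F L).injective p
  obtain ⟨k, -, hk⟩ := (Nat.dvd_prime_pow hp).mp (show q ∣ p ^ (N : ℕ) from hN ▸ hF ▸ dvd_pow_self q two_ne_zero)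
  exact ⟨iterateFrobenius L p k, fun x => by rw [iterateFrobenius_def, hk]⟩

theorem algebraMap_pow_q {L : Type*} [Field L] [Algebra F L] (c : F) :
    algebraMap F L c ^ q = algebraMap F L (Herm.frob hF c) := by
  rw [← map_pow, Herm.frob_apply]

theorem aeval_map_pow {L : Type*} [Field L] [Algebra F L] (p : F[X]) (x : L) :
    aeval x (p.map (Herm.frob hF)) ^ q = aeval (x ^ q) p := by
  obtain ⟨τ, hτ⟩ := exists_powHom hF L
  induction p using Polynomial.induction_on with
  | C c => rw [map_C, aeval_C, aeval_C, algebraMap_pow_q hF, Herm.frob_frob]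
  | add a b ha hb => rw [Polynomial.map_add, map_add, map_add, ← hτ, map_add, hτ, hτ, ha, hb]
  | monomial k c hk =>
    rw [pow_succ, ← mul_assoc, Polynomial.map_mul, map_mul, mul_pow, hk, map_mul, map_mul, map_mul,
      map_X, aeval_X, aeval_X]

variable {n : ℕ}

/-- The reciprocal of the conjugate polynomial, killing what `p` kills on a non-degenerate subspace. -/
theorem exists_reciprocal (g : Module.End F (Fin n → F)) {W : Submodule F (Fin n → F)}
    (hW : ∀ x ∈ W, g x ∈ W) (hiso : ∀ x ∈ W, ∀ y ∈ W, Herm.hB hF n (g x) (g y) = Herm.hB hF n x y)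
    (hnd : ∀ x ∈ W, (∀ y ∈ W, Herm.hB hF n x y = 0) → x = 0) (p : F[X]) (hp : ∀ x ∈ W, aeval g p x = 0) :
    ∃ r : F[X], (∀ x ∈ W, aeval g r x = 0) ∧ ∀ (L : Type) [Field L] [Algebra F L] (z : L),
      z ≠ 0 → aeval z r = 0 → aeval (z⁻¹ ^ q) p = 0 := by
  set B := Herm.hB hF n
  set d := p.natDegree
  refine ⟨∑ i ∈ Finset.range (d + 1), C (Herm.frob hF (p.coeff i)) * X ^ (d - i), ?_, ?_⟩
  · have hpow : ∀ (k : ℕ) (x : Fin n → F), x ∈ W → (g ^ k) x ∈ W := by
      intro k
      induction k with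
      | zero => intro x hx; simpa using hx
      | succ k ih => intro x hx; rw [pow_succ', Module.End.mul_apply]; exact hW _ (ih x hx)
    have hpiso : ∀ (k : ℕ), ∀ x ∈ W, ∀ y ∈ W, B ((g ^ k) x) ((g ^ k) y) = B x y := by
      intro k
      induction k with
      | zero => intro x _ y _; simp
      | succ k ih =>
        intro x hx y hy
        rw [pow_succ', Module.End.mul_apply, Module.End.mul_apply, hiso _ (hpow k x hx) _ (hpow k y hy), ih x hx y hy]
    have hinj : Function.Injective ((g ^ d).restrict (hpow d)) := by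
      refine (injective_iff_map_eq_zero _).2 fun x hx => Subtype.ext (hnd x x.2 fun y hy => ?_)
      have hx' : (g ^ d) (x : Fin n → F) = 0 := congrArg Subtype.val hx
      rw [← hpiso d x x.2 y hy, hx', map_zero, LinearMap.zero_apply]
    have hsurj := LinearMap.injective_iff_surjective.1 hinj
    intro y hy
    refine hnd _ ?_ fun z hz => ?_
    · rw [map_sum, LinearMap.sum_apply]
      refine W.sum_mem fun i _ => ?_
      rw [map_mul, aeval_C, map_pow, aeval_X, Module.End.mul_apply, Module.algebraMap_end_apply]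
      exact W.smul_mem _ (hpow _ y hy)
    obtain ⟨x, hx⟩ := hsurj ⟨z, hz⟩
    have hx' : (g ^ d) (x : Fin n → F) = z := congrArg Subtype.val hx
    refine (Herm.hB_isSymm hF n).isRefl _ _ ?_
    calc B z (aeval g (∑ i ∈ Finset.range (d + 1), C (Herm.frob hF (p.coeff i)) * X ^ (d - i)) y)
        = ∑ i ∈ Finset.range (d + 1), Herm.frob hF (p.coeff i) * B ((g ^ d) (x : Fin n → F)) ((g ^ (d - i)) y) := by
          rw [hx', map_sum, LinearMap.sum_apply, map_sum]
          refine Finset.sum_congr rfl fun i _ => ?_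
          rw [map_mul, aeval_C, map_pow, aeval_X, Module.End.mul_apply, Module.algebraMap_end_apply, map_smul,
            smul_eq_mul]
      _ = ∑ i ∈ Finset.range (d + 1), B (p.coeff i • (g ^ i) (x : Fin n → F)) y := by
          refine Finset.sum_congr rfl fun i hi => ?_
          rw [LinearMap.map_smulₛₗ, LinearMap.smul_apply, smul_eq_mul]
          congr 1
          conv_lhs => rw [show d = (d - i) + i from (Nat.sub_add_cancel (Finset.mem_range_succ_iff.1 hi)).symm,
            pow_add, Module.End.mul_apply, Nat.sub_add_cancel (Finset.mem_range_succ_iff.1 hi)]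
          exact hpiso _ _ (hpow i x x.2) _ hy
      _ = B (aeval g p (x : Fin n → F)) y := by
          rw [aeval_eq_sum_range, LinearMap.sum_apply, map_sum, LinearMap.sum_apply]
          rfl
      _ = 0 := by rw [hp x x.2, map_zero, LinearMap.zero_apply]
  · intro L _ _ z hz h
    rw [← aeval_map_pow hF, zero_pow (show q ≠ 0 by have := Herm.two_le_q hF; omega) |>.symm]
    congr 1
    have h' : z ^ d * aeval z⁻¹ (p.map (Herm.frob hF)) = 0 := by
      rw [← h, map_sum, aeval_eq_sum_range' (n := d + 1) (Nat.lt_succ_of_le natDegree_map_le), Finset.mul_sum]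
      refine Finset.sum_congr rfl fun i hi => ?_
      rw [map_mul, aeval_C, map_pow, aeval_X, coeff_map, Algebra.smul_def, inv_pow,
        pow_sub₀ _ hz (Finset.mem_range_succ_iff.1 hi)]
      ring
    exact (mul_eq_zero.1 h').resolve_left (pow_ne_zero _ hz)

include hF in
set_option maxHeartbeats 800000 in
theorem root_orbit {p : F[X]} [Fact (Irreducible p)] (h : aeval ((AdjoinRoot.root p)⁻¹ ^ q) p = 0) :
    ∃ i : ℕ, (AdjoinRoot.root p)⁻¹ ^ q = AdjoinRoot.root p ^ (Fintype.card F ^ i) ∧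
      (2 * i ≡ 1 [MOD p.natDegree]) ∧ ∀ j, j ≡ i [MOD p.natDegree] →
        (AdjoinRoot.root p)⁻¹ ^ q = AdjoinRoot.root p ^ (Fintype.card F ^ j) := by
  haveI : Module.Finite F (AdjoinRoot p) := (AdjoinRoot.powerBasis (Fact.out : Irreducible p).ne_zero).finite
  haveI : Finite (AdjoinRoot p) := Module.finite_of_finite F
  set z := AdjoinRoot.root p with hz
  let φ : AdjoinRoot p →ₐ[F] AdjoinRoot p := AdjoinRoot.liftAlgHom p (Algebra.ofId F _) (z⁻¹ ^ q) h
  obtain ⟨⟨i, hi⟩, hφ⟩ := (FiniteField.bijective_frobeniusAlgHom_pow F (AdjoinRoot p)).2 φ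
  have hd : Module.finrank F (AdjoinRoot p) = p.natDegree := by
    rw [(AdjoinRoot.powerBasis (Fact.out : Irreducible p).ne_zero).finrank, AdjoinRoot.powerBasis_dim]
  set Fr := FiniteField.frobeniusAlgHom F (AdjoinRoot p)
  have hpow : ∀ (k : ℕ) (x : AdjoinRoot p), (Fr ^ k) x = x ^ (Fintype.card F ^ k) := by
    intro k
    induction k with
    | zero => intro x; simp
    | succ k ih =>
      intro x
      rw [pow_succ, AlgHom.mul_apply, ih, FiniteField.coe_frobeniusAlgHom]
      show (x ^ Fintype.card F) ^ _ = _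
      rw [← pow_mul, pow_succ']
  have hφ' : φ z = z⁻¹ ^ q := AdjoinRoot.liftAlgHom_root _ _ _ _
  have hφeq : Fr ^ i = φ := hφ
  have h2 : Fr ^ (i + i) = Fr ^ 1 := by
    rw [pow_add, hφeq]
    refine AdjoinRoot.algHom_ext ?_
    rw [AlgHom.mul_apply, hφ', map_pow, map_inv₀, hφ', pow_one, ← inv_pow, inv_inv, ← pow_mul, ← pow_two, ← hF]
    rfl
  refine ⟨i, ?_, ?_, fun j hj => ?_⟩
  · rw [← hpow, hφeq, hφ']
  · rw [two_mul, ← hd]
    have hd0 : 0 < Module.finrank F (AdjoinRoot p) := Module.finrank_pos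
    have e : Fr ^ ((i + i) % orderOf Fr) = Fr ^ (1 % orderOf Fr) := by
      rw [pow_mod_orderOf, pow_mod_orderOf, h2]
    rw [FiniteField.orderOf_frobeniusAlgHom] at e
    exact congrArg Fin.val ((FiniteField.bijective_frobeniusAlgHom_pow F (AdjoinRoot p)).1
      (a₁ := ⟨(i + i) % _, Nat.mod_lt _ hd0⟩) (a₂ := ⟨1 % _, Nat.mod_lt _ hd0⟩) e)
  · have hji : Fr ^ j = Fr ^ i := by
      rw [← pow_mod_orderOf Fr j, ← pow_mod_orderOf Fr i, FiniteField.orderOf_frobeniusAlgHom, hd]
      exact congrArg (Fr ^ ·) hj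
    rw [← hpow, hji, hφeq, hφ']

/-- A minimal invariant non-degenerate subspace: its polynomial and the action of `x ↦ x ^ (-q)`. -/
theorem minimal_nondeg {F : Type} [Field F] [Fintype F] {q : ℕ} (hF : Fintype.card F = q ^ 2) {n : ℕ}
    (g : Module.End F (Fin n → F)) {W : Submodule F (Fin n → F)}
    (hW0 : W ≠ ⊥) (hW : ∀ x ∈ W, g x ∈ W)
    (hiso : ∀ x ∈ W, ∀ y ∈ W, Herm.hB hF n (g x) (g y) = Herm.hB hF n x y)
    (hnd : ∀ x ∈ W, (∀ y ∈ W, Herm.hB hF n x y = 0) → x = 0)
    (hmin : ∀ Y : Submodule F (Fin n → F), Y ≤ W → Y ≠ ⊥ → (∀ x ∈ Y, g x ∈ Y) → Y = W) :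
    ∃ p : F[X], p.Monic ∧ Irreducible p ∧ p.natDegree = finrank F W ∧ (∀ x ∈ W, aeval g p x = 0) ∧
      (∀ _ : Fact (Irreducible p), aeval ((AdjoinRoot.root p)⁻¹ ^ q) p = 0) ∧ Odd (finrank F W) := by
  obtain ⟨p, hm, hp, hd, hp0⟩ := exists_irreducible_of_minimal g hW0 hW hmin
  haveI : Fact (Irreducible p) := ⟨hp⟩
  obtain ⟨r, hr, hr'⟩ := exists_reciprocal hF g hW hiso hnd p hp0
  have hdvd : p ∣ r := by
    set gW := g.restrict hW with hgW
    have h1 : aeval gW p = 0 := LinearMap.ext fun x => Subtype.ext (by rw [aeval_restrict, hp0 _ x.2]; rfl)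
    have h2 : aeval gW r = 0 := LinearMap.ext fun x => Subtype.ext (by rw [aeval_restrict, hr _ x.2]; rfl)
    haveI : Nontrivial W := (Submodule.nontrivial_iff_ne_bot).2 hW0
    have h3 : minpoly F gW ∣ p := minpoly.dvd F gW h1
    have h4 := ((hp.dvd_iff).1 h3).resolve_left (minpoly.not_isUnit F gW)
    exact h4.dvd.trans (minpoly.dvd F gW h2)
  have hroot : aeval (AdjoinRoot.root p) r = 0 := by rw [AdjoinRoot.aeval_eq, AdjoinRoot.mk_eq_zero]; exact hdvd
  have hz : AdjoinRoot.root p ≠ 0 := by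
    intro h0
    obtain ⟨w, hw, hw0⟩ := Submodule.exists_mem_ne_zero_of_ne_bot hW0
    have hgp : aeval (g.restrict hW) p = 0 :=
      LinearMap.ext fun x => Subtype.ext (by rw [aeval_restrict, hp0 _ x.2]; rfl)
    have hg0 : g.restrict hW = 0 := by rw [← rho_root _ hgp, h0, map_zero]
    refine hw0 (hnd w hw fun y hy => ?_)
    rw [← hiso w hw y hy, show g w = 0 from congrArg Subtype.val (LinearMap.congr_fun hg0 ⟨w, hw⟩), map_zero,
      LinearMap.zero_apply]
  have h := hr' (AdjoinRoot p) _ hz hroot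
  refine ⟨p, hm, hp, hd, hp0, fun _ => h, ?_⟩
  obtain ⟨i, -, hi, -⟩ := root_orbit hF h
  rw [← hd]
  by_contra hc
  rw [Nat.not_odd_iff_even] at hc
  have := hi.of_dvd (even_iff_two_dvd.1 hc)
  rw [Nat.ModEq] at this
  omega

/-- A subgroup from a submonoid of a finite group. -/
def subgroupOfFinite {G : Type*} [Group G] [Finite G] (S : Submonoid G) : Subgroup G where
  toSubmonoid := S
  inv_mem' {g} hg := by
    rw [inv_eq_of_mul_eq_one_right (a := g) (b := g ^ (orderOf g - 1))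
      (by rw [← pow_succ', Nat.sub_add_cancel (orderOf_pos g), pow_orderOf_eq_one])]
    exact S.pow_mem hg _

/-- The stabiliser of a subspace in `SU_n`. -/
def stW (W : Submodule F (Fin n → F)) : Subgroup (Cfsg.SU n F q) :=
  subgroupOfFinite
    { carrier := {A | ∀ v ∈ W, A.1.1 *ᵥ v ∈ W}
      one_mem' := fun v hv => by simpa using hv
      mul_mem' := fun {a b} ha hb v hv => by
        rw [Subgroup.coe_mul, Matrix.SpecialLinearGroup.coe_mul, ← Matrix.mulVec_mulVec]
        exact ha _ (hb v hv) }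

theorem mem_stW {W : Submodule F (Fin n → F)} {A : Cfsg.SU n F q} :
    A ∈ stW W ↔ ∀ v ∈ W, A.1.1 *ᵥ v ∈ W := Iff.rfl

include hF in
theorem center_le_stW (hn : 2 ≤ n) (W : Submodule F (Fin n → F)) :
    Subgroup.center (Cfsg.SU n F q) ≤ stW W := fun A hA => by
  obtain ⟨c, hc⟩ := Herm.exists_scalar hF hn A.1.1 fun B hB =>
    congrArg (fun C : Cfsg.SU n F q => C.1.1) (Subgroup.mem_center_iff.1 hA ⟨B, hB⟩)
  intro v hv
  have : A.1.1 *ᵥ v = c • v := by rw [hc]; ext i; simp [Matrix.scalar_apply, Matrix.mulVec_diagonal]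
  rw [this]
  exact W.smul_mem c hv

theorem iso_SU (A : Cfsg.SU n F q) (x y : Fin n → F) :
    Herm.hB hF n (A.1.1 *ᵥ x) (A.1.1 *ᵥ y) = Herm.hB hF n x y := A.2 y x

theorem exists_SU {e : (Fin n → F) ≃ₗ[F] (Fin n → F)} (he : e ∈ Herm.iso (Herm.hB hF n))
    (hd : LinearEquiv.det e = 1) : ∃ A : Cfsg.SU n F q, ∀ v, A.1.1 *ᵥ v = e v := by
  have hdet : (LinearMap.toMatrix' (e : (Fin n → F) →ₗ[F] (Fin n → F))).det = 1 := by
    rw [LinearMap.det_toMatrix', ← LinearEquiv.coe_det, hd, Units.val_one]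
  have hmv : ∀ v, LinearMap.toMatrix' (e : (Fin n → F) →ₗ[F] (Fin n → F)) *ᵥ v = e v := fun v => by
    rw [LinearMap.toMatrix'_mulVec]; rfl
  refine ⟨⟨⟨_, hdet⟩, Herm.mem_SU.2 fun u v => ?_⟩, hmv⟩
  show Cfsg.hermForm n F q (_ *ᵥ u) (_ *ᵥ v) = _
  rw [hmv, hmv]
  exact he v u

theorem move_stW {A x : Cfsg.SU n F q} {W W0 : Submodule F (Fin n → F)} (hA : ∀ v ∈ W, A.1.1 *ᵥ v ∈ W)
    (hx : ∀ v ∈ W, x.1.1 *ᵥ v ∈ W0) (hd : finrank F W0 ≤ finrank F W) : x * A * x⁻¹ ∈ stW W0 := by
  have hinv : ∀ v, (x⁻¹).1.1 *ᵥ (x.1.1 *ᵥ v) = v := fun v => by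
    rw [Matrix.mulVec_mulVec, ← Matrix.SpecialLinearGroup.coe_mul, ← Subgroup.coe_mul, inv_mul_cancel,
      Subgroup.coe_one, Matrix.SpecialLinearGroup.coe_one, Matrix.one_mulVec]
  have hinj : Function.Injective (Matrix.mulVecLin x.1.1) := fun a b h => by
    rw [← hinv a, ← hinv b]; exact congrArg _ h
  have himg : W.map (Matrix.mulVecLin x.1.1) = W0 := by
    refine Submodule.eq_of_le_of_finrank_le (Submodule.map_le_iff_le_comap.2 hx) ?_
    rw [(Submodule.equivMapOfInjective _ hinj W).symm.finrank_eq]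
    exact hd
  intro v hv
  rw [← himg] at hv
  obtain ⟨w, hw, rfl⟩ := hv
  rw [Matrix.mulVecLin_apply, Subgroup.coe_mul, Subgroup.coe_mul, Matrix.SpecialLinearGroup.coe_mul,
    Matrix.SpecialLinearGroup.coe_mul, ← Matrix.mulVec_mulVec, ← Matrix.mulVec_mulVec, hinv]
  exact hx _ (hA _ hw)

/-- An isometry scaling an anisotropic vector, of prescribed determinant. -/
theorem exists_qrefl_det (w : Fin n → F) (hw : Herm.hB hF n w w ≠ 0) (z : F) (hz : Herm.frob hF z * z = 1) :
    ∃ D ∈ Herm.iso (Herm.hB hF n), (LinearEquiv.det D : F) = z ∧ ∃ c : F, D w = c • w := by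
  set b := Herm.hB hF n w w with hb
  have hσb : Herm.frob hF b = b := (Herm.hB_isSymm hF n).eq w w
  have hl : (z - 1) / b + Herm.frob hF ((z - 1) / b) + Herm.frob hF ((z - 1) / b) * ((z - 1) / b) * b = 0 := by
    rw [map_div₀, map_sub, map_one, hσb]
    field_simp
    linear_combination hz
  refine ⟨Herm.qrefl w ((z - 1) / b) hl, Herm.qrefl_mem_iso (Herm.hB_isSymm hF n) _ _ _, ?_, z, ?_⟩
  · rw [Herm.det_qrefl, ← hb, div_mul_cancel₀ _ hw]; ring
  · show w + _ = _
    rw [← hb, div_mul_cancel₀ _ hw, sub_smul, one_smul]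
    abel

theorem frob_mul_self_det {e : (Fin n → F) ≃ₗ[F] (Fin n → F)} (he : e ∈ Herm.iso (Herm.hB hF n)) :
    Herm.frob hF (LinearEquiv.det e : F) * (LinearEquiv.det e : F) = 1 := by
  rw [Herm.iso_eq_qreflGroup (Herm.frob_ne_id hF) (Herm.frob_frob hF) (Herm.hB_isSymm hF n)
    (Herm.hB_nondegenerate hF n)] at he
  induction he using Subgroup.closure_induction with
  | mem x hx =>
    obtain ⟨w, l, h, rfl⟩ := hx
    rw [Herm.det_qrefl]
    simp only [map_add, map_one, map_mul, (Herm.hB_isSymm hF n).eq]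
    linear_combination (Herm.hB hF n w w) * h
  | one => simp
  | mul x y _ _ hx hy =>
    rw [map_mul, Units.val_mul, map_mul]
    linear_combination (Herm.frob hF (LinearEquiv.det x : F) * (LinearEquiv.det x : F)) * hy + hx
  | inv x _ hx => rw [map_inv, Units.val_inv_eq_inv_val, map_inv₀, ← mul_inv, hx, inv_one]

/-- `SU_n` is transitive on anisotropic points. -/
theorem exists_move_point {v w : Fin n → F} (hv : Herm.hB hF n v v ≠ 0) (hw : Herm.hB hF n w w ≠ 0) :
    ∃ A : Cfsg.SU n F q, A.1.1 *ᵥ v ∈ Submodule.span F {w} := by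
  have hsym : ∀ u, Herm.hB hF n u u ^ q = Herm.hB hF n u u := fun u => by
    rw [← Herm.frob_apply hF]; exact (Herm.hB_isSymm hF n).eq u u
  obtain ⟨c', hc⟩ := Herm.exists_norm_eq hF (div_ne_zero hw hv) (by rw [div_pow, hsym, hsym])
  set c : F := (c' : F)
  have hw0 : w ≠ 0 := fun h => hw (by rw [h, map_zero])
  have hv0 : v ≠ 0 := fun h => hv (by rw [h, map_zero])
  have hc0 : c ≠ 0 := c'.ne_zero
  let φ : (F ∙ v) →ₗ[F] (Fin n → F) :=
    (LinearMap.toSpanSingleton F _ (c⁻¹ • w)).comp (LinearEquiv.toSpanNonzeroSingleton F _ v hv0).symm.toLinearMap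
  have hφ : ∀ x : F ∙ v, ∃ a : F, (x : Fin n → F) = a • v ∧ φ x = a • c⁻¹ • w := fun x =>
    ⟨(LinearEquiv.toSpanNonzeroSingleton F _ v hv0).symm x, (LinearEquiv.coord_apply_smul F _ v hv0 x).symm, rfl⟩
  obtain ⟨t, ht, htv⟩ := Herm.witt (Herm.frob_ne_id hF) (Herm.frob_frob hF) (Herm.hB_isSymm hF n)
    (Herm.hB_nondegenerate hF n) (F ∙ v) φ (by
      refine (injective_iff_map_eq_zero _).2 fun x hx => ?_
      obtain ⟨a, ha, ha'⟩ := hφ x
      rw [ha', smul_smul, smul_eq_zero] at hx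
      rcases hx with hx | hx
      · exact Subtype.ext (by rw [ha, (mul_eq_zero.1 hx).resolve_right (inv_ne_zero hc0), zero_smul]; rfl)
      · exact absurd hx hw0)
    (by
      intro x y
      obtain ⟨a, ha, ha'⟩ := hφ x
      obtain ⟨b, hb, hb'⟩ := hφ y
      rw [ha, hb, ha', hb']
      simp only [LinearMap.map_smulₛₗ, LinearMap.smul_apply, map_smul, smul_eq_mul, map_inv₀, RingHom.id_apply]
      rw [Herm.frob_apply hF c, show Herm.hB hF n w w = c ^ (q + 1) * Herm.hB hF n v v by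
        rw [hc, div_mul_cancel₀ _ hv]]
      field_simp
      ring)
  have htv' : t v = c⁻¹ • w := by
    obtain ⟨a, ha, ha'⟩ := hφ ⟨v, Submodule.mem_span_singleton_self v⟩
    have : a = 1 := smul_left_injective F hv0 (by simp only [one_smul]; exact ha.symm)
    rw [htv ⟨v, Submodule.mem_span_singleton_self v⟩, ha', this, one_smul]
  have hz := frob_mul_self_det hF ht
  obtain ⟨D, hD, hdet, d, hDw⟩ := exists_qrefl_det hF w hw (LinearEquiv.det t : F)⁻¹
    (by rw [map_inv₀, ← mul_inv, hz, inv_one])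
  obtain ⟨A, hA⟩ := exists_SU hF (mul_mem hD ht) (Units.ext (by
    rw [map_mul, Units.val_mul, hdet, inv_mul_cancel₀ (LinearEquiv.det t).ne_zero, Units.val_one]))
  refine ⟨A, ?_⟩
  rw [hA]
  show D (t v) ∈ _
  rw [htv', map_smul, hDw, smul_smul]
  exact Submodule.smul_mem _ _ (Submodule.mem_span_singleton_self w)

include hF in
theorem stW_point_ne_top (hn : 2 ≤ n) :
    stW (q := q) (Submodule.span F {(Pi.single (⟨0, by omega⟩ : Fin n) (1 : F) : Fin n → F)}) ≠ ⊤ := by
  intro h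
  set i0 : Fin n := ⟨0, by omega⟩
  set i1 : Fin n := ⟨1, by omega⟩
  have hnz : ∀ i : Fin n, Herm.hB hF n (Pi.single i (1 : F)) (Pi.single i (1 : F)) ≠ 0 := fun i => by
    rw [Herm.hB_single_right]; simp
  obtain ⟨A, hA⟩ := exists_move_point hF (hnz i1) (hnz i0)
  have hA0 : A.1.1 *ᵥ Pi.single i0 (1 : F) ∈ Submodule.span F {(Pi.single i0 (1 : F) : Fin n → F)} :=
    (show A ∈ stW _ by rw [h]; exact Subgroup.mem_top A) _ (Submodule.mem_span_singleton_self _)
  obtain ⟨a, ha⟩ := Submodule.mem_span_singleton.1 hA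
  obtain ⟨b, hb⟩ := Submodule.mem_span_singleton.1 hA0
  have hinj : Function.Injective (fun v => A.1.1 *ᵥ v) :=
    Matrix.mulVec_injective_iff_isUnit.2 ((Matrix.isUnit_iff_isUnit_det _).2 (by rw [A.1.2]; exact isUnit_one))
  have h01 : b • (Pi.single i1 (1 : F) : Fin n → F) = a • Pi.single i0 1 := hinj (by
    simp only [Matrix.mulVec_smul, ← ha, ← hb, smul_smul, mul_comm])
  have hne : i1 ≠ i0 := by simp [i0, i1]
  have h1 := congrFun h01 i1
  simp [hne] at h1
  have h2 : A.1.1 *ᵥ (Pi.single i0 (1 : F) : Fin n → F) = A.1.1 *ᵥ 0 := by rw [← hb, h1, zero_smul, Matrix.mulVec_zero]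
  exact (Pi.single_ne_zero_iff (i := i0)).2 (one_ne_zero (α := F)) (hinj h2)

end Cfsg.Lib.Cover
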